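import Cfsg.Agent.H630.ExcB
import Cfsg.Agent.H378.RegTw
import Cfsg.Agent.H378.RegE7
import Cfsg.Agent.BpExc.AsmN_m3
import Cfsg.Agent.H130.WeylCk
import Cfsg.Agent.H130.WeylTab
import Cfsg.Agent.Lib.ListFast
import Cfsg.Agent.H378.SmallTor_m3
import Cfsg.Agent.H129.TorusUntw
import Cfsg.Agent.S1059
import Cfsg.Agent.S1062
import Cfsg.Agent.S1065
import Cfsg.Agent.H129.TwE6Idx
import Cfsg.Agent.S1063
import Cfsg.Agent.S1066
import Cfsg.Agent.H986.EqD.CycL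
import Cfsg.Agent.H129.TriD4
import Cfsg.Agent.S1067
import Cfsg.Agent.FastGrp
import Cfsg.Agent.Prune
set_option linter.all false

section
prune_inst 0x7f00000000000000000000000000000000000000000000000000000000000000000000000000000000000000000000000000000000000000000000000000000000000000000000000000000000000000003fffffffffffffffffffffffffffbeffbdffffffff

-- part: H630/ExcE
section
set_option linter.all false
open scoped Cfsg.Agent.FastGrp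

-- part: H630/ExcC
section
/-!
# `Cond` and twisted tori, continued (helper630)

* `Setup.exists_conj_tX` : if `Cond {r, s} X` and every root is nontrivial on the `r`-subgroup `A` of a twisted torus then
  every `s`-element of `X` is conjugate into the torus;
* `HasTor` : `θ = ε w₁`; `RegAt` : every root is nontrivial on the elements of order `r`;
* `Setup.pow_eq_one` : the resulting bound for the exponent; `Setup.not_cond_reg`;
* `Setup.totient_le` : `Cond {r, s} X`, orders `m ≠ m'` of `q` modulo `r`, `s > l + 1`: `φ(m) + φ(m') ≤ l`.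
-/

set_option autoImplicit false
set_option linter.unusedSectionVars false

namespace Cfsg.Agent.H630.Exc

open CoxeterSystem Cfsg Cfsg.Lie Cfsg.Lie.ChevalleyDatum
open Cfsg.Agent.ChevalleyStructure Cfsg.Agent.ChevalleyStructure.Elts Cfsg.Agent.ChevalleyStructure.CoxeterGeom
  Cfsg.Agent.ChevalleyStructure.CoxeterGeomTypes Cfsg.Agent.ChevalleyStructure.NPerm
open Cfsg.Agent.Tits.Roots Cfsg.Agent.Tits.Core Cfsg.Agent.Nodes Cfsg.Agent.Nodes.Reps Cfsg.Agent.Nodes.BNOf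
  Cfsg.Agent.Nodes.RGDChev Cfsg.Agent.Nodes.Bruhat Cfsg.Agent.Nodes.SubComb Cfsg.Agent.Nodes.Coroot
open Cfsg.Agent.KFacts.RgdField Cfsg.Agent.KFacts.RgdChevCoord Cfsg.Agent.BpExc.TorCent Cfsg.Agent.BpExc.TorChev
open Cfsg.Agent.GpExc.Field Cfsg.Agent.BpExc.Tow Cfsg.Agent.BpExc.TowChev Cfsg.Agent.BpExc.Fr
  Cfsg.Agent.BpExc.LangFr Cfsg.Agent.LangThm Cfsg.Agent.BpExc Cfsg.Agent.H129.TorusChar Cfsg.Agent.H129.TorusMain
open Cfsg.Agent.H129.TorAct (cX_tau tau_mem exists_theta)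
open Cfsg.Agent.H630.NH

universe u v

variable {D : ChevalleyDatum} {l : ℕ} {M : CoxeterMatrix (Fin l)} (hp : IsType D l M) {k : Type u} [Field k]
  {W : Type*} [Group W] (cs : CoxeterSystem M W)

variable {p e : ℕ} [Fact p.Prime] [CharP k p] {σ : MulAut ↥(D.group k)} {g : (Fin l → ℤ) ≃+ (Fin l → ℤ)}
  {X : Type v} [Group X] {e0 : X →* ↥(D.group k)} {d : ℕ} (S : Setup hp cs p e σ g e0 d)

include S

theorem Setup.conj_pow_eq {y : X} {z : ↥(D.group k)} (n : ℕ) : (z⁻¹ * e0 y * z) ^ n = z⁻¹ * e0 (y ^ n) * z := by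
  have h2 := conj_pow (i := n) (a := z⁻¹) (b := e0 y)
  rw [inv_inv] at h2
  rw [h2, map_pow]

/-- **An `s`-element is conjugate into the torus.** -/
theorem Setup.exists_conj_tX [Finite W] [Finite X] {π : Set ℕ} {r s : ℕ} (hrp : r.Prime) (hsp : s.Prime)
    (hr : r ∈ π) (hs : s ∈ π) (hrs : r ≠ s) {z : ↥(D.group k)} (A : Subgroup X) (hA : IsPGroup r A)
    (hAT : A ≤ tX D k e0 z) (hroot : ∀ a, IsRoot cs hp.isCartan a → ∃ x ∈ A, cX hp (z⁻¹ * e0 x * z) a ≠ 1)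
    (hc : Cond π X) {y : X} (hy : ∃ m, orderOf y = s ^ m) : ∃ h : X, h⁻¹ * y * h ∈ tX D k e0 z := by
  have : Fact r.Prime := ⟨hrp⟩
  have : Fact s.Prime := ⟨hsp⟩
  have hNs := S.nsys hp cs
  obtain ⟨h, hh⟩ := exists_conj_le r A hA _ (hc s hs r hr (Ne.symm hrs) y hy)
  obtain ⟨y', hy'⟩ : ∃ y', y' = h⁻¹ * y * h := ⟨_, rfl⟩
  have hyc : ∀ a ∈ A, a * y' = y' * a := by
    intro a ha
    have h2 := hh a ha
    rw [Subgroup.mem_centralizer_singleton_iff] at h2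
    have h3 : a * (h⁻¹ * y * h) = h⁻¹ * (h * a * h⁻¹ * y) * h := by group
    rw [hy', h3, h2]
    group
  have hys : orderOf y' = orderOf y := by
    have := orderOf_injective (MulAut.conj h⁻¹).toMonoidHom (MulAut.conj h⁻¹).injective y
    rw [hy']
    simpa only [_root_.map_inv, _root_.MulEquiv.toMonoidHom_eq_coe, _root_.MonoidHom.coe_coe, _root_.MulAut.inv_apply, _root_.MulAut.conj_symm_apply] using this
  obtain ⟨m, hm⟩ := hy
  obtain ⟨j, hj⟩ := IsPGroup.iff_card.1 hA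
  refine ⟨h, ?_⟩
  rw [← hy', mem_tX]
  refine mem_TT_of_pow hp cs S.lf p hNs (A := (fun x : X => z⁻¹ * e0 x * z) '' (A : Set X))
    ((Set.toFinite _).image _) ?_ ?_ (r := r ^ j) ?_ (m := s ^ m) (pow_pos hsp.pos m)
    (Nat.Coprime.pow _ _ ((Nat.coprime_primes hsp hrp).2 (Ne.symm hrs))) ?_ ?_
  · rintro _ ⟨x, hx, rfl⟩
    exact hAT hx
  · intro a ha
    obtain ⟨x, hx, h1⟩ := hroot a ha
    exact ⟨_, ⟨x, hx, rfl⟩, h1⟩
  · rintro _ ⟨x, hx, rfl⟩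
    have h1 : x ^ r ^ j = 1 := by
      have := pow_card_eq_one' (x := (⟨x, hx⟩ : A))
      rw [hj] at this
      exact congrArg Subtype.val this
    rw [S.conj_pow_eq hp cs, h1, map_one]; group
  · rintro _ ⟨x, hx, rfl⟩
    have h2 := hyc x hx
    calc z⁻¹ * e0 y' * z * (z⁻¹ * e0 x * z) = z⁻¹ * (e0 (y' * x)) * z := by rw [map_mul]; group
      _ = z⁻¹ * (e0 (x * y')) * z := by rw [h2]
      _ = _ := by rw [map_mul]; group
  · rw [S.conj_pow_eq hp cs, ← hm, ← hys, pow_orderOf_eq_one, map_one]; group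

/-- Then it is killed by the exponent of the torus. -/
theorem Setup.pow_eq_one_of [IsAlgClosed k] [Finite W] [Finite X] {π : Set ℕ} {r s : ℕ} (hrp : r.Prime) (hsp : s.Prime)
    (hr : r ∈ π) (hs : s ∈ π) (hrs : r ≠ s) {hN : NSys M (TT D k) (nc hp k)} {w : W} {n z : ↥(D.group k)}
    (hn : Rp cs hN w n) (hz : n = z⁻¹ * σ z) (A : Subgroup X) (hA : IsPGroup r A)
    (hAT : A ≤ tX D k e0 z) (hroot : ∀ a, IsRoot cs hp.isCartan a → ∃ x ∈ A, cX hp (z⁻¹ * e0 x * z) a ≠ 1)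
    {N : ℕ} (hN' : ∀ t ∈ TT D k, (∀ x, cX hp t (theta hp cs w g x) = cX hp t x ^ p ^ e) → t ^ N = 1)
    (hc : Cond π X) {y : X} (hy : ∃ m, orderOf y = s ^ m) : y ^ N = 1 := by
  obtain ⟨h, hh⟩ := S.exists_conj_tX hp cs hrp hsp hr hs hrs A hA hAT hroot hc hy
  have h1 := hN' _ hh ((tau_iff hp cs S.lf S.frob S.fr hn hh).1 (S.tau hp cs hz _))
  rw [S.conj_pow_eq hp cs] at h1
  have h2 : e0 ((h⁻¹ * y * h) ^ N) = 1 := by
    have h3 : e0 ((h⁻¹ * y * h) ^ N) = z * (z⁻¹ * e0 ((h⁻¹ * y * h) ^ N) * z) * z⁻¹ := by group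
    rw [h3, h1]; group
  have h3 : (h⁻¹ * y * h) ^ N = 1 := S.inj (by rw [h2, map_one])
  have h4 := conj_pow (i := N) (a := h⁻¹) (b := y)
  rw [inv_inv] at h4
  rw [h4] at h3
  calc y ^ N = h * (h⁻¹ * y ^ N * h) * h⁻¹ := by group
    _ = 1 := by rw [h3]; group

/-- **Theorem A, second version**: every `s`-element is killed by the exponent of the torus. -/
theorem Setup.pow_eq_one [IsAlgClosed k] [Finite W] [Finite X] {π : Set ℕ} {r s : ℕ} (hrp : r.Prime) (hsp : s.Prime)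
    (hr : r ∈ π) (hs : s ∈ π) (hrs : r ≠ s) (hrc : r ≠ p) (hrd : ¬ r ∣ d) (w : W) {n : ℕ}
    (hθ : ∀ x, (theta hp cs w g)^[n] x = x) (hq : (r : ℤ) ∣ ((p ^ e : ℕ) : ℤ) ^ n - 1)
    (hroot : ∀ a, IsRoot cs hp.isCartan a → ∃ L : (Fin l → ℤ) →+ ℤ, ¬ (r : ℤ) ∣ Lq L (theta hp cs w g) (p ^ e) n a)
    {N : ℕ} (hN : ∀ t ∈ TT D k, (∀ x, cX hp t (theta hp cs w g x) = cX hp t x ^ p ^ e) → t ^ N = 1)
    (hc : Cond π X) {y : X} (hy : ∃ m, orderOf y = s ^ m) : y ^ N = 1 := by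
  have : Fact r.Prime := ⟨hrp⟩
  have hNs := S.nsys hp cs
  obtain ⟨n', hn'⟩ := exists_rp cs hNs w
  obtain ⟨z, hz⟩ := lang_all hp cs S.pos S.frob S.fr 1 n'
  rw [map_one, one_mul] at hz
  have hrk : (r : k) ≠ 0 := by
    rw [Ne, CharP.cast_eq_zero_iff k p]
    intro h
    exact hrc ((Nat.prime_dvd_prime_iff_eq (Fact.out : p.Prime) hrp).1 h).symm
  obtain ⟨B, d', hd', hB⟩ := S.inv
  refine S.pow_eq_one_of hp cs hrp hsp hr hs hrs hn' hz (tXr hp S.inj z r) ?_ (fun x hx => hx.1) ?_ hN hc hy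
  · rintro ⟨x, hx⟩
    exact ⟨1, Subtype.ext (by rw [pow_one]; exact hx.2)⟩
  · intro a ha
    obtain ⟨L, hL⟩ := hroot a ha
    obtain ⟨t, ht, h1, h2, h3⟩ := exists_torsion hp hB hd' hθ hrk hq L hL
    obtain ⟨x, hx⟩ := S.exists_of_tau hp cs hz ((tau_iff hp cs S.lf S.frob S.fr hn' ht).2 h1) hrp hrd ⟨1, by
      rw [pow_one]; exact h2⟩
    refine ⟨x, ⟨by rw [mem_tX, hx]; exact ht, ?_⟩, by rw [hx]; exact h3⟩
    apply S.inj
    rw [map_pow, map_one]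
    have h1 : e0 x = z * t * z⁻¹ := by rw [← hx]; group
    rw [h1, conj_pow, h2]; group

/-- `θ = ε w₁` for some `w`. -/
def HasTor (hp : IsType D l M) (cs : CoxeterSystem M W) (g : (Fin l → ℤ) ≃+ (Fin l → ℤ)) (ε : ℤ) (w1 : W) : Prop :=
  ∃ w : W, ∀ x, theta hp cs w g x = ε • rep cs hp.isCartan w1 x

/-- Every root is nontrivial on the elements of order `r` of the torus. -/
def RegAt {A : Fin l → Fin l → ℤ} (cs : CoxeterSystem M W) (h : IsCartan M A) (w1 : W) (n r : ℕ) (Q : ℤ) : Prop :=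
  ∀ a, IsRoot cs h a → ∃ L : (Fin l → ℤ) →+ ℤ,
    ¬ (r : ℤ) ∣ ∑ j ∈ Finset.range n, Q ^ (n - j) * L ((rep cs h w1 ^ j) a)

omit S in
theorem theta_iter {w w1 : W} {ε : ℤ} (h : ∀ x, theta hp cs w g x = ε • rep cs hp.isCartan w1 x) (j : ℕ)
    (x : Fin l → ℤ) : (theta hp cs w g)^[j] x = ε ^ j • (rep cs hp.isCartan w1 ^ j) x := by
  induction j with
  | zero => rw [Function.iterate_zero_apply, pow_zero, one_smul, pow_zero, Module.End.one_apply]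
  | succ j ih => rw [Function.iterate_succ_apply', ih, map_zsmul, h, smul_smul, pow_succ, pow_succ',
      Module.End.mul_apply]

omit S in
theorem eps_pow_two {ε : ℤ} (hε : ε = 1 ∨ ε = -1) (n : ℕ) : ε ^ (2 * n) = 1 := by
  rcases hε with rfl | rfl
  · rw [one_pow]
  · rw [pow_mul]; norm_num

omit S in
theorem Lq_eq {w w1 : W} {ε : ℤ} (hε : ε = 1 ∨ ε = -1) (h : ∀ x, theta hp cs w g x = ε • rep cs hp.isCartan w1 x)
    {n : ℕ} (hw : rep cs hp.isCartan w1 ^ n = 1) (q : ℕ) {Q : ℤ} (hQ : Q = ε * q) (L : (Fin l → ℤ) →+ ℤ) (a : Fin l → ℤ) :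
    Lq L (theta hp cs w g) q (2 * n) a =
      (Q ^ n + 1) * ∑ j ∈ Finset.range n, Q ^ (n - j) * L ((rep cs hp.isCartan w1 ^ j) a) := by
  unfold Lq
  have h1 : ∀ j ∈ Finset.range (2 * n), (q : ℤ) ^ (2 * n - j) * L ((theta hp cs w g)^[j] a) =
      Q ^ (2 * n - j) * L ((rep cs hp.isCartan w1 ^ j) a) := by
    intro j hj
    rw [Finset.mem_range] at hj
    rw [theta_iter hp cs h, map_zsmul, smul_eq_mul, hQ, mul_pow, ← mul_assoc]
    congr 1
    rw [mul_comm]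
    congr 1
    have h2 := eps_pow_two hε n
    have h3 : ε ^ (2 * n) = ε ^ (2 * n - j) * ε ^ j := by rw [← pow_add]; congr 1; omega
    rcases hε with rfl | rfl
    · rw [one_pow, one_pow]
    · rw [h2] at h3
      rcases neg_one_pow_eq_or ℤ j with h4 | h4 <;> rw [h4] at h3 ⊢ <;> linarith only [h3]
  rw [Finset.sum_congr rfl h1, two_mul, Finset.sum_range_add, add_mul, one_mul, Finset.mul_sum]
  congr 1
  · refine Finset.sum_congr rfl fun j hj => ?_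
    rw [Finset.mem_range] at hj
    rw [← mul_assoc, ← pow_add]
    congr 2
    omega
  · refine Finset.sum_congr rfl fun j hj => ?_
    rw [Finset.mem_range] at hj
    rw [pow_add, hw, one_mul]
    congr 2
    omega

/-- The exponent of the torus of `ε w₁`. -/
theorem Setup.torus_exp {w w1 : W} {ε : ℤ} (hε : ε = 1 ∨ ε = -1)
    (h : ∀ x, theta hp cs w g x = ε • rep cs hp.isCartan w1 x) {n : ℕ} (hw : rep cs hp.isCartan w1 ^ n = 1) {Q : ℤ}
    (hQ : Q = ε * (p ^ e : ℕ)) {t : ↥(D.group k)} (ht : t ∈ TT D k)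
    (hθ : ∀ x, cX hp t (theta hp cs w g x) = cX hp t x ^ p ^ e) : t ^ (Q ^ n - 1).natAbs = 1 := by
  have hmc := isMC_cX hp ht
  refine cX_inj hp (pow_mem ht _) (one_mem _) fun i => ?_
  rw [cX_pow hp ht, cX_one]
  have h0 := hmc.ne_zero (sr i)
  have h1 := cX_iter hp hθ n (sr i)
  rw [theta_iter hp cs h, hw, Module.End.one_apply, hmc.zsmul] at h1
  have h2 : cX hp t (sr i) ^ (((p ^ e : ℕ) : ℤ) ^ n - ε ^ n) = 1 := by
    rw [zpow_sub₀ h0, h1]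
    have h3 : cX hp t (sr i) ^ (((p ^ e : ℕ) : ℤ) ^ n) = cX hp t (sr i) ^ (p ^ e) ^ n := by
      rw [← zpow_natCast]
      congr 1
    rw [h3, div_self (pow_ne_zero _ h0)]
  have h3 : (((Q ^ n - 1).natAbs : ℕ) : ℤ) = ((p ^ e : ℕ) : ℤ) ^ n - ε ^ n ∨
      (((Q ^ n - 1).natAbs : ℕ) : ℤ) = -(((p ^ e : ℕ) : ℤ) ^ n - ε ^ n) := by
    have h4 : Q ^ n - 1 = ε ^ n * (((p ^ e : ℕ) : ℤ) ^ n - ε ^ n) := by
      rw [hQ, mul_pow, mul_sub, ← pow_add, ← two_mul, eps_pow_two hε]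
    have h5 : ε ^ n = 1 ∨ ε ^ n = -1 := by
      rcases hε with rfl | rfl
      · left; rw [one_pow]
      · exact neg_one_pow_eq_or ℤ n
    rw [h4, Int.natCast_natAbs, abs_mul]
    have h6 : |ε ^ n| = 1 := by rcases h5 with h5 | h5 <;> rw [h5] <;> norm_num
    rw [h6, one_mul]
    exact abs_choice _
  rw [← zpow_natCast]
  rcases h3 with h3 | h3 <;> rw [h3]
  · exact h2
  · rw [zpow_neg, h2, inv_one]

/-- **Theorem A for a regular element.** -/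
theorem Setup.pow_eq_one_reg [IsAlgClosed k] [Finite W] [Finite X] {π : Set ℕ} {r s : ℕ} (hrp : r.Prime)
    (hsp : s.Prime) (hr : r ∈ π) (hs : s ∈ π) (hrs : r ≠ s) (hrc : r ≠ p) (hrd : ¬ r ∣ d) (hr2 : r ≠ 2) {ε : ℤ}
    (hε : ε = 1 ∨ ε = -1) {w1 : W} (hT : HasTor hp cs g ε w1) {n : ℕ} (hw : rep cs hp.isCartan w1 ^ n = 1) {Q : ℤ}
    (hQ : Q = ε * (p ^ e : ℕ)) (hrQ : (r : ℤ) ∣ Q ^ n - 1) (hreg : RegAt cs hp.isCartan w1 n r Q)
    (hc : Cond π X) {y : X} (hy : ∃ m, orderOf y = s ^ m) : y ^ (Q ^ n - 1).natAbs = 1 := by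
  obtain ⟨w, hw'⟩ := hT
  have hrZ := Nat.prime_iff_prime_int.1 hrp
  refine S.pow_eq_one hp cs hrp hsp hr hs hrs hrc hrd w (n := 2 * n) (fun x => ?_) ?_ (fun a ha => ?_)
    (fun t ht hθ => S.torus_exp hp cs hε hw' hw hQ ht hθ) hc hy
  · rw [theta_iter hp cs hw', eps_pow_two hε, one_smul, mul_comm, pow_mul, hw, one_pow,
      Module.End.one_apply]
  · have h1 : ((p ^ e : ℕ) : ℤ) ^ (2 * n) = Q ^ (2 * n) := by rw [hQ, mul_pow, eps_pow_two hε, one_mul]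
    rw [h1]
    refine hrQ.trans ⟨Q ^ n + 1, ?_⟩
    ring
  · obtain ⟨L, hL⟩ := hreg a ha
    refine ⟨L, fun h1 => ?_⟩
    rw [Lq_eq hp cs hε hw' hw _ hQ] at h1
    rcases hrZ.dvd_mul.1 h1 with h2 | h2
    · have h3 : (r : ℤ) ∣ 2 := by
        have h4 := dvd_sub h2 hrQ
        have h5 : Q ^ n + 1 - (Q ^ n - 1) = 2 := by ring
        rwa [h5] at h4
      have h4 : r ∣ 2 := by exact_mod_cast h3
      exact hr2 ((Nat.prime_dvd_prime_iff_eq hrp Nat.prime_two).1 h4)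
    · exact hL h2

/-- **Theorem A for a regular element**, contradiction. -/
theorem Setup.not_cond_reg [IsAlgClosed k] [Finite W] [Finite X] {π : Set ℕ} {r s : ℕ} (hrp : r.Prime)
    (hsp : s.Prime) (hr : r ∈ π) (hs : s ∈ π) (hrs : r ≠ s) (hrc : r ≠ p) (hrd : ¬ r ∣ d) (hr2 : r ≠ 2)
    (hsX : s ∣ Nat.card X) {ε : ℤ}
    (hε : ε = 1 ∨ ε = -1) {w1 : W} (hT : HasTor hp cs g ε w1) {n : ℕ} (hw : rep cs hp.isCartan w1 ^ n = 1) {Q : ℤ}
    (hQ : Q = ε * (p ^ e : ℕ)) (hrQ : (r : ℤ) ∣ Q ^ n - 1) (hreg : RegAt cs hp.isCartan w1 n r Q)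
    (hsQ : ¬ (s : ℤ) ∣ Q ^ n - 1) : ¬ Cond π X := by
  intro hc
  have : Fact s.Prime := ⟨hsp⟩
  obtain ⟨y, hy⟩ := exists_prime_orderOf_dvd_card' s hsX
  have h1 := S.pow_eq_one_reg hp cs hrp hsp hr hs hrs hrc hrd hr2 hε hT hw hQ hrQ hreg hc (y := y) ⟨1, by
    rw [hy, pow_one]⟩
  have h2 := orderOf_dvd_of_pow_eq_one h1
  rw [hy] at h2
  exact hsQ (Int.natCast_dvd.2 h2)

/-! ### orders modulo primes -/

section Arith

variable {r : ℕ} {Q : ℤ}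

omit S in
theorem dvd_pow_sub_one_iff (n : ℕ) : (r : ℤ) ∣ Q ^ n - 1 ↔ orderOf (Q : ZMod r) ∣ n := by
  rw [orderOf_dvd_iff_pow_eq_one, ← ZMod.intCast_zmod_eq_zero_iff_dvd, Int.cast_sub, Int.cast_pow, Int.cast_one,
    sub_eq_zero]

omit S in
theorem ord_pos (hr : r.Prime) (hQ : ¬ (r : ℤ) ∣ Q) : 0 < orderOf (Q : ZMod r) := by
  have : Fact r.Prime := ⟨hr⟩
  have h1 : (Q : ZMod r) ≠ 0 := by rwa [Ne, ZMod.intCast_zmod_eq_zero_iff_dvd]
  exact orderOf_pos_iff.2 (isOfFinOrder_iff_pow_eq_one.2 ⟨r - 1, by have := hr.two_le; omega, ZMod.pow_card_sub_one_eq_one h1⟩)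

omit S in
theorem ord_dvd (hr : r.Prime) (hQ : ¬ (r : ℤ) ∣ Q) : orderOf (Q : ZMod r) ∣ r - 1 := by
  have : Fact r.Prime := ⟨hr⟩
  have h1 : (Q : ZMod r) ≠ 0 := by rwa [Ne, ZMod.intCast_zmod_eq_zero_iff_dvd]
  exact orderOf_dvd_of_pow_eq_one (ZMod.pow_card_sub_one_eq_one h1)

omit S in
theorem not_dvd_ord (hr : r.Prime) (hQ : ¬ (r : ℤ) ∣ Q) : ¬ r ∣ orderOf (Q : ZMod r) := by
  intro h
  have h1 := Nat.le_of_dvd (by have := hr.two_le; omega) (h.trans (ord_dvd hr hQ))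
  have := hr.two_le
  omega

omit S in
theorem dvd_cyclotomic (hr : r.Prime) (hQ : ¬ (r : ℤ) ∣ Q) :
    (r : ℤ) ∣ (Polynomial.cyclotomic (orderOf (Q : ZMod r)) ℤ).eval Q := by
  have : Fact r.Prime := ⟨hr⟩
  have h1 : NeZero ((orderOf (Q : ZMod r) : ℕ) : ZMod r) := ⟨by
    rw [Ne, ZMod.natCast_eq_zero_iff]
    exact not_dvd_ord hr hQ⟩
  have h2 := (Polynomial.isRoot_cyclotomic_iff (R := ZMod r)).2 (IsPrimitiveRoot.orderOf (Q : ZMod r))
  rw [← ZMod.intCast_zmod_eq_zero_iff_dvd]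
  rw [Polynomial.IsRoot.def, ← Polynomial.map_cyclotomic_int, Polynomial.eval_intCast_map] at h2
  exact h2

end Arith

/-! ### elements of order `r s` -/

omit S in
theorem exists_rp_of_conj [Finite W] (hk : LocFin k) (p : ℕ) [Fact p.Prime] [CharP k p]
    (hN : NSys M (TT D k) (nc hp k)) {s t c : ↥(D.group k)}
    (hs : s ∈ TT D k) (ht : t ∈ TT D k) (h : c * s = t * c) : ∃ (w : W) (n : ↥(D.group k)), Rp cs hN w n ∧ n * s = t * n := by
  have H := tow hp cs hk p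
  have C := coordsL hp cs hk p
  rw [← TL_eq hp hk, ← XL_eq hp hk] at C
  have ht' : t ∈ TL (Tj hp (k := k)) := by rw [TL_eq hp hk]; exact ht
  have hs' : s ∈ TL (Tj hp (k := k)) := by rw [TL_eq hp hk]; exact hs
  have hcG : c ∈ GG cs hp.isCartan (TL (Tj hp (k := k))) (XL (Xj hp)) := by
    rw [GG_eq_top hp cs hk]; exact Subgroup.mem_top c
  obtain ⟨m, -, w, n, hn, hnt, -⟩ := BpExc.Fr.exists_form H C hs' ht' hcG h
  have h4 : ∀ (T' : Subgroup ↥(D.group k)) (_ : T' = TT D k) (h : NSys M T' (nc hp k)),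
      Rp cs h w n → Rp cs hN w n := by
    rintro _ rfl h h5
    exact h5
  exact ⟨w, n, h4 _ (TL_eq hp hk) _ hn, hnt⟩

/-- **Torality of the elements of `X`.** -/
theorem Setup.exists_theta_elem [IsAlgClosed k] [Finite W] (hka : BpExc.TorAll.HAlg p k) {x : X} {N : ℕ} (hN0 : N ≠ 0)
    (hNp : N.Coprime p) (hx : x ^ N = 1) : ∃ (w : W) (t z : ↥(D.group k)), t ∈ TT D k ∧ z⁻¹ * e0 x * z = t ∧
      ∀ y, cX hp t (theta hp cs w g y) = cX hp t y ^ p ^ e := by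
  obtain ⟨g', hg'⟩ := H944.TorAnyChev.exists_conj_mem_TT hp p hka (x := e0 x) hN0 hNp (by rw [← map_pow, hx, map_one])
  obtain ⟨z, hz⟩ : ∃ z, z = g'⁻¹ := ⟨_, rfl⟩
  have hN := S.nsys hp cs
  have ht : z⁻¹ * e0 x * z ∈ TT D k := by rw [hz, inv_inv]; exact hg'
  have h1 : σ (z⁻¹ * e0 x * z) = (σ z)⁻¹ * e0 x * σ z := by rw [map_mul, map_mul, map_inv, S.fix]
  obtain ⟨w, n, hn, hnt⟩ := exists_rp_of_conj hp cs S.lf p hN (s := σ (z⁻¹ * e0 x * z)) (t := z⁻¹ * e0 x * z)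
    (c := z⁻¹ * σ z) ((S.fr.tor _).2 ht) ht (by rw [h1]; group)
  refine ⟨w, _, z, ht, rfl, (tau_iff hp cs S.lf S.frob S.fr hn ht).1 ?_⟩
  rw [hnt]
  group

/-- `θ` as an endomorphism. -/
def thE (hp : IsType D l M) (cs : CoxeterSystem M W) (w : W) (g : (Fin l → ℤ) ≃+ (Fin l → ℤ)) :
    Module.End ℤ (Fin l → ℤ) := H378.RegTw.endo (g.trans (repAut cs hp.isCartan w))

omit S in
theorem thE_apply (w : W) (x : Fin l → ℤ) : thE hp cs w g x = theta hp cs w g x := rfl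

theorem Setup.exists_thE_pow [Finite W] (w : W) : ∃ N, 0 < N ∧ thE hp cs w g ^ N = 1 := by
  refine H378.RegTw.exists_pow_one (cs := cs) (h := hp.isCartan) fun a => ?_
  show IsRoot cs hp.isCartan (rep cs hp.isCartan w (g a)) ↔ _
  rw [← S.fr.root a]
  refine ⟨fun h => ?_, fun h => h.act w⟩
  have := h.act w⁻¹
  rwa [rep_inv_apply] at this

omit S in
/-- a nonzero vector killed by `Φ_m(ε θ)` from an element of order `r` of the torus -/
theorem exists_ker_elem {w : W} {N : ℕ} (hN0 : 0 < N) (hN : thE hp cs w g ^ N = 1) {ε : ℤ} (hε : ε = 1 ∨ ε = -1)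
    {t : ↥(D.group k)} (ht : t ∈ TT D k) (hθ : ∀ x, cX hp t (theta hp cs w g x) = cX hp t x ^ p ^ e)
    {r : ℕ} (hr : r.Prime) (hlr : l + 1 < r) (htr : orderOf t = r) {Q : ℤ} (hQ : Q = ε * (p ^ e : ℕ))
    (hrQ : ¬ (r : ℤ) ∣ Q) :
    ∃ y : Fin l → ℤ, y ≠ 0 ∧
      Polynomial.aeval (ε • thE hp cs w g) (Polynomial.cyclotomic (orderOf (Q : ZMod r)) ℤ) y = 0 := by
  have hN2 : (ε • thE hp cs w g) ^ (2 * N) = 1 := by
    rw [_root_.smul_pow, eps_pow_two hε, one_smul, mul_comm, pow_mul, hN, one_pow]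
  obtain ⟨N', hN'0, hN'1, hN'2⟩ := H378.RegTw.order_coprime (by omega : 0 < 2 * N) hN2 hr hlr
  have hmc := isMC_cX hp ht
  set χ : H378.TorDual.Ch l k := H378.TorChar.tchar hp ⟨t, ht⟩ with hχd
  have hχ : ∀ x, ((χ (Multiplicative.ofAdd x) : kˣ) : k) = cX hp t x := H378.RegTw.tchar_eq_cX hp ht
  have hpow : (t : ↥(D.group k)) ^ r = 1 := by rw [← htr]; exact pow_orderOf_eq_one t
  have h1 : χ ∈ H378.TorDual.KerOf k (ε • thE hp cs w g - Q • (1 : Module.End ℤ (Fin l → ℤ))) := by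
    rw [H378.TorDual.mem_kerOf]
    intro x
    apply Units.ext
    rw [hχ, Units.val_one]
    have e1 : (ε • thE hp cs w g - Q • (1 : Module.End ℤ (Fin l → ℤ))) x = ε • theta hp cs w g x + (-Q) • x := by
      rw [LinearMap.sub_apply, LinearMap.smul_apply, LinearMap.smul_apply, Module.End.one_apply, thE_apply, neg_smul,
        sub_eq_add_neg]
    rw [e1, hmc.add, hmc.zsmul, hmc.zsmul, hθ, hQ, zpow_neg, mul_comm ε, zpow_mul, zpow_natCast,
      mul_inv_cancel₀ (zpow_ne_zero _ (pow_ne_zero _ (hmc.ne_zero x)))]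
  obtain ⟨R, -, x, hx, hx1⟩ := H378.LatCodim.exists_ker (m := orderOf (Q : ZMod r)) (ord_pos hr hrQ) hN'0 hN'1 hr hN'2
    (not_dvd_ord hr hrQ) (dvd_cyclotomic hr hrQ) h1 (by
      intro h2
      have h3 : t = 1 := by
        refine cX_inj hp ht (one_mem _) fun i => ?_
        rw [← hχ, h2, cX_one]
        rfl
      rw [h3, orderOf_one] at htr
      exact hr.one_lt.ne htr) (by
      refine MonoidHom.ext fun x => Units.ext ?_
      have h2 := hχ (Multiplicative.toAdd x)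
      have h3 : ((χ x : kˣ) : k) = cX hp t (Multiplicative.toAdd x) := h2
      rw [MonoidHom.pow_apply, Units.val_pow_eq_pow_val, h3, ← cX_pow hp ht, hpow, cX_one]
      rfl)
  refine ⟨_, ?_, hx⟩
  intro h0
  rw [h0, ofAdd_zero, map_one] at hx1
  exact hx1 rfl

/-- **Two primes and the degree.** -/
theorem Setup.totient_le [IsAlgClosed k] [Finite W] (hka : BpExc.TorAll.HAlg p k) {x : X} {r s : ℕ} (hr : r.Prime)
    (hs : s.Prime) (hrp : r ≠ p) (hsp : s ≠ p) (hlr : l + 1 < r) (hls : l + 1 < s)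
    (hx : orderOf x = r * s) {ε : ℤ} (hε : ε = 1 ∨ ε = -1) {Q : ℤ} (hQ : Q = ε * (p ^ e : ℕ))
    (hne : orderOf (Q : ZMod r) ≠ orderOf (Q : ZMod s)) :
    (orderOf (Q : ZMod r)).totient + (orderOf (Q : ZMod s)).totient ≤ l := by
  have hpp : p.Prime := Fact.out
  have hcr : ¬ r ∣ p := fun h => hrp ((Nat.prime_dvd_prime_iff_eq hr hpp).1 h)
  have hcs : ¬ s ∣ p := fun h => hsp ((Nat.prime_dvd_prime_iff_eq hs hpp).1 h)
  have hQr : ∀ {r : ℕ}, r.Prime → ¬ r ∣ p → ¬ (r : ℤ) ∣ Q := by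
    intro r hr h1 h2
    apply h1
    have h3 : r ∣ Q.natAbs := Int.natCast_dvd.1 h2
    have h4 : Q.natAbs = p ^ e := by
      rw [hQ, Int.natAbs_mul]
      rcases hε with rfl | rfl <;> simp
    rw [h4] at h3
    exact hr.dvd_of_dvd_pow h3
  obtain ⟨w, t, z, ht, hz, hθ⟩ := S.exists_theta_elem hp cs hka (x := x) (N := r * s)
    (mul_ne_zero hr.ne_zero hs.ne_zero) (Nat.Coprime.mul_left ((Nat.Prime.coprime_iff_not_dvd hr).2 hcr)
      ((Nat.Prime.coprime_iff_not_dvd hs).2 hcs)) (by rw [← hx]; exact pow_orderOf_eq_one x)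
  have hto : orderOf t = r * s := by
    rw [← hx, ← hz]
    have h1 := orderOf_injective (MulAut.conj z⁻¹).toMonoidHom (MulAut.conj z⁻¹).injective (e0 x)
    have h2 : (MulAut.conj z⁻¹).toMonoidHom (e0 x) = z⁻¹ * e0 x * z := by
      show z⁻¹ * e0 x * z⁻¹⁻¹ = _
      rw [inv_inv]
    rw [h2] at h1
    rw [h1, orderOf_injective e0 S.inj]
  obtain ⟨N, hN0, hN⟩ := S.exists_thE_pow hp cs w
  have hpowθ : ∀ m x, cX hp (t ^ m) (theta hp cs w g x) = cX hp (t ^ m) x ^ p ^ e := by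
    intro m x
    rw [cX_pow hp ht, cX_pow hp ht, hθ, ← pow_mul, ← pow_mul, mul_comm]
  obtain ⟨y, hy, hy'⟩ := exists_ker_elem hp cs hN0 hN hε (pow_mem ht s) (hpowθ s) hr hlr (by
    rw [orderOf_pow_of_dvd hs.ne_zero (by rw [hto]; exact dvd_mul_left _ _), hto, Nat.mul_div_cancel _ hs.pos]) hQ
    (hQr hr hcr)
  obtain ⟨y', hy1, hy1'⟩ := exists_ker_elem hp cs hN0 hN hε (pow_mem ht r) (hpowθ r) hs hls (by
    rw [orderOf_pow_of_dvd hr.ne_zero (by rw [hto]; exact dvd_mul_right _ _), hto, Nat.mul_div_cancel_left _ hr.pos]) hQ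
    (hQr hs hcs)
  exact H378.RegE7.two_ker (ord_pos hr (hQr hr hcr)) (ord_pos hs (hQr hs hcs)) hne hy hy1 hy' hy1'

omit S in
/-- `Cond {r, s}` gives an element of order `r s`. -/
theorem exists_mul_order [Finite X] {π : Set ℕ} {r s : ℕ} (hrp : r.Prime) (hsp : s.Prime) (hr : r ∈ π) (hs : s ∈ π)
    (hrs : r ≠ s) (hrX : r ∣ Nat.card X) (hsX : s ∣ Nat.card X) (hc : Cond π X) : ∃ x : X, orderOf x = r * s := by
  have : Fact r.Prime := ⟨hrp⟩
  have : Fact s.Prime := ⟨hsp⟩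
  obtain ⟨y, hy⟩ := exists_prime_orderOf_dvd_card' s hsX
  have h1 := hc s hs r hr (Ne.symm hrs) y ⟨1, by rw [hy, pow_one]⟩
  have h2 : r ∣ Nat.card (Subgroup.centralizer ({y} : Set X)) := by
    have h3 := Subgroup.card_mul_index (Subgroup.centralizer ({y} : Set X))
    rw [← h3] at hrX
    exact (hrp.dvd_mul.1 hrX).resolve_right h1
  obtain ⟨x, hx⟩ := exists_prime_orderOf_dvd_card' r h2
  have hxo : orderOf (x : X) = r := by rw [Subgroup.orderOf_coe]; exact hx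
  have hcomm : Commute (x : X) y := Subgroup.mem_centralizer_singleton_iff.1 x.2
  refine ⟨x * y, ?_⟩
  rw [hcomm.orderOf_mul_eq_mul_orderOf_of_coprime (by rw [hxo, hy]; exact (Nat.coprime_primes hrp hsp).2 hrs), hxo, hy]

end Cfsg.Agent.H630.Exc
end

-- part: H630/ExcD
section
/-!
# The order of a twisted torus (helper630)

* `Setup.pow_dvd_card_tX` : `r^(v a)` divides the order of `X ∩ z T z⁻¹`, if `r ^ v ∣ Φ_n(Q)` and there is a certificate for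
  `Φ_n(w₁)^a`;
* `exists_of_torus` : the abelian subgroup of index prime to `π`.
-/

set_option autoImplicit false
set_option linter.unusedSectionVars false

namespace Cfsg.Agent.H630.Exc

open CoxeterSystem Cfsg Cfsg.Lie Cfsg.Lie.ChevalleyDatum
open Cfsg.Agent.ChevalleyStructure Cfsg.Agent.ChevalleyStructure.Elts Cfsg.Agent.ChevalleyStructure.CoxeterGeom
  Cfsg.Agent.ChevalleyStructure.CoxeterGeomTypes Cfsg.Agent.ChevalleyStructure.NPerm
open Cfsg.Agent.Tits.Roots Cfsg.Agent.Tits.Core Cfsg.Agent.Nodes Cfsg.Agent.Nodes.Reps Cfsg.Agent.Nodes.BNOf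
  Cfsg.Agent.Nodes.RGDChev Cfsg.Agent.Nodes.Bruhat Cfsg.Agent.Nodes.SubComb Cfsg.Agent.Nodes.Coroot
open Cfsg.Agent.KFacts.RgdField Cfsg.Agent.KFacts.RgdChevCoord Cfsg.Agent.BpExc.TorCent Cfsg.Agent.BpExc.TorChev
open Cfsg.Agent.GpExc.Field Cfsg.Agent.BpExc.Tow Cfsg.Agent.BpExc.TowChev Cfsg.Agent.BpExc.Fr
  Cfsg.Agent.BpExc.LangFr Cfsg.Agent.LangThm Cfsg.Agent.BpExc Cfsg.Agent.H129.TorusChar Cfsg.Agent.H129.TorusMain
open Cfsg.Agent.H129.TorAct (cX_tau tau_mem exists_theta)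
open Cfsg.Agent.H630.NH

universe u v

/-! ### the eigenvectors modulo `m` -/

section Lat

open Polynomial

variable {l : ℕ}

theorem exists_eig {R : Module.End ℤ (Fin l → ℤ)} {P : ℤ[X]} {Q m : ℤ} (hm : m ∣ P.eval Q) {x : Fin l → ℤ}
    (hx : aeval R P x = 0) (j : ℕ) :
    ∃ u : Fin l → ℤ, (R ^ j) (aeval R (P /ₘ (X - C Q)) x) = Q ^ j • aeval R (P /ₘ (X - C Q)) x + m • u := by
  obtain ⟨b, hb⟩ := hm
  have hdiv : P = (X - C Q) * (P /ₘ (X - C Q)) + C (P.eval Q) := by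
    have := modByMonic_add_div P (X - C Q)
    rw [modByMonic_X_sub_C_eq_C_eval, add_comm] at this
    exact this.symm
  have h1 : R (aeval R (P /ₘ (X - C Q)) x) = Q • aeval R (P /ₘ (X - C Q)) x + m • (-(b • x)) := by
    have h2 := congrArg (fun p => aeval R p x) hdiv
    simp only [map_add, map_mul, map_sub, aeval_X, aeval_C, LinearMap.add_apply, Module.End.mul_apply] at h2
    rw [hx] at h2
    have h3 : (R - (algebraMap ℤ (Module.End ℤ (Fin l → ℤ))) Q) (aeval R (P /ₘ (X - C Q)) x) =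
        R (aeval R (P /ₘ (X - C Q)) x) - Q • aeval R (P /ₘ (X - C Q)) x := rfl
    have h4 : ((algebraMap ℤ (Module.End ℤ (Fin l → ℤ))) (P.eval Q)) x = (m * b) • x := by
      rw [hb]; rfl
    rw [h3, h4] at h2
    have h5 : R (aeval R (P /ₘ (X - C Q)) x) = Q • aeval R (P /ₘ (X - C Q)) x - (m * b) • x := by
      have h6 : R (aeval R (P /ₘ (X - C Q)) x) =
        (R (aeval R (P /ₘ (X - C Q)) x) - Q • aeval R (P /ₘ (X - C Q)) x + (m * b) • x) +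
          (Q • aeval R (P /ₘ (X - C Q)) x - (m * b) • x) := by abel
      rw [← h2, zero_add] at h6
      exact h6
    rw [h5, smul_neg, smul_smul, sub_eq_add_neg]
  induction j with
  | zero => exact ⟨0, by simp⟩
  | succ j ih =>
    obtain ⟨u, hu⟩ := ih
    refine ⟨R u + Q ^ j • (-(b • x)), ?_⟩
    rw [pow_succ', Module.End.mul_apply, hu, map_add, map_smul, map_smul, h1, pow_succ, smul_add, smul_smul, smul_smul,
      smul_add, smul_smul, mul_comm (Q ^ j) m]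
    abel

end Lat

variable {D : ChevalleyDatum} {l : ℕ} {M : CoxeterMatrix (Fin l)} (hp : IsType D l M) {k : Type u} [Field k]
  {W : Type*} [Group W] (cs : CoxeterSystem M W)

/-- characters of a twisted torus -/
theorem exists_char [IsAlgClosed k] {d' : ℕ} {B' : Fin l → Fin l → ℤ} (hB : InvC D l d' B') (hd' : d' ≠ 0)
    {θ : (Fin l → ℤ) →+ (Fin l → ℤ)} {q n : ℕ} (hθ : ∀ x, θ^[n] x = x) {r : ℕ} (hr : (r : k) ≠ 0)
    (hrq : (r : ℤ) ∣ (q : ℤ) ^ n - 1) :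
    ∃ ζ : k, IsPrimitiveRoot ζ r ∧ ζ ≠ 0 ∧ ∀ L : (Fin l → ℤ) →+ ℤ,
    ∃ t ∈ TT D k, (∀ x, cX hp t (θ x) = cX hp t x ^ q) ∧ t ^ r = 1 ∧ ∀ x, cX hp t x = ζ ^ Lq L θ q n x := by
  have hr0 : NeZero (r : k) := ⟨hr⟩
  obtain ⟨ζ, hζ⟩ := HasEnoughRootsOfUnity.exists_primitiveRoot k r
  have hz0 : ζ ≠ 0 := by
    rintro rfl
    have h1 := hζ.pow_eq_one
    have h2 : r ≠ 0 := by rintro rfl; exact hr Nat.cast_zero
    rw [zero_pow h2] at h1
    exact zero_ne_one h1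
  refine ⟨ζ, hζ, hz0, fun L => ?_⟩
  have hφ : IsMC (fun x : Fin l → ℤ => ζ ^ Lq L θ q n x) := by
    refine ⟨?_, fun x y => ?_⟩
    · show ζ ^ Lq L θ q n 0 = 1
      rw [Lq_zero, zpow_zero]
    · show ζ ^ Lq L θ q n (x + y) = _
      rw [Lq_add, zpow_add₀ hz0]
  obtain ⟨t, ht, hc⟩ := exists_cX hp hB hd' hφ (fun i => IsAlgClosed.exists_pow_nat_eq _ (Nat.pos_of_ne_zero hd'))
  refine ⟨t, ht, fun x => ?_, ?_, hc⟩
  · rw [hc, hc, ← zpow_natCast, ← zpow_mul]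
    have h1 := (hrq.trans (Lq_theta L hθ x))
    have h2 : ζ ^ (Lq L θ q n (θ x) - q * Lq L θ q n x) = 1 := (hζ.zpow_eq_one_iff_dvd _).2 h1
    rw [zpow_sub₀ hz0, div_eq_one_iff_eq (zpow_ne_zero _ hz0)] at h2
    rw [h2, mul_comm]
  · refine cX_inj hp (pow_mem ht r) (one_mem _) fun i => ?_
    rw [cX_pow hp ht, cX_one, hc, ← zpow_natCast, ← zpow_mul, mul_comm, zpow_mul, zpow_natCast, hζ.pow_eq_one, one_zpow]

variable {p e : ℕ} [Fact p.Prime] [CharP k p] {σ : MulAut ↥(D.group k)} {g : (Fin l → ℤ) ≃+ (Fin l → ℤ)}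
  {X : Type v} [Group X] {e0 : X →* ↥(D.group k)} {d : ℕ} (S : Setup hp cs p e σ g e0 d)

include S

open Polynomial in
/-- **The order of a twisted torus.** -/
theorem Setup.pow_dvd_card_tX [IsAlgClosed k] [Finite W] [Finite X] {hN : NSys M (TT D k) (nc hp k)} {w w1 : W}
    {ε : ℤ} (hε : ε = 1 ∨ ε = -1) (h : ∀ x, theta hp cs w g x = ε • rep cs hp.isCartan w1 x)
    {n' z : ↥(D.group k)} (hn' : Rp cs hN w n') (hz : n' = z⁻¹ * σ z) {r : ℕ} (hr : r.Prime) (hrp : r ≠ p)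
    (hrd : ¬ r ∣ d) (hr2 : r ≠ 2) {Q : ℤ} (hQ : Q = ε * (p ^ e : ℕ)) {n : ℕ} (hn : orderOf (Q : ZMod r) = n)
    (hw : rep cs hp.isCartan w1 ^ n = 1) {a : ℕ} (x : Fin a → Fin l → ℤ) (y : Fin a → ((Fin l → ℤ) →ₗ[ℤ] ℤ)) (c : ℤ)
    (hc : ¬ (r : ℤ) ∣ c) (hx : ∀ i, aeval (rep cs hp.isCartan w1) (cyclotomic n ℤ) (x i) = 0)
    (hy : ∀ i i', ∀ j < (cyclotomic n ℤ).natDegree, y i ((rep cs hp.isCartan w1 ^ j) (x i')) =
      if i = i' ∧ j + 1 = (cyclotomic n ℤ).natDegree then c else 0)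
    {v : ℕ} (hv : ((r ^ v : ℕ) : ℤ) ∣ (cyclotomic n ℤ).eval Q) : (r ^ v) ^ a ∣ Nat.card (tX D k e0 z) := by
  classical
  have : Fact r.Prime := ⟨hr⟩
  obtain ⟨m, hm⟩ : ∃ m, m = r ^ v := ⟨_, rfl⟩
  rw [← hm] at hv ⊢
  have hrZ := Nat.prime_iff_prime_int.1 hr
  have hpp : p.Prime := Fact.out
  have hcr : ¬ r ∣ p := fun h => hrp ((Nat.prime_dvd_prime_iff_eq hr hpp).1 h)
  have hQr : ¬ (r : ℤ) ∣ Q := by
    intro h2
    apply hcr
    have h3 : r ∣ Q.natAbs := Int.natCast_dvd.1 h2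
    have h4 : Q.natAbs = p ^ e := by
      rw [hQ, Int.natAbs_mul]
      rcases hε with rfl | rfl <;> simp
    rw [h4] at h3
    exact hr.dvd_of_dvd_pow h3
  have hn0 : 0 < n := by rw [← hn]; exact ord_pos hr hQr
  have hrn : ¬ r ∣ n := by rw [← hn]; exact not_dvd_ord hr hQr
  have hrk : (r : k) ≠ 0 := by
    rw [Ne, CharP.cast_eq_zero_iff k p]
    intro h
    exact hrp ((Nat.prime_dvd_prime_iff_eq hpp hr).1 h).symm
  have hmk : (m : k) ≠ 0 := by rw [hm, Nat.cast_pow]; exact pow_ne_zero _ hrk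
  have hm0 : 0 < m := by rw [hm]; exact pow_pos hr.pos _
  have hmQn : (m : ℤ) ∣ Q ^ n - 1 := by
    have h1 : (cyclotomic n ℤ) ∣ Polynomial.X ^ n - 1 := cyclotomic.dvd_X_pow_sub_one n ℤ
    have h2 := eval_dvd (x := Q) h1
    rw [eval_sub, eval_pow, eval_X, eval_one] at h2
    exact hv.trans h2
  have hmq : (m : ℤ) ∣ ((p ^ e : ℕ) : ℤ) ^ (2 * n) - 1 := by
    have h1 : ((p ^ e : ℕ) : ℤ) ^ (2 * n) = Q ^ (2 * n) := by rw [hQ, mul_pow, eps_pow_two hε, one_mul]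
    rw [h1]
    exact hmQn.trans ⟨Q ^ n + 1, by ring⟩
  have hθ : ∀ x, (theta hp cs w g)^[2 * n] x = x := fun x => by
    rw [theta_iter hp cs h, eps_pow_two hε, one_smul, mul_comm, pow_mul, hw, one_pow,
      Module.End.one_apply]
  obtain ⟨B, d', hd', hB⟩ := S.inv
  obtain ⟨ζ, hζ, hz0, hchar⟩ := exists_char hp hB hd' (q := p ^ e) (n := 2 * n) hθ hmk hmq
  -- the elements of `X`
  have hex : ∀ c' : Fin a → Fin m, ∃ x' : X, x' ∈ tXr hp S.inj z m ∧ ∀ b, cX hp (z⁻¹ * e0 x' * z) b =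
      ζ ^ Lq (∑ i, ((c' i : ℕ) : ℤ) • (y i).toAddMonoidHom) (theta hp cs w g) (p ^ e) (2 * n) b := by
    intro c'
    obtain ⟨t, ht, h1, h2, h3⟩ := hchar (∑ i, ((c' i : ℕ) : ℤ) • (y i).toAddMonoidHom)
    obtain ⟨x', hx'⟩ := S.exists_of_tau hp cs hz ((tau_iff hp cs S.lf S.frob S.fr hn' ht).2 h1) hr hrd ⟨v, by
      rw [← hm]; exact h2⟩
    refine ⟨x', ⟨by rw [mem_tX, hx']; exact ht, ?_⟩, fun b => by rw [hx', h3]⟩
    apply S.inj
    have h4 := S.conj_pow_eq hp cs (y := x') (z := z) m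
    rw [hx', h2] at h4
    rw [map_one]
    have h5 : e0 (x' ^ m) = z * (z⁻¹ * e0 (x' ^ m) * z) * z⁻¹ := by group
    rw [h5, ← h4]; group
  choose F hF1 hF2 using hex
  -- injectivity
  have hPm : (cyclotomic n ℤ).Monic := cyclotomic.monic n ℤ
  have hPd : 0 < (cyclotomic n ℤ).natDegree := by
    rw [natDegree_cyclotomic]
    exact Nat.totient_pos.2 hn0
  have hinj : Function.Injective F := by
    intro c1 c2 he
    funext i
    have h1 : ∀ b, (m : ℤ) ∣ Lq (∑ i, ((c1 i : ℕ) : ℤ) • (y i).toAddMonoidHom) (theta hp cs w g) (p ^ e) (2 * n) b -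
        Lq (∑ i, ((c2 i : ℕ) : ℤ) • (y i).toAddMonoidHom) (theta hp cs w g) (p ^ e) (2 * n) b := by
      intro b
      rw [← hζ.zpow_eq_one_iff_dvd, zpow_sub₀ hz0, div_eq_one_iff_eq (zpow_ne_zero _ hz0), ← hF2, ← hF2, he]
    have h2 : ∀ c' : Fin a → Fin m, ∃ u : ℤ,
        Lq (∑ i, ((c' i : ℕ) : ℤ) • (y i).toAddMonoidHom) (theta hp cs w g) (p ^ e) (2 * n)
          (aeval (rep cs hp.isCartan w1) (cyclotomic n ℤ /ₘ (Polynomial.X - C Q)) (x i)) =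
          ((Q ^ n + 1) * (n * Q ^ n * c)) * ((c' i : ℕ) : ℤ) + m * u := by
      intro c'
      set L : (Fin l → ℤ) →+ ℤ := ∑ i, ((c' i : ℕ) : ℤ) • (y i).toAddMonoidHom with hL
      set zi := aeval (rep cs hp.isCartan w1) (cyclotomic n ℤ /ₘ (Polynomial.X - C Q)) (x i) with hzi
      have hLz : L zi = c * ((c' i : ℕ) : ℤ) := by
        rw [hL, AddMonoidHom.finsetSum_apply]
        have h3 : ∀ i', y i' zi = if i' = i then c else 0 := by
          intro i'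
          refine H130.Cok.functional hPm hPd Q (y i') (x i) _ fun j hj => ?_
          rw [hy i' i j hj]
          by_cases h : i' = i
          · simp [h]
          · simp [h]
        rw [Finset.sum_eq_single i]
        · show ((c' i : ℕ) : ℤ) * y i zi = _
          rw [h3, if_pos rfl, mul_comm]
        · intro i' _ hi'
          show ((c' i' : ℕ) : ℤ) * y i' zi = 0
          rw [h3, if_neg hi', mul_zero]
        · intro h; exact absurd (Finset.mem_univ _) h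
      have h3 : ∀ j : ℕ, ∃ u : ℤ, L ((rep cs hp.isCartan w1 ^ j) zi) = Q ^ j * L zi + m * u := by
        intro j
        obtain ⟨u, hu⟩ := exists_eig hv (hx i) j
        exact ⟨L u, by rw [hzi, hu, map_add, map_zsmul, map_zsmul, smul_eq_mul, smul_eq_mul]⟩
      choose u hu using h3
      refine ⟨(Q ^ n + 1) * ∑ j ∈ Finset.range n, Q ^ (n - j) * u j, ?_⟩
      rw [Lq_eq hp cs hε h hw _ hQ]
      have h4 : ∀ j ∈ Finset.range n, Q ^ (n - j) * L ((rep cs hp.isCartan w1 ^ j) zi) =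
          Q ^ n * L zi + m * (Q ^ (n - j) * u j) := by
        intro j hj
        rw [Finset.mem_range] at hj
        rw [hu j, mul_add, ← mul_assoc, ← pow_add, Nat.sub_add_cancel hj.le]
        ring
      rw [Finset.sum_congr rfl h4, Finset.sum_add_distrib, Finset.sum_const, Finset.card_range, ← Finset.mul_sum, hLz,
        nsmul_eq_mul]
      ring
    obtain ⟨u1, hu1⟩ := h2 c1
    obtain ⟨u2, hu2⟩ := h2 c2
    have h3 := h1 (aeval (rep cs hp.isCartan w1) (cyclotomic n ℤ /ₘ (Polynomial.X - C Q)) (x i))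
    rw [hu1, hu2] at h3
    have h4 : (m : ℤ) ∣ ((Q ^ n + 1) * (n * Q ^ n * c)) * (((c1 i : ℕ) : ℤ) - ((c2 i : ℕ) : ℤ)) := by
      have h5 := dvd_sub h3 (dvd_mul_right (m : ℤ) (u1 - u2))
      have h6 : (Q ^ n + 1) * (n * Q ^ n * c) * ((c1 i : ℕ) : ℤ) + m * u1 -
        ((Q ^ n + 1) * (n * Q ^ n * c) * ((c2 i : ℕ) : ℤ) + m * u2) - m * (u1 - u2) =
        ((Q ^ n + 1) * (n * Q ^ n * c)) * (((c1 i : ℕ) : ℤ) - ((c2 i : ℕ) : ℤ)) := by ring
      rwa [h6] at h5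
    have hcop : IsCoprime (m : ℤ) ((Q ^ n + 1) * (n * Q ^ n * c)) := by
      rw [hm, Nat.cast_pow]
      apply IsCoprime.pow_left
      rw [hrZ.irreducible.coprime_iff_not_dvd]
      intro h
      rcases hrZ.dvd_mul.1 h with h | h
      · have h3 : (r : ℤ) ∣ Q ^ n - 1 := (dvd_pow_sub_one_iff n).2 (by rw [hn])
        have h4 := dvd_sub h h3
        have h5 : Q ^ n + 1 - (Q ^ n - 1) = 2 := by ring
        rw [h5] at h4
        have h6 : r ∣ 2 := by exact_mod_cast h4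
        exact hr2 ((Nat.prime_dvd_prime_iff_eq hr Nat.prime_two).1 h6)
      · rcases hrZ.dvd_mul.1 h with h | h
        · rcases hrZ.dvd_mul.1 h with h | h
          · exact hrn (Int.natCast_dvd_natCast.1 h)
          · exact hQr (hrZ.dvd_of_dvd_pow h)
        · exact hc h
    have h5 := hcop.dvd_of_dvd_mul_left h4
    apply Fin.ext
    have h6 : ((c1 i : ℕ) : ℤ) - ((c2 i : ℕ) : ℤ) = 0 := by
      apply Int.eq_zero_of_abs_lt_dvd h5
      have := (c1 i).2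
      have := (c2 i).2
      rw [abs_lt]
      constructor <;> omega
    omega
  -- counting
  have hK : IsPGroup r (tXr hp S.inj z m) := by
    rintro ⟨x', hx'⟩
    exact ⟨v, Subtype.ext (by rw [← hm]; exact hx'.2)⟩
  obtain ⟨j, hj⟩ := IsPGroup.iff_card.1 hK
  have hle : m ^ a ≤ Nat.card (tXr hp S.inj z m) := by
    have h1 : Nat.card (Fin a → Fin m) = m ^ a := by
      rw [Nat.card_fun, Nat.card_fin, Nat.card_fin]
    rw [← h1]
    exact Nat.card_le_card_of_injective (fun c' => (⟨F c', hF1 c'⟩ : tXr hp S.inj z m)) fun c1 c2 h =>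
      hinj (congrArg Subtype.val h)
  have h1 : m ^ a ∣ Nat.card (tXr hp S.inj z m) := by
    rw [hj] at hle ⊢
    rw [hm, ← pow_mul] at hle ⊢
    exact pow_dvd_pow r ((Nat.pow_le_pow_iff_right hr.one_lt).1 hle)
  exact h1.trans (Subgroup.card_dvd_of_le fun x' hx' => hx'.1)

end Cfsg.Agent.H630.Exc

namespace Cfsg.Agent.H630.Exc

open Polynomial

/-! ### valuations -/

/-- `Q ^ n - 1 = Φ_n(Q) C` with `r ∤ C` -/
theorem exists_pow_sub_one {r : ℕ} (hr : r.Prime) {Q : ℤ} (hQ : ¬ (r : ℤ) ∣ Q) :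
    ∃ C : ℤ, Q ^ orderOf (Q : ZMod r) - 1 = (cyclotomic (orderOf (Q : ZMod r)) ℤ).eval Q * C ∧ ¬ (r : ℤ) ∣ C := by
  have hrZ := Nat.prime_iff_prime_int.1 hr
  have hn0 := ord_pos hr hQ
  have h1 := prod_cyclotomic_eq_X_pow_sub_one hn0 ℤ
  rw [← Nat.cons_self_properDivisors hn0.ne', Finset.prod_cons] at h1
  have h2 := congrArg (fun f => f.eval Q) h1
  simp only [eval_mul, eval_prod, eval_sub, eval_pow, eval_X, eval_one] at h2
  refine ⟨_, h2.symm, ?_⟩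
  intro h3
  obtain ⟨i, hi, h4⟩ := (hrZ.dvd_finsetProd_iff _).1 h3
  rw [Nat.mem_properDivisors] at hi
  have h5 := eval_dvd (x := Q) (cyclotomic.dvd_X_pow_sub_one i ℤ)
  rw [eval_sub, eval_pow, eval_X, eval_one] at h5
  have h6 := (dvd_pow_sub_one_iff i).1 (h4.trans h5)
  have h7 : 0 < i := Nat.pos_of_dvd_of_pos hi.1 hn0
  have := Nat.le_of_dvd h7 h6
  omega

theorem exists_pow_mul {r : ℕ} (hr : r.Prime) {Q : ℤ} (hQ : ¬ (r : ℤ) ∣ Q) {k : ℕ} (hk : ¬ r ∣ k) :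
    ∃ C : ℤ, Q ^ (orderOf (Q : ZMod r) * k) - 1 = (cyclotomic (orderOf (Q : ZMod r)) ℤ).eval Q * C ∧
      ¬ (r : ℤ) ∣ C := by
  have hrZ := Nat.prime_iff_prime_int.1 hr
  obtain ⟨C, hC, hrC⟩ := exists_pow_sub_one hr hQ
  obtain ⟨y, hy⟩ : ∃ y, y = Q ^ orderOf (Q : ZMod r) := ⟨_, rfl⟩
  refine ⟨C * ∑ j ∈ Finset.range k, y ^ j, ?_, ?_⟩
  · rw [← mul_assoc, ← hC, pow_mul, ← hy, mul_comm]
    exact (geom_sum_mul y k).symm
  · intro h
    rcases hrZ.dvd_mul.1 h with h | h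
    · exact hrC h
    · have h1 : (r : ℤ) ∣ y - 1 := by rw [hy]; exact (dvd_pow_sub_one_iff _).2 dvd_rfl
      have h2 : (r : ℤ) ∣ (∑ j ∈ Finset.range k, y ^ j) - k := by
        have h3 : (∑ j ∈ Finset.range k, y ^ j) - (k : ℤ) = ∑ j ∈ Finset.range k, (y ^ j - 1) := by
          rw [Finset.sum_sub_distrib, Finset.sum_const, Finset.card_range, nsmul_eq_mul, mul_one]
        rw [h3]
        refine Finset.dvd_sum fun j _ => h1.trans ?_
        have := sub_dvd_pow_sub_pow y 1 j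
        rwa [one_pow] at this
      have h3 := dvd_sub h h2
      have h4 : (∑ j ∈ Finset.range k, y ^ j) - ((∑ j ∈ Finset.range k, y ^ j) - (k : ℤ)) = k := by ring
      rw [h4] at h3
      exact hk (Int.natCast_dvd_natCast.1 h3)

theorem exists_prod {r : ℕ} (hr : r.Prime) {Q : ℤ} (hQ : ¬ (r : ℤ) ∣ Q) (degs : List ℕ)
    (hd : ∀ i ∈ degs, orderOf (Q : ZMod r) ∣ i → ¬ r ∣ i) :
    ∃ C : ℤ, (degs.map (fun i => Q ^ i - 1)).prod = (cyclotomic (orderOf (Q : ZMod r)) ℤ).eval Q ^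
      (degs.filter (fun i => orderOf (Q : ZMod r) ∣ i)).length * C ∧ ¬ (r : ℤ) ∣ C := by
  have hrZ := Nat.prime_iff_prime_int.1 hr
  induction degs with
  | nil => exact ⟨1, by simp only [_root_.List.map_nil, _root_.List.prod_nil, _root_.List.filter_nil, _root_.List.length_nil, _root_.pow_zero, _root_.mul_one], fun h => by
      have : r ∣ 1 := by exact_mod_cast h
      exact hr.one_lt.ne' (Nat.dvd_one.1 this)⟩
  | cons i L ih =>
    obtain ⟨C, hC, hrC⟩ := ih fun j hj => hd j (List.mem_cons_of_mem _ hj)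
    rw [List.map_cons, List.prod_cons, hC, List.filter_cons]
    by_cases h : orderOf (Q : ZMod r) ∣ i
    · obtain ⟨k, hk⟩ := h
      have hrk : ¬ r ∣ k := fun h1 => hd i (List.mem_cons_self ..) ⟨k, hk⟩ (by rw [hk]; exact h1.mul_left _)
      obtain ⟨C', hC', hrC'⟩ := exists_pow_mul hr hQ hrk
      refine ⟨C' * C, ?_, fun h1 => (hrZ.dvd_mul.1 h1).elim hrC' hrC⟩
      rw [if_pos (by simp only [hk, _root_.dvd_mul_right, _root_.decide_true]), hk, hC', List.length_cons, pow_succ]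
      ring
    · refine ⟨(Q ^ i - 1) * C, ?_, fun h1 => (hrZ.dvd_mul.1 h1).elim (fun h2 => h ((dvd_pow_sub_one_iff i).1 h2)) hrC⟩
      rw [if_neg (by simpa only [_root_.decide_eq_true_eq] using h)]
      ring

/-- the index of a subgroup whose order contains `(r ^ v) ^ a` -/
theorem not_dvd_index {X : Type*} [Group X] [Finite X] (T : Subgroup X) {r : ℕ} (hr : r.Prime) {F : ℤ}
    {fs : ℤ} {a : ℕ} (hfs : ∃ R, fs = F ^ a * R ∧ ¬ (r : ℤ) ∣ R) {q N g : ℕ} (hrq : ¬ r ∣ q)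
    (hcard : g * Nat.card X = q ^ N * fs.natAbs) {v : ℕ} {b : ℤ} (hv : F = (r ^ v : ℕ) * b) (hb : ¬ (r : ℤ) ∣ b)
    (hT : (r ^ v) ^ a ∣ Nat.card T) : ¬ r ∣ T.index := by
  rintro ⟨i, hi⟩
  have hrZ := Nat.prime_iff_prime_int.1 hr
  obtain ⟨R, hR, hrR⟩ := hfs
  obtain ⟨j, hj⟩ := hT
  have h1 := Subgroup.card_mul_index T
  rw [hi, hj] at h1
  have h2 : (r ^ v) ^ a * r ∣ q ^ N * fs.natAbs := by
    rw [← hcard, ← h1]
    exact ⟨g * (j * i), by ring⟩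
  have hra : 0 < (r ^ v) ^ a := pow_pos (pow_pos hr.pos _) _
  have h3 : fs.natAbs = (r ^ v) ^ a * (b ^ a * R).natAbs := by
    rw [hR, hv, mul_pow, mul_assoc, Int.natAbs_mul]
    congr 1
  rw [h3] at h2
  have h4 : (r ^ v) ^ a * r ∣ (r ^ v) ^ a * (q ^ N * (b ^ a * R).natAbs) := by
    refine h2.trans (dvd_of_eq ?_)
    ring
  have h5 := Nat.dvd_of_mul_dvd_mul_left hra h4
  rcases (Nat.Prime.dvd_mul hr).1 h5 with h6 | h6
  · exact hrq (hr.dvd_of_dvd_pow h6)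
  · have h7 : (r : ℤ) ∣ b ^ a * R := Int.natCast_dvd.2 h6
    rcases hrZ.dvd_mul.1 h7 with h8 | h8
    · exact hb (hrZ.dvd_of_dvd_pow h8)
    · exact hrR h8

/-- the `r`-part of a nonzero integer -/
theorem exists_part {r : ℕ} (hr : r.Prime) {F : ℤ} (hF : F ≠ 0) :
    ∃ (v : ℕ) (b : ℤ), F = (r ^ v : ℕ) * b ∧ ¬ (r : ℤ) ∣ b := by
  obtain ⟨v, b, hb, h⟩ := Nat.exists_eq_pow_mul_and_not_dvd (n := F.natAbs) (Int.natAbs_ne_zero.2 hF) r hr.ne_one
  rcases Int.natAbs_eq F with h1 | h1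
  · refine ⟨v, b, ?_, fun h2 => hb (Int.natCast_dvd_natCast.1 h2)⟩
    rw [h1, h]
    push_cast
    rfl
  · refine ⟨v, -b, ?_, fun h2 => hb (Int.natCast_dvd_natCast.1 ((dvd_neg).1 h2))⟩
    rw [h1, h]
    push_cast
    ring

/-- `Φ_n(Q) ≠ 0` for `1 < |Q|` -/
theorem cyclotomic_eval_ne_zero {n : ℕ} (hn : 0 < n) {Q : ℤ} (hQ : 1 < Q.natAbs) : (cyclotomic n ℤ).eval Q ≠ 0 := by
  intro h
  have h5 := eval_dvd (x := Q) (cyclotomic.dvd_X_pow_sub_one n ℤ)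
  rw [h, eval_sub, eval_pow, eval_X, eval_one, zero_dvd_iff, sub_eq_zero] at h5
  have h6 := congrArg Int.natAbs h5
  rw [Int.natAbs_pow, Int.natAbs_one] at h6
  exact (Nat.one_lt_pow hn.ne' hQ).ne' h6

/-! ### the abelian subgroup -/

section Pos

open CoxeterSystem Cfsg Cfsg.Lie Cfsg.Lie.ChevalleyDatum
open Cfsg.Agent.ChevalleyStructure Cfsg.Agent.ChevalleyStructure.Elts Cfsg.Agent.ChevalleyStructure.CoxeterGeom
  Cfsg.Agent.ChevalleyStructure.CoxeterGeomTypes Cfsg.Agent.ChevalleyStructure.NPerm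
open Cfsg.Agent.Tits.Roots Cfsg.Agent.Tits.Core Cfsg.Agent.Nodes Cfsg.Agent.Nodes.Reps Cfsg.Agent.Nodes.BNOf
  Cfsg.Agent.Nodes.RGDChev Cfsg.Agent.Nodes.Bruhat Cfsg.Agent.Nodes.SubComb Cfsg.Agent.Nodes.Coroot
open Cfsg.Agent.KFacts.RgdField Cfsg.Agent.KFacts.RgdChevCoord Cfsg.Agent.BpExc.TorCent Cfsg.Agent.BpExc.TorChev
open Cfsg.Agent.GpExc.Field Cfsg.Agent.BpExc.Tow Cfsg.Agent.BpExc.TowChev Cfsg.Agent.BpExc.Fr
  Cfsg.Agent.BpExc.LangFr Cfsg.Agent.LangThm Cfsg.Agent.BpExc Cfsg.Agent.H129.TorusChar Cfsg.Agent.H129.TorusMain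

universe u v

variable {D : ChevalleyDatum} {l : ℕ} {M : CoxeterMatrix (Fin l)} (hp : IsType D l M) {k : Type u} [Field k]
  {W : Type*} [Group W] (cs : CoxeterSystem M W)
  {p e : ℕ} [Fact p.Prime] [CharP k p] {σ : MulAut ↥(D.group k)} {g : (Fin l → ℤ) ≃+ (Fin l → ℤ)}
  {X : Type v} [Group X] {e0 : X →* ↥(D.group k)} {d : ℕ} (S : Setup hp cs p e σ g e0 d)

include S

/-- **The abelian subgroup.** -/
theorem Setup.exists_torus [IsAlgClosed k] [Finite W] [Finite X] {ε : ℤ} (hε : ε = 1 ∨ ε = -1) {w1 : W}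
    (hT : HasTor hp cs g ε w1) {Q : ℤ} (hQ : Q = ε * (p ^ e : ℕ)) {n : ℕ} (hn0 : 0 < n)
    (hw : rep cs hp.isCartan w1 ^ n = 1) {a : ℕ} (x : Fin a → Fin l → ℤ) (y : Fin a → ((Fin l → ℤ) →ₗ[ℤ] ℤ)) (c : ℤ)
    (hx : ∀ i, aeval (rep cs hp.isCartan w1) (cyclotomic n ℤ) (x i) = 0)
    (hy : ∀ i i', ∀ j < (cyclotomic n ℤ).natDegree, y i ((rep cs hp.isCartan w1 ^ j) (x i')) =
      if i = i' ∧ j + 1 = (cyclotomic n ℤ).natDegree then c else 0)
    {fs : ℤ} {N g' : ℕ} (hcard : g' * Nat.card X = (p ^ e) ^ N * fs.natAbs) {π : Set ℕ}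
    (hπ : ∀ r ∈ π, r.Prime ∧ r ≠ 2 ∧ r ≠ p ∧ ¬ r ∣ d ∧ orderOf (Q : ZMod r) = n ∧ ¬ (r : ℤ) ∣ c ∧
      ∃ R, fs = (cyclotomic n ℤ).eval Q ^ a * R ∧ ¬ (r : ℤ) ∣ R) :
    ∃ T : Subgroup X, IsMulCommutative T ∧ ∀ r ∈ π, ¬ r ∣ T.index := by
  obtain ⟨w, hw'⟩ := hT
  have hNs := S.nsys hp cs
  obtain ⟨n', hn'⟩ := exists_rp cs hNs w
  obtain ⟨z, hz⟩ := lang_all hp cs S.pos S.frob S.fr 1 n'
  rw [map_one, one_mul] at hz
  refine ⟨tX D k e0 z, ⟨⟨fun a b => Subtype.ext (tX_comm hp S.inj z a.2 b.2)⟩⟩, fun r hr => ?_⟩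
  obtain ⟨hrp, hr2, hrc, hrd, hrn, hcr, hR⟩ := hπ r hr
  have hQ1 : 1 < Q.natAbs := by
    have h4 : Q.natAbs = p ^ e := by
      rw [hQ, Int.natAbs_mul]
      rcases hε with rfl | rfl <;> simp
    rw [h4]
    exact Nat.one_lt_pow S.pos.ne' (Fact.out : p.Prime).one_lt
  obtain ⟨v, b, hv, hb⟩ := exists_part hrp (cyclotomic_eval_ne_zero hn0 hQ1)
  refine not_dvd_index _ hrp hR (fun h => ?_) hcard hv hb
    (S.pow_dvd_card_tX hp cs hε hw' hn' hz hrp hrc hrd hr2 hQ hrn hw x y c hcr hx hy (v := v) ⟨b, hv⟩)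
  exact hrc ((Nat.prime_dvd_prime_iff_eq hrp (Fact.out : p.Prime)).1 (hrp.dvd_of_dvd_pow h))

end Pos

end Cfsg.Agent.H630.Exc
end

-- part: H630/ExcE
section
/-!
# Tables for the twisted tori of the exceptional groups (helper630)

* `rootL` : the list of the roots; `lc` : linear combinations of lists;
* `RegCk` : a decidable check, `regAt_of_ck` : it gives `RegAt`;
* `Setup.exists_torus_cert` : the abelian subgroup from a certificate `H130.WeylCk.Cert`.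
-/

set_option autoImplicit false
set_option linter.unusedSectionVars false

namespace Cfsg.Agent.H630.Exc

open CoxeterSystem Cfsg Cfsg.Lie Cfsg.Lie.ChevalleyDatum
open Cfsg.Agent.ChevalleyStructure Cfsg.Agent.ChevalleyStructure.Elts Cfsg.Agent.ChevalleyStructure.CoxeterGeom
  Cfsg.Agent.ChevalleyStructure.CoxeterGeomTypes Cfsg.Agent.ChevalleyStructure.NPerm
open Cfsg.Agent.Tits.Roots Cfsg.Agent.Tits.Core Cfsg.Agent.Nodes Cfsg.Agent.Nodes.Reps Cfsg.Agent.Nodes.BNOf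
  Cfsg.Agent.Nodes.RGDChev Cfsg.Agent.Nodes.Bruhat Cfsg.Agent.Nodes.SubComb Cfsg.Agent.Nodes.Coroot
open Cfsg.Agent.KFacts.RgdField Cfsg.Agent.KFacts.RgdChevCoord Cfsg.Agent.BpExc.TorCent Cfsg.Agent.BpExc.TorChev
open Cfsg.Agent.GpExc.Field Cfsg.Agent.BpExc.Tow Cfsg.Agent.BpExc.TowChev Cfsg.Agent.BpExc.Fr
  Cfsg.Agent.BpExc.LangFr Cfsg.Agent.LangThm Cfsg.Agent.BpExc Cfsg.Agent.H129.TorusChar Cfsg.Agent.H129.TorusMain
open Cfsg.Agent.H630.NH Cfsg.Agent.H130.WeylCk Cfsg.Agent.H130.PolyL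

universe u v

/-! ### lists -/

/-- the list of the roots -/
def rootL (D : ChevalleyDatum) (l : ℕ) : List (List ℤ) :=
  (List.range D.nroots).map fun r => (List.finRange l).map (vec D l r)

/-- linear combinations -/
def lc (l : ℕ) : List ℤ → List (List ℤ) → List ℤ
  | [], _ => List.replicate l 0
  | a :: v, m => match m with
    | [] => List.replicate l 0
    | b :: m => addV (b.map (fun x => a * x)) (lc l v m)

/-- the coefficients `⟨b, R^j u⟩`, `j < n`, the last one first -/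
def gl (l : ℕ) (m : List (List ℤ)) (b : List ℤ) : ℕ → List ℤ → List ℤ → List ℤ
  | 0, _, acc => acc
  | n + 1, u, acc => gl l m b n (lc l u m) (dot b u :: acc)

/-- the check: the element `(∏ word)^k` of order `n` is regular modulo the primes not dividing `N0` -/
def RegCk (D : ChevalleyDatum) (l : ℕ) (Al Bl : List (List ℤ)) (word : List (Fin l)) (k n : ℕ)
    (m : List (List ℤ)) (K : List (List ℤ × List ℤ × List ℤ × ℤ)) (N0 : ℤ) : Prop :=
  (m.length = l ∧ Bl.length = l ∧ (∀ b ∈ m, b.length = l) ∧ (∀ b ∈ Bl, b.length = l)) ∧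
  (∀ i : Fin l, acn Al word k (bas l i) = m.getD i []) ∧
  (∀ i : Fin l, acn Al word (k * n) (bas l i) = bas l i) ∧
  (∀ v ∈ rootL D l, gl l m (lc l v Bl) n v [] ∈ K.map Prod.fst) ∧
  (∀ t ∈ K, eqL (addL (mulL t.2.1 t.1) (mulL t.2.2.1 (cycL n))) [t.2.2.2] = true ∧ t.2.2.2 ∣ N0)

instance decRegCk (D : ChevalleyDatum) (l : ℕ) (Al Bl : List (List ℤ)) (word : List (Fin l)) (k n : ℕ)
    (m : List (List ℤ)) (K : List (List ℤ × List ℤ × List ℤ × ℤ)) (N0 : ℤ) :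
    Decidable (RegCk D l Al Bl word k n m K N0) := by
  unfold RegCk
  infer_instance

section Lists

variable {l : ℕ}

theorem length_lc : ∀ (v : List ℤ) (m : List (List ℤ)), (∀ b ∈ m, b.length = l) → (lc l v m).length = l
  | [], _, _ => by rw [lc, List.length_replicate]
  | a :: v, [], _ => by rw [lc, List.length_replicate]
  | a :: v, b :: m, h => by
    rw [lc, length_addV _ _ (by
      rw [List.length_map, h b (List.mem_cons_self ..), length_lc v m fun b hb => h b (List.mem_cons_of_mem _ hb)]),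
      length_lc v m fun b hb => h b (List.mem_cons_of_mem _ hb)]

theorem toFn_lc : ∀ (n : ℕ) (v : List ℤ) (m : List (List ℤ)), v.length = n → m.length = n → (∀ b ∈ m, b.length = l) →
    toFn l (lc l v m) = ∑ i : Fin n, v.getD i 0 • toFn l (m.getD i [])
  | 0, [], [], _, _, _ => by
    rw [lc, toFn_replicate, Finset.univ_eq_empty, Finset.sum_empty]
  | n + 1, a :: v, b :: m, hv, hm, h => by
    have ih := toFn_lc n v m (Nat.succ.inj hv) (Nat.succ.inj hm) fun b hb => h b (List.mem_cons_of_mem _ hb)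
    have h1 : (b.map (fun x => a * x)).length = l := by rw [List.length_map, h b (List.mem_cons_self ..)]
    have h2 := length_lc v m fun b hb => h b (List.mem_cons_of_mem _ hb)
    rw [lc, toFn_addV _ _ h1 h2, toFn_smul, ih, Fin.sum_univ_succ]
    rfl

/-- a linear map on lists -/
theorem toFn_lin {R : Module.End ℤ (Fin l → ℤ)} {m : List (List ℤ)} (hm : m.length = l) (hb : ∀ b ∈ m, b.length = l)
    (h : ∀ i : Fin l, R (Pi.single i 1) = toFn l (m.getD i [])) {v : List ℤ} (hv : v.length = l) :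
    toFn l (lc l v m) = R (toFn l v) := by
  rw [toFn_lc l v m hv hm hb, LinearMap.pi_apply_eq_sum_univ R (toFn l v)]
  refine Finset.sum_congr rfl fun i _ => ?_
  have h1 : (fun j => if i = j then (1 : ℤ) else 0) = Pi.single i 1 := by
    funext j
    by_cases hj : i = j
    · subst hj; simp
    · rw [if_neg hj, Pi.single_eq_of_ne (Ne.symm hj)]
  rw [h1, h]
  rfl

theorem eval_gl {R : Module.End ℤ (Fin l → ℤ)} {m : List (List ℤ)} (hm : m.length = l) (hb : ∀ b ∈ m, b.length = l)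
    (h : ∀ i : Fin l, R (Pi.single i 1) = toFn l (m.getD i [])) {b : List ℤ} (hbl : b.length = l) (Q : ℤ) :
    ∀ (n : ℕ) (u acc : List ℤ), u.length = l → (ofL (gl l m b n u acc)).eval Q =
      ∑ j ∈ Finset.range n, Q ^ (n - 1 - j) * _root_.Cfsg.Agent.H130.WeylCk.fn l b ((R ^ j) (toFn l u)) + Q ^ n * (ofL acc).eval Q
  | 0, u, acc, _ => by rw [gl, Finset.sum_range_zero, pow_zero, zero_add, one_mul]
  | n + 1, u, acc, hu => by
    have ih := eval_gl hm hb h hbl Q n (lc l u m) (dot b u :: acc) (length_lc _ _ hb)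
    rw [gl, ih, Finset.sum_range_succ', toFn_lin hm hb h hu]
    have h1 : ∀ j ∈ Finset.range n, Q ^ (n - 1 - j) * _root_.Cfsg.Agent.H130.WeylCk.fn l b ((R ^ j) (R (toFn l u))) =
        Q ^ (n + 1 - 1 - (j + 1)) * _root_.Cfsg.Agent.H130.WeylCk.fn l b ((R ^ (j + 1)) (toFn l u)) := by
      intro j hj
      rw [pow_succ, Module.End.mul_apply]
      congr 2
      omega
    rw [Finset.sum_congr rfl h1, pow_zero, Module.End.one_apply, Nat.sub_zero, Nat.add_sub_cancel]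
    have h2 : (ofL (dot b u :: acc)).eval Q = _root_.Cfsg.Agent.H130.WeylCk.fn l b (toFn l u) + Q * (ofL acc).eval Q := by
      rw [ofL, Polynomial.eval_add, Polynomial.eval_C, Polynomial.eval_mul, Polynomial.eval_X, dot_eq b u hbl hu]
      rfl
    rw [h2]
    ring

end Lists

variable {D : ChevalleyDatum} {l : ℕ} {M : CoxeterMatrix (Fin l)} (hp : IsType D l M)
  {W : Type*} [Group W] (cs : CoxeterSystem M W)

theorem exists_rootL {a : Fin l → ℤ} (ha : IsRoot cs hp.isCartan a) :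
    ∃ v ∈ rootL D l, v.length = l ∧ toFn l v = a := by
  obtain ⟨r, hr, rfl⟩ := (isRoot_iff hp cs a).1 ha
  refine ⟨_, List.mem_map_of_mem (List.mem_range.2 hr), by rw [List.length_map, List.length_finRange], ?_⟩
  funext j
  show ((List.finRange l).map (vec D l r)).getD j 0 = _
  rw [List.getD_eq_getElem _ _ (by rw [List.length_map, List.length_finRange]; exact j.2), List.getElem_map,
    List.getElem_finRange]
  rfl

theorem rep_single {Al : List (List ℤ)} (hA : MatList (cartanOf D l) Al) (word : List (Fin l)) (k : ℕ)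
    {m : List (List ℤ)} (h : ∀ i : Fin l, acn Al word k (bas l i) = m.getD i []) (i : Fin l) :
    rep cs hp.isCartan (cs.wordProd word ^ k) (Pi.single i 1) = toFn l (m.getD i []) := by
  rw [← h i, toFn_acn cs hp.isCartan hA word _ _ (length_bas i.1), toFn_bas, map_pow]

theorem rep_pow_eq_one {Al : List (List ℤ)} (hA : MatList (cartanOf D l) Al) (word : List (Fin l)) (k n : ℕ)
    (h : ∀ i : Fin l, acn Al word (k * n) (bas l i) = bas l i) :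
    rep cs hp.isCartan (cs.wordProd word ^ k) ^ n = 1 := by
  apply LinearMap.pi_ext'
  intro i
  apply LinearMap.ext_ring
  show (rep cs hp.isCartan (cs.wordProd word ^ k) ^ n) (Pi.single i 1) = Pi.single i 1
  rw [← toFn_bas, map_pow, ← pow_mul, ← toFn_acn cs hp.isCartan hA word _ _ (length_bas i.1), h i]

/-- **Regularity from a table.** -/
theorem regAt_of_ck {Al Bl : List (List ℤ)} (hA : MatList (cartanOf D l) Al) {word : List (Fin l)} {k n : ℕ}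
    {m : List (List ℤ)} {K : List (List ℤ × List ℤ × List ℤ × ℤ)} {N0 : ℤ} (H : RegCk D l Al Bl word k n m K N0)
    (hn : n ∈ H130.PolyL.idx) {r : ℕ} (hr : r.Prime) {Q : ℤ} (hQ : ¬ (r : ℤ) ∣ Q) (hrn : orderOf (Q : ZMod r) = n)
    (hrN : ¬ (r : ℤ) ∣ N0) : RegAt cs hp.isCartan (cs.wordProd word ^ k) n r Q := by
  obtain ⟨⟨h1, h2, h3, h4⟩, h5, -, h6, h7⟩ := H
  have hrZ := Nat.prime_iff_prime_int.1 hr
  intro a ha
  obtain ⟨v, hv, hvl, rfl⟩ := exists_rootL hp cs ha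
  have hbl : (lc l v Bl).length = l := length_lc _ _ h4
  refine ⟨(_root_.Cfsg.Agent.H130.WeylCk.fn l (lc l v Bl)).toAddMonoidHom, fun h => ?_⟩
  have h8 := eval_gl h1 h3 (rep_single hp cs hA word k h5) hbl Q n v [] hvl
  rw [ofL, Polynomial.eval_zero, mul_zero, add_zero] at h8
  have hn0 : 0 < n := by rw [← hrn]; exact ord_pos hr hQ
  have h9 : ∑ j ∈ Finset.range n, Q ^ (n - j) *
      (_root_.Cfsg.Agent.H130.WeylCk.fn l (lc l v Bl)).toAddMonoidHom ((rep cs hp.isCartan (cs.wordProd word ^ k) ^ j) (toFn l v)) =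
      Q * (ofL (gl l m (lc l v Bl) n v [])).eval Q := by
    rw [h8, Finset.mul_sum]
    refine Finset.sum_congr rfl fun j hj => ?_
    rw [Finset.mem_range] at hj
    have h10 : Q ^ (n - j) = Q * Q ^ (n - 1 - j) := by
      rw [← pow_succ']
      congr 1
      omega
    rw [h10, mul_assoc]
    rfl
  rw [h9] at h
  have h10 := (hrZ.dvd_mul.1 h).resolve_left hQ
  obtain ⟨t, ht, hte⟩ := List.mem_map.1 (h6 v hv)
  obtain ⟨h11, h12⟩ := h7 t ht
  have h13 := congrArg (fun f => f.eval Q) (ofL_eq_of_eqL h11)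
  rw [← hte] at h10
  simp only [ofL_addL, ofL_mulL, Polynomial.eval_add, Polynomial.eval_mul, ofL, Polynomial.eval_C,
    mul_zero, add_zero, ← cyclotomic_eq n hn] at h13
  have h14 := dvd_cyclotomic hr hQ
  rw [hrn] at h14
  apply hrN
  refine dvd_trans ?_ h12
  rw [← h13]
  exact dvd_add (h10.mul_left _) (h14.mul_left _)

/-- the trivial element -/
theorem regAt_one {r : ℕ} (hr : r.Prime) {Q : ℤ} (hQ : ¬ (r : ℤ) ∣ Q) : RegAt cs hp.isCartan 1 1 r Q := by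
  have hrZ := Nat.prime_iff_prime_int.1 hr
  intro a ha
  obtain ⟨i, hi⟩ := exists_coord hp cs ha hr
  refine ⟨coordF l i, fun h => ?_⟩
  rw [Finset.sum_range_one, pow_zero, Module.End.one_apply, Nat.sub_zero, pow_one] at h
  exact (hrZ.dvd_mul.1 h).elim hQ hi

section Cert

variable {k' : Type u} [Field k'] {p e : ℕ} [Fact p.Prime] [CharP k' p] {σ : MulAut ↥(D.group k')}
  {g : (Fin l → ℤ) ≃+ (Fin l → ℤ)} {X : Type v} [Group X] {e0 : X →* ↥(D.group k')} {d : ℕ}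
  (S : Setup hp cs p e σ g e0 d)

include S

/-- **The abelian subgroup, from a certificate.** -/
theorem Setup.exists_torus_cert [IsAlgClosed k'] [Finite W] [Finite X] {ε : ℤ} (hε : ε = 1 ∨ ε = -1)
    {Al : List (List ℤ)} (hA : MatList (cartanOf D l) Al) {word : List (Fin l)} {k : ℕ}
    (hT : HasTor hp cs g ε (cs.wordProd word ^ k)) {Q : ℤ} (hQ : Q = ε * (p ^ e : ℕ)) {n : ℕ} (hn0 : 0 < n)
    (hn : n ∈ H130.PolyL.idx) {a : ℕ} {c : ℤ} {xs ys : List (List ℤ)} (H : Cert Al l n a word k c xs ys)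
    {fs : ℤ} {N g' : ℕ} (hcard : g' * Nat.card X = (p ^ e) ^ N * fs.natAbs) {π : Set ℕ}
    (hπ : ∀ r ∈ π, r.Prime ∧ r ≠ 2 ∧ r ≠ p ∧ ¬ r ∣ d ∧ orderOf (Q : ZMod r) = n ∧ ¬ (r : ℤ) ∣ c ∧
      ∃ R, fs = (Polynomial.cyclotomic n ℤ).eval Q ^ a * R ∧ ¬ (r : ℤ) ∣ R) :
    ∃ T : Subgroup X, IsMulCommutative T ∧ ∀ r ∈ π, ¬ r ∣ T.index := by
  obtain ⟨h1, h2, h3, h4⟩ := H
  refine S.exists_torus hp cs hε hT hQ hn0 (rep_pow_eq_one hp cs hA word k n h1)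
    (fun i => toFn l (xs.getD i [])) (fun i => _root_.Cfsg.Agent.H130.WeylCk.fn l (ys.getD i [])) c ?_ ?_ hcard hπ
  · intro i
    rw [cyclotomic_eq _ hn, ← toFn_horner cs hp.isCartan hA word k _ (h2 i).1, h3 i, toFn_replicate]
  · intro i i' j hj
    have hdeg := natDegree_cyclotomic_eq hn
    have h5 := h4 i i' ⟨j, by omega⟩
    have h6 : (_root_.Cfsg.Agent.H130.WeylCk.fn l (ys.getD i [])) ((rep cs hp.isCartan (cs.wordProd word ^ k) ^ j) (toFn l (xs.getD i' []))) =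
        dot (ys.getD i []) (acn Al word (k * j) (xs.getD i' [])) := by
      rw [dot_eq _ _ (h2 i).2 (by rw [length_acn, (h2 i').1]), toFn_acn cs hp.isCartan hA word _ _ (h2 i').1, map_pow,
        ← pow_mul]
      rfl
    rw [h6, h5]
    congr 1
    apply propext
    constructor
    · rintro ⟨h7, h8⟩
      exact ⟨h7, by simp only at h8; omega⟩
    · rintro ⟨h7, h8⟩
      exact ⟨h7, by simp only; omega⟩

end Cert

end Cfsg.Agent.H630.Exc
end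

private theorem dce_989d795751cb : _root_.True := by
  try have : _root_.True := by simp only [_root_.Cfsg.Agent.H630.Exc.gl.eq_2]
  try have : _root_.True := by simp only [_root_.Cfsg.Agent.H630.Exc.lc.eq_1]
  try have : _root_.True := by simp only [_root_.Cfsg.Agent.H630.Exc.lc.eq_2]
  try have : _root_.True := by simp only [_root_.Cfsg.Agent.H630.Exc.gl.eq_def]
  try have : _root_.True := by simp only [_root_.Cfsg.Agent.H630.Exc.lc.eq_3]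
  try have : _root_.True := by simp only [_root_.Cfsg.Agent.H630.Exc.gl.eq_1]
  try have : _root_.True := by simp only [_root_.Cfsg.Agent.H630.Exc.lc.eq_def]
  exact _root_.True.intro
end

-- part: H630/ExcTab
section
set_option linter.all false
open scoped Cfsg.Agent.FastGrp

/-!
# Tables for the exceptional groups (helper630; generated)

* `HasF` : the certificates of `H130.WeylTab` with the bound for the constant;
* `reg_T_n` : the regular elements.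
-/

set_option autoImplicit false

namespace Cfsg.Agent.H630.Exc

open Cfsg.Agent.H130.WeylCk Cfsg.Agent.H130.PolyL Cfsg.Agent.H130.WeylTab
  Cfsg.Agent.ChevalleyStructure.CoxeterGeomTypes

/-- there is a certificate, the constant divides the product of the degrees divisible by `e` -/
def HasF (Al : List (List ℤ)) (l : ℕ) (degs : List ℕ) (e : ℕ) : Prop :=
  ∃ (word : List (Fin l)) (k : ℕ) (c : ℤ) (xs ys : List (List ℤ)),
    Cert Al l e (degs.filter (fun i => e ∣ i)).length word k c xs ys ∧ c ∣ ((degs.filter (fun i => e ∣ i)).prod : ℤ)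

namespace Fast

noncomputable section

/-- evaluate a number first -/
def fN {α : Type} (n : ℕ) (k : ℕ → α) : α := @Nat.rec (fun _ => α) (k 0) (fun m _ => k (Nat.succ m)) n

theorem fN_eq {α : Type} (n : ℕ) (k : ℕ → α) : fN n k = k n := by cases n <;> rfl

/-- evaluate an integer first -/
def fZ {α : Type} (x : ℤ) (k : ℤ → α) : α :=
  @Int.rec (fun _ => α) (fun n => fN n fun m => k (Int.ofNat m)) (fun n => fN n fun m => k (Int.negSucc m)) x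

theorem fZ_eq {α : Type} (x : ℤ) (k : ℤ → α) : fZ x k = k x := by
  cases x with
  | ofNat n => exact fN_eq n fun m => k (Int.ofNat m)
  | negSucc n => exact fN_eq n fun m => k (Int.negSucc m)

/-- evaluate the images of a list first -/
def mpK {α β : Type} (f : β → ℤ) (v : List β) : (List ℤ → α) → α :=
  @List.rec β (fun _ => (List ℤ → α) → α) (fun k => k []) (fun a _ ih k => fZ (f a) fun x => ih fun u => k (x :: u)) v

theorem mpK_eq {α β : Type} (f : β → ℤ) (v : List β) (k : List ℤ → α) : mpK f v k = k (v.map f) := by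
  induction v generalizing k with
  | nil => rfl
  | cons a v ih => exact (fZ_eq (f a) fun x => mpK f v fun u => k (x :: u)).trans (ih _)

/-- evaluate a list first -/
def fL {α : Type} (v : List ℤ) (k : List ℤ → α) : α := mpK (fun x => x) v k

theorem fL_eq {α : Type} (v : List ℤ) (k : List ℤ → α) : fL v k = k v := (mpK_eq _ _ _).trans (congrArg k (List.map_id' v))

/-- evaluate a matrix first -/
def fM {α : Type} (m : List (List ℤ)) : (List (List ℤ) → α) → α :=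
  @List.rec (List ℤ) (fun _ => (List (List ℤ) → α) → α) (fun k => k []) (fun a _ ih k => fL a fun x => ih fun u => k (x :: u)) m

theorem fM_eq {α : Type} (m : List (List ℤ)) (k : List (List ℤ) → α) : fM m k = k m := by
  induction m generalizing k with
  | nil => rfl
  | cons a v ih => exact (fL_eq _ _).trans (ih _)

/-- the difference -/
def zs (m n : ℕ) : ℤ := @Nat.rec (fun _ => ℤ) (Int.ofNat (Nat.sub m n)) (fun k _ => Int.negSucc k) (Nat.sub n m)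

theorem zs_eq (m n : ℕ) : zs m n = m - n := by
  rw [← Int.subNatNat_eq_coe]
  show _ = match Nat.sub n m with
    | 0 => Int.ofNat (m - n)
    | k + 1 => Int.negSucc k
  unfold zs
  cases Nat.sub n m <;> rfl

/-- one product -/
def s1 (f : ℕ → ℕ → ℤ) (a : ℕ) (b : ℤ) (p n : ℕ) : ℤ :=
  @Int.rec (fun _ => ℤ) (fun b => f (Nat.add p (Nat.mul a b)) n) (fun b => f p (Nat.add n (Nat.mul a (Nat.succ b)))) b

def s2 (f : ℕ → ℕ → ℤ) (a : ℕ) (b : ℤ) (p n : ℕ) : ℤ :=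
  @Int.rec (fun _ => ℤ) (fun b => f p (Nat.add n (Nat.mul a b))) (fun b => f (Nat.add p (Nat.mul a (Nat.succ b))) n) b

def s3 (f : ℕ → ℕ → ℤ) (a b : ℤ) (p n : ℕ) : ℤ :=
  @Int.rec (fun _ => ℤ) (fun a => @Nat.rec (fun _ => ℤ) (f p n) (fun _ _ => s1 f a b p n) a)
    (fun a => s2 f (Nat.succ a) b p n) a

theorem s3_eq {f : ℕ → ℕ → ℤ} {c : ℤ} (h : ∀ p n, f p n = p - n + c) (a b : ℤ) (p n : ℕ) :
    s3 f a b p n = p - n + (a * b + c) := by
  rcases a with (_ | a) | a <;> rcases b with b | b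
  all_goals
    refine (h _ _).trans ?_
    simp only [Int.ofNat_eq_natCast, Int.negSucc_eq, Nat.add_eq, Nat.mul_eq, Nat.succ_eq_add_one]
    push_cast
    ring

/-- the scalar product -/
def dotF (a : List ℤ) : List ℤ → ℕ → ℕ → ℤ :=
  @List.rec ℤ (fun _ => List ℤ → ℕ → ℕ → ℤ) (fun _ => zs) (fun a _ ih v =>
    @List.rec ℤ (fun _ => ℕ → ℕ → ℤ) zs (fun b v _ => s3 (ih v) a b) v) a

theorem dotF_eq (a v : List ℤ) (p n : ℕ) : dotF a v p n = p - n + dot a v := by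
  induction a generalizing v p n with
  | nil => exact (zs_eq p n).trans (add_zero _).symm
  | cons a q ih =>
    cases v with
    | nil => exact (zs_eq p n).trans (add_zero _).symm
    | cons b v => exact s3_eq (ih v) a b p n

theorem dotF_zero (a v : List ℤ) : dotF a v 0 0 = dot a v := by rw [dotF_eq, sub_self, zero_add]

/-- the reflection at the position `i` for the row `a` -/
def rfK {α : Type} (a v : List ℤ) (w : List ℤ) : ℕ → (List ℤ → α) → α :=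
  @List.rec ℤ (fun _ => ℕ → (List ℤ → α) → α) (fun _ k => k []) (fun b w ih i k =>
    @Nat.rec (fun _ => α) (fZ (s3 (dotF a v) 1 b 0 0) fun x => k (x :: w)) (fun i _ => ih i fun u => k (b :: u)) i) w

theorem dot_neg (a v : List ℤ) : dot (a.map Int.neg) v = -dot a v := by
  induction a generalizing v with
  | nil => rfl
  | cons a q ih =>
    cases v with
    | nil => rfl
    | cons b v =>
      show -a * b + dot (q.map Int.neg) v = -(a * b + dot q v)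
      rw [ih]
      ring

theorem rfK_eq {α : Type} (a v w : List ℤ) (i : ℕ) (k : List ℤ → α) :
    rfK (a.map Int.neg) v w i k = k (w.set i (w.getD i 0 - dot a v)) := by
  induction w generalizing i k with
  | nil => rfl
  | cons b w ih =>
    cases i with
    | zero =>
      refine (fZ_eq _ fun x => k (x :: w)).trans (congrArg (fun x => k (x :: w)) ((s3_eq (dotF_eq _ v) 1 b 0 0).trans ?_))
      show _ = b - dot a v
      rw [dot_neg]
      ring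
    | succ i => exact ih i _

/-- a product of reflections -/
def acK {α : Type} (L : List ℕ) : List (List ℤ) → List ℤ → (List ℤ → α) → α :=
  @List.rec ℕ (fun _ => List (List ℤ) → List ℤ → (List ℤ → α) → α) (fun _ v k => k v) (fun i _ ih R v k =>
    @List.rec (List ℤ) (fun _ => α) (k v) (fun a R _ => ih R v fun u => rfK a u u i k) R) L

/-- its powers -/
def acnK {α : Type} (L : List ℕ) (R : List (List ℤ)) (n : ℕ) : List ℤ → (List ℤ → α) → α :=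
  @Nat.rec (fun _ => List ℤ → (List ℤ → α) → α) (fun v k => k v) (fun _ ih v k => acK L R v fun u => ih u k) n

variable {l : ℕ} (A : List (List ℤ)) (L : List (Fin l))

/-- the rows of the reflections -/
def rws : List (List ℤ) := L.map fun i => (A.getD i []).map Int.neg

theorem acK_eq {α : Type} (v : List ℤ) (k : List ℤ → α) : acK (L.map Fin.val) (rws A L) v k = k (ac A L v) := by
  induction L generalizing k with
  | nil => rfl
  | cons i L ih => exact (ih _).trans (rfK_eq _ _ _ _ _)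

theorem acnK_eq {α : Type} (n : ℕ) (v : List ℤ) (k : List ℤ → α) :
    acnK (L.map Fin.val) (rws A L) n v k = k (acn A L n v) := by
  induction n generalizing v with
  | zero => rfl
  | succ n ih => exact (acK_eq A L _ _).trans (ih _)

/-- the polynomial in the power -/
def horK {α : Type} (l : ℕ) (L : List ℕ) (R : List (List ℤ)) (n : ℕ) (x p : List ℤ) : (List ℤ → α) → α :=
  @List.rec ℤ (fun _ => (List ℤ → α) → α) (fun k => fL (List.replicate l 0) k) (fun c _ ih k =>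
    ih fun u => acnK L R n u fun u => fL (addV (x.map fun a => c * a) u) k) p

theorem horK_eq {α : Type} (n : ℕ) (x p : List ℤ) (k : List ℤ → α) :
    horK l (L.map Fin.val) (rws A L) n x p k = k (horner A L n x p) := by
  induction p generalizing k with
  | nil => exact fL_eq _ _
  | cons c p ih => exact (ih _).trans ((acnK_eq A L _ _ _).trans (fL_eq _ _))

/-- evaluate a list of numbers first -/
def fW {α : Type} (v : List ℕ) : (List ℕ → α) → α :=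
  @List.rec ℕ (fun _ => (List ℕ → α) → α) (fun k => k []) (fun a _ ih k => fN a fun x => ih fun u => k (x :: u)) v

theorem fW_eq {α : Type} (v : List ℕ) (k : List ℕ → α) : fW v k = k v := by
  induction v generalizing k with
  | nil => rfl
  | cons a v ih => exact (fN_eq a fun x => fW v fun u => k (x :: u)).trans (ih _)

/-- the power of the word on the basis -/
def pwF (l : ℕ) (W : List ℕ) (R : List (List ℤ)) (n : ℕ) (t : ℕ → List ℤ) : Bool :=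
  (List.range l).all fun i => fL (bas l i) fun b => acnK W R n b fun u => decide (u = t i)

theorem pwF_spec {n : ℕ} {t : ℕ → List ℤ} (h : pwF l (L.map Fin.val) (rws A L) n t = true) (i : Fin l) :
    acn A L n (bas l i) = t i := by
  have h1 := List.all_eq_true.1 h i (List.mem_range.2 i.2)
  rw [fL_eq, acnK_eq] at h1
  exact of_decide_eq_true h1

/-- the check of a certificate -/
def certF (e a k : ℕ) (c : ℤ) (xs ys : List (List ℤ)) : Bool :=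
  fW (L.map Fin.val) fun W => fM (rws A L) fun R => pwF l W R (k * e) (bas l) &&
    (decide (∀ i : Fin a, (xs.getD i []).length = l ∧ (ys.getD i []).length = l) &&
    (List.range a).all fun i' => fL (xs.getD i' []) fun x =>
      (horK l W R k x (cycL e) fun u => decide (u = List.replicate l 0)) &&
      (List.range ((cycL e).length - 1)).all fun j => acnK W R (k * j) x fun u =>
        decide (∀ i : Fin a, dot (ys.getD i []) u = if i.1 = i' ∧ j + 2 = (cycL e).length then c else 0))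

theorem cert {A : List (List ℤ)} {L : List (Fin l)} {e a k : ℕ} {c : ℤ} {xs ys : List (List ℤ)}
    (h : certF A L e a k c xs ys = true) : Cert A l e a L k c xs ys := by
  rw [certF, fW_eq, fM_eq, Bool.and_eq_true, Bool.and_eq_true, List.all_eq_true] at h
  have h1 := fun i : Fin a => Bool.and_eq_true_iff.1 ((fL_eq _ _).symm.trans (h.2.2 i (List.mem_range.2 i.2)))
  refine ⟨pwF_spec A L h.1, of_decide_eq_true h.2.1, fun i => of_decide_eq_true ((horK_eq A L _ _ _ _).symm.trans (h1 i).1),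
    fun i i' j => ?_⟩
  have h2 := of_decide_eq_true ((acnK_eq A L _ _ _).symm.trans
    (List.all_eq_true.1 (h1 i').2 j (List.mem_range.2 j.2))) i
  simpa only [Fin.ext_iff] using h2

/-- the columns -/
def tr (l : ℕ) (m : List (List ℤ)) : List (List ℤ) := (List.range l).map fun j => m.map fun b => b.getD j 0

theorem addV_map (a : ℤ) (f : ℕ → ℤ) (b : List ℤ) :
    addV (b.map fun x => a * x) ((List.range b.length).map f) = (List.range b.length).map fun j => b.getD j 0 * a + f j := by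
  induction b generalizing f with
  | nil => rfl
  | cons x b ih =>
    rw [List.length_cons, List.range_succ_eq_map, List.map_cons, List.map_cons, List.map_cons, List.map_map, List.map_map]
    exact congrArg₂ List.cons (congrArg (· + f 0) (mul_comm a x)) (ih _)

theorem lc_eq (v : List ℤ) (m : List (List ℤ)) (h : ∀ b ∈ m, b.length = l) : lc l v m = (tr l m).map fun c => dot c v := by
  rw [tr, List.map_map]
  induction m generalizing v with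
  | nil =>
    refine (show lc l v [] = List.replicate l 0 by cases v <;> rfl).trans ?_
    exact ((List.map_const' ..).trans (by rw [List.length_range]; rfl)).symm
  | cons b m ih =>
    cases v with
    | nil => exact ((List.map_const' ..).trans (by rw [List.length_range]; rfl)).symm
    | cons a v =>
      obtain rfl := h b (List.mem_cons_self ..)
      exact (congrArg _ (ih v fun c hc => h c (List.mem_cons_of_mem _ hc))).trans (addV_map a _ b)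

/-- the coefficients -/
def glK {α : Type} (t : List (List ℤ)) (b : List ℤ) (n : ℕ) : List ℤ → List ℤ → (List ℤ → α) → α :=
  @Nat.rec (fun _ => List ℤ → List ℤ → (List ℤ → α) → α) (fun _ acc k => k acc) (fun n ih u acc k =>
    fZ (dotF b u 0 0) fun x => @Nat.rec (fun _ => α) (k (x :: acc))
      (fun _ _ => mpK (fun c => dotF c u 0 0) t fun w => ih w (x :: acc) k) n) n

theorem glK_eq {α : Type} {m : List (List ℤ)} (h : ∀ b ∈ m, b.length = l) (b : List ℤ) (n : ℕ) (u acc : List ℤ)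
    (k : List ℤ → α) : glK (tr l m) b n u acc k = k (gl l m b n u acc) := by
  induction n generalizing u acc with
  | zero => rfl
  | succ n ih =>
    refine (fZ_eq (dotF b u 0 0) fun x => @Nat.rec (fun _ => α) (k (x :: acc))
      (fun _ _ => mpK (fun c => dotF c u 0 0) (tr l m) fun w => glK (tr l m) b n w (x :: acc) k) n).trans ?_
    rw [dotF_zero]
    cases n with
    | zero => rfl
    | succ n =>
      refine (mpK_eq _ _ _).trans ((ih _ _).trans ?_)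
      simp only [dotF_zero]
      rw [← lc_eq u m h]
      rfl

/-- the check of a regular element -/
def regF (D : Cfsg.Lie.ChevalleyDatum) (B : List (List ℤ)) (k n : ℕ) (m : List (List ℤ))
    (K : List (List ℤ × List ℤ × List ℤ × ℤ)) (N : ℤ) : Bool :=
  decide (m.length = l ∧ B.length = l ∧ (∀ b ∈ m, b.length = l) ∧ (∀ b ∈ B, b.length = l)) &&
    ((fW (L.map Fin.val) fun W => fM (rws A L) fun R => pwF l W R k (fun i => m.getD i []) && pwF l W R (k * n) (bas l)) &&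
    ((fM (tr l m) fun t => fM (tr l B) fun s => fM (K.map Prod.fst) fun Q => (rootL D l).all fun v => fL v fun v =>
      mpK (fun c => dotF c v 0 0) s fun b => glK t b n v [] fun g => decide (g ∈ Q)) &&
    decide (∀ t ∈ K, eqL (addL (mulL t.2.1 t.1) (mulL t.2.2.1 (cycL n))) [t.2.2.2] = true ∧ t.2.2.2 ∣ N)))

theorem reg {D : Cfsg.Lie.ChevalleyDatum} {A B : List (List ℤ)} {L : List (Fin l)} {k n : ℕ} {m : List (List ℤ)}
    {K : List (List ℤ × List ℤ × List ℤ × ℤ)} {N : ℤ} (h : regF A L D B k n m K N = true) : RegCk D l A B L k n m K N := by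
  rw [regF, fW_eq, fM_eq, fM_eq, fM_eq, fM_eq, Bool.and_eq_true, Bool.and_eq_true, Bool.and_eq_true, Bool.and_eq_true,
    List.all_eq_true] at h
  have h0 := of_decide_eq_true h.1
  refine ⟨h0, pwF_spec A L h.2.1.1, pwF_spec A L h.2.1.2, fun v hv => ?_, of_decide_eq_true h.2.2.2⟩
  have h1 := h.2.2.1 v hv
  rw [fL_eq, mpK_eq, glK_eq h0.2.2.1] at h1
  simp only [dotF_zero] at h1
  rw [← lc_eq v B h0.2.2.2] at h1
  exact of_decide_eq_true h1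

end

end Fast

theorem hasF_G2_1 : HasF alG2 2 [2, 6] 1 :=
  ⟨[], 1, 1, [[1, 0], [0, 1]],
    [[1, 0], [0, 1]], Fast.cert (by decide +kernel), by decide +kernel⟩

theorem hasF_G2_2 : HasF alG2 2 [2, 6] 2 :=
  ⟨[0, 1], 3, 1, [[1, 1], [0, 1]],
    [[1, 0], [-1, 1]], Fast.cert (by decide +kernel), by decide +kernel⟩

theorem hasF_G2_3 : HasF alG2 2 [2, 6] 3 :=
  ⟨[0, 1], 2, 3, [[0, 1]],
    [[-1, 0]], Fast.cert (by decide +kernel), by decide +kernel⟩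

theorem hasF_G2_6 : HasF alG2 2 [2, 6] 6 :=
  ⟨[0, 1], 1, 3, [[0, 1]],
    [[-1, 0]], Fast.cert (by decide +kernel), by decide +kernel⟩

theorem hasF_G2 : ∀ e ∈ [1, 2, 3, 6], HasF alG2 2 [2, 6] e := by
  intro e he
  simp only [List.mem_cons, List.not_mem_nil, or_false] at he
  rcases he with rfl | rfl | rfl | rfl
  · exact hasF_G2_1
  · exact hasF_G2_2
  · exact hasF_G2_3
  · exact hasF_G2_6

theorem hasF_F4_1 : HasF alF4 4 [2, 6, 8, 12] 1 :=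
  ⟨[], 1, 3, [[0, 1, 0, 0], [0, 0, -1, 1], [1, 1, -1, -1], [-1, 0, 0, -1]],
    [[-1, 3, 1, 1], [-1, 0, -2, 1], [1, 0, -1, -1], [-2, 0, -1, -1]], Fast.cert (by decide +kernel), by decide +kernel⟩

theorem hasF_F4_2 : HasF alF4 4 [2, 6, 8, 12] 2 :=
  ⟨[0, 1, 2, 3], 6, 1, [[1, 1, 0, 0], [0, 1, 1, 0], [0, 1, 1, 1], [0, 1, 0, 1]],
    [[1, 0, 0, 0], [-1, 1, 0, -1], [1, -1, 1, 1], [-1, 1, -1, 0]], Fast.cert (by decide +kernel), by decide +kernel⟩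

theorem hasF_F4_3 : HasF alF4 4 [2, 6, 8, 12] 3 :=
  ⟨[0, 1, 2, 3], 4, 2, [[0, 0, 1, 1], [0, 0, 1, 0]],
    [[1, -1, 0, 0], [-2, 1, 0, 0]], Fast.cert (by decide +kernel), by decide +kernel⟩

theorem hasF_F4_4 : HasF alF4 4 [2, 6, 8, 12] 4 :=
  ⟨[0, 1, 2, 3], 3, 2, [[1, 0, 0, 0], [0, 0, 0, 1]],
    [[0, 2, -2, 0], [0, 1, -2, 0]], Fast.cert (by decide +kernel), by decide +kernel⟩

theorem hasF_F4_6 : HasF alF4 4 [2, 6, 8, 12] 6 :=
  ⟨[0, 1, 2, 3], 2, 1, [[0, 1, 1, 0], [0, 1, 0, 0]],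
    [[-1, 0, 0, 1], [0, 0, 0, 1]], Fast.cert (by decide +kernel), by decide +kernel⟩

theorem hasF_F4_8 : HasF alF4 4 [2, 6, 8, 12] 8 :=
  ⟨[2, 1, 3, 2, 1, 0, 2, 2, 3, 3], 1, 1, [[0, 1, 0, 0]],
    [[0, 0, 0, -1]], Fast.cert (by decide +kernel), by decide +kernel⟩

theorem hasF_F4_12 : HasF alF4 4 [2, 6, 8, 12] 12 :=
  ⟨[0, 1, 2, 3], 1, 1, [[1, 0, 0, 0]],
    [[0, 0, 0, 1]], Fast.cert (by decide +kernel), by decide +kernel⟩

theorem hasF_F4 : ∀ e ∈ [1, 2, 3, 4, 6, 8, 12], HasF alF4 4 [2, 6, 8, 12] e := by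
  intro e he
  simp only [List.mem_cons, List.not_mem_nil, or_false] at he
  rcases he with rfl | rfl | rfl | rfl | rfl | rfl | rfl
  · exact hasF_F4_1
  · exact hasF_F4_2
  · exact hasF_F4_3
  · exact hasF_F4_4
  · exact hasF_F4_6
  · exact hasF_F4_8
  · exact hasF_F4_12

theorem hasF_E6_1 : HasF alE6 6 [2, 5, 6, 8, 9, 12] 1 :=
  ⟨[], 1, 1, [[0, 0, 0, 0, 0, 1], [0, 0, 0, -1, 1, 0], [1, -1, -1, -1, 1, 0], [0, -1, 0, -1, 1, 0], [-1, 0, 0, 0, -1, 0], [0, 1, -1, 0, 0, 0]],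
    [[0, 0, 0, 0, 0, 1], [1, 1, 1, -2, -1, 0], [1, 0, 0, -1, -1, 0], [-2, -1, -1, 2, 2, 0], [0, 0, 0, -1, -1, 0], [-1, 0, -1, 1, 1, 0]], Fast.cert (by decide +kernel), by decide +kernel⟩

theorem hasF_E6_2 : HasF alE6 6 [2, 5, 6, 8, 9, 12] 2 :=
  ⟨[0, 1, 2, 3, 4, 5], 6, 1, [[2, 0, 1, 1, -1, 0], [-1, 0, -1, -1, 0, 0], [1, 0, 0, 1, 0, 1], [0, 1, 0, 0, 0, 0]],
    [[0, 0, 0, 0, -1, 0], [0, 0, -1, 0, -1, 0], [0, 0, 0, 0, 0, 1], [0, 1, 0, 0, 0, 0]], Fast.cert (by decide +kernel), by decide +kernel⟩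

theorem hasF_E6_3 : HasF alE6 6 [2, 5, 6, 8, 9, 12] 3 :=
  ⟨[0, 1, 2, 3, 4, 5], 4, 1, [[1, 1, 0, 1, 0, 1], [0, 0, 0, 1, 0, 1], [0, 1, 0, 0, 1, 0]],
    [[-1, 1, 1, 0, -1, 0], [0, 0, 0, -1, 0, 1], [0, 0, 1, -2, 0, 2]], Fast.cert (by decide +kernel), by decide +kernel⟩

theorem hasF_E6_4 : HasF alE6 6 [2, 5, 6, 8, 9, 12] 4 :=
  ⟨[0, 1, 2, 3, 4, 5], 3, 1, [[0, 1, -1, 0, 0, 1], [1, 0, 1, 1, 0, 0]],
    [[0, -1, -1, 1, 0, 0], [0, -1, -1, 1, 1, 0]], Fast.cert (by decide +kernel), by decide +kernel⟩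

theorem hasF_E6_5 : HasF alE6 6 [2, 5, 6, 8, 9, 12] 5 :=
  ⟨[5, 3, 4, 2, 3, 2], 1, 1, [[0, 0, 1, 0, 0, 0]],
    [[0, 0, 0, 1, -1, 1]], Fast.cert (by decide +kernel), by decide +kernel⟩

theorem hasF_E6_6 : HasF alE6 6 [2, 5, 6, 8, 9, 12] 6 :=
  ⟨[0, 1, 2, 3, 4, 5], 2, 1, [[-1, 0, -1, 0, 1, 1], [1, 0, 1, 1, 0, 0]],
    [[0, 0, 0, 0, -1, 1], [0, 1, 0, 0, -2, 2]], Fast.cert (by decide +kernel), by decide +kernel⟩

theorem hasF_E6_8 : HasF alE6 6 [2, 5, 6, 8, 9, 12] 8 :=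
  ⟨[2, 4, 0, 2, 3, 0, 5, 1, 2, 4, 4], 1, 1, [[1, 0, 1, 1, 0, 0]],
    [[-1, 0, 1, 0, -1, 0]], Fast.cert (by decide +kernel), by decide +kernel⟩

theorem hasF_E6_9 : HasF alE6 6 [2, 5, 6, 8, 9, 12] 9 :=
  ⟨[1, 3, 4, 1, 3, 4, 0, 5, 1, 5, 2, 5], 1, 1, [[0, 0, 0, 1, 0, 1]],
    [[-1, 0, 2, -1, -1, 1]], Fast.cert (by decide +kernel), by decide +kernel⟩

theorem hasF_E6_12 : HasF alE6 6 [2, 5, 6, 8, 9, 12] 12 :=
  ⟨[0, 1, 2, 3, 4, 5], 1, 2, [[-1, 0, 0, 0, 1, 0]],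
    [[0, 1, 0, -1, 0, 0]], Fast.cert (by decide +kernel), by decide +kernel⟩

theorem hasF_E6 : ∀ e ∈ [1, 2, 3, 4, 5, 6, 8, 9, 12], HasF alE6 6 [2, 5, 6, 8, 9, 12] e := by
  intro e he
  simp only [List.mem_cons, List.not_mem_nil, or_false] at he
  rcases he with rfl | rfl | rfl | rfl | rfl | rfl | rfl | rfl | rfl
  · exact hasF_E6_1
  · exact hasF_E6_2
  · exact hasF_E6_3
  · exact hasF_E6_4
  · exact hasF_E6_5
  · exact hasF_E6_6
  · exact hasF_E6_8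
  · exact hasF_E6_9
  · exact hasF_E6_12

theorem hasF_E7_1 : HasF alE7 7 [2, 6, 8, 10, 12, 14, 18] 1 :=
  ⟨[], 1, 1, [[0, 1, 0, 0, 1, 0, 0], [0, 0, 1, 0, 0, 0, 0], [0, 0, 1, 0, 1, 0, 0], [0, 1, 1, 1, 0, 1, 0], [1, 1, 0, 0, 0, 1, 0], [0, 0, 1, 0, 0, 1, 0], [0, 0, 0, 0, 1, 0, 1]],
    [[-1, 1, 0, -1, 0, 0, 0], [0, 1, 1, -1, -1, -1, 1], [1, -1, 0, 1, 1, 0, -1], [0, 0, 0, 1, 0, 0, 0], [1, 0, 0, 0, 0, 0, 0], [-1, 0, 0, -1, 0, 1, 0], [0, 0, 0, 0, 0, 0, 1]], Fast.cert (by decide +kernel), by decide +kernel⟩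

theorem hasF_E7_2 : HasF alE7 7 [2, 6, 8, 10, 12, 14, 18] 2 :=
  ⟨[0, 1, 2, 3, 4, 5, 6], 9, 3, [[0, 0, 0, 1, 0, 0, 0], [0, 0, 0, 0, 0, 0, 1], [0, 0, 1, 0, 1, 1, 0], [1, 1, 0, 0, 1, 0, 0], [1, 0, 1, 1, 0, 0, 1], [0, 1, 0, 1, 0, 0, 0], [1, 0, 0, 0, 0, 1, 1]],
    [[0, -3, -3, 3, 3, 0, 0], [-2, 0, -1, 0, 2, -1, 3], [-1, 0, 1, 0, 1, 1, 0], [1, 0, -1, 0, 2, -1, 0], [1, 0, 2, 0, -1, -1, 0], [-1, 3, 1, 0, -2, 1, 0], [1, 0, -1, 0, -1, 2, 0]], Fast.cert (by decide +kernel), by decide +kernel⟩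

theorem hasF_E7_3 : HasF alE7 7 [2, 6, 8, 10, 12, 14, 18] 3 :=
  ⟨[0, 1, 2, 3, 4, 5, 6], 6, 2, [[1, 1, 1, 1, 0, 0, 0], [0, 0, 0, 0, 0, 1, 1], [0, 0, 1, 0, 1, 1, 0]],
    [[1, -1, -1, 1, 0, 1, -1], [2, -1, -1, 0, 0, 1, -1], [0, 1, -1, 0, 0, 1, -1]], Fast.cert (by decide +kernel), by decide +kernel⟩

theorem hasF_E7_4 : HasF alE7 7 [2, 6, 8, 10, 12, 14, 18] 4 :=
  ⟨[4, 1, 6, 5, 6, 2, 6, 6, 3], 2, 2, [[0, 0, 0, 1, 0, 0, 0], [0, 1, 1, 0, 0, 0, 0]],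
    [[0, 0, 0, 0, -2, 2, 0], [0, 0, 0, 0, -1, 2, 0]], Fast.cert (by decide +kernel), by decide +kernel⟩

theorem hasF_E7_5 : HasF alE7 7 [2, 6, 8, 10, 12, 14, 18] 5 :=
  ⟨[2, 2, 6, 1, 3, 4, 2, 5, 4, 6, 4, 5], 2, 1, [[0, 0, 1, 1, 1, 0, 0]],
    [[0, 0, 0, 0, 0, -1, 1]], Fast.cert (by decide +kernel), by decide +kernel⟩

theorem hasF_E7_6 : HasF alE7 7 [2, 6, 8, 10, 12, 14, 18] 6 :=
  ⟨[0, 1, 2, 3, 4, 5, 6], 3, 1, [[-1, 0, 0, -1, -1, 0, 0], [0, 1, 1, -1, 0, 1, -1], [1, 1, 0, 0, 0, 1, 0]],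
    [[-1, -3, -1, 0, 1, 4, 0], [0, 1, 0, 0, 0, -1, 0], [0, -3, 1, 3, -3, 3, -2]], Fast.cert (by decide +kernel), by decide +kernel⟩

theorem hasF_E7_7 : HasF alE7 7 [2, 6, 8, 10, 12, 14, 18] 7 :=
  ⟨[4, 4, 3, 0, 6, 4, 5, 1, 2, 6, 1, 5], 1, 1, [[1, 0, 0, 0, 0, 0, 0]],
    [[0, 0, 1, -1, 0, 0, 0]], Fast.cert (by decide +kernel), by decide +kernel⟩

theorem hasF_E7_8 : HasF alE7 7 [2, 6, 8, 10, 12, 14, 18] 8 :=
  ⟨[0, 5, 5, 1, 4, 5, 1, 0, 1, 2, 5, 0, 3], 1, 2, [[0, 0, 1, 0, 0, 0, 0]],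
    [[1, -2, 0, 1, 0, 0, 0]], Fast.cert (by decide +kernel), by decide +kernel⟩

theorem hasF_E7_9 : HasF alE7 7 [2, 6, 8, 10, 12, 14, 18] 9 :=
  ⟨[0, 1, 2, 3, 4, 5, 6], 2, 1, [[0, 0, 0, 1, 1, 0, 0]],
    [[1, 1, -1, 0, 0, -1, 1]], Fast.cert (by decide +kernel), by decide +kernel⟩

theorem hasF_E7_10 : HasF alE7 7 [2, 6, 8, 10, 12, 14, 18] 10 :=
  ⟨[3, 2, 2, 1, 2, 2, 5, 4, 6, 2], 1, 5, [[0, -1, -1, 0, 0, 0, 1]],
    [[0, 0, 0, -1, 5, -2, 0]], Fast.cert (by decide +kernel), by decide +kernel⟩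

theorem hasF_E7_12 : HasF alE7 7 [2, 6, 8, 10, 12, 14, 18] 12 :=
  ⟨[3, 2, 5, 0, 1, 4], 1, 1, [[0, 0, 0, 1, 0, 0, 0]],
    [[1, 1, 0, 0, -1, 0, 0]], Fast.cert (by decide +kernel), by decide +kernel⟩

theorem hasF_E7_14 : HasF alE7 7 [2, 6, 8, 10, 12, 14, 18] 14 :=
  ⟨[6, 4, 6, 3, 2, 6, 0, 3, 1, 3, 5, 5, 5], 1, 1, [[0, 0, 0, 1, 0, 0, 0]],
    [[0, -1, 0, 0, 1, -1, 0]], Fast.cert (by decide +kernel), by decide +kernel⟩

theorem hasF_E7_18 : HasF alE7 7 [2, 6, 8, 10, 12, 14, 18] 18 :=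
  ⟨[0, 1, 2, 3, 4, 5, 6], 1, 3, [[0, 1, 0, 0, 0, 1, 0]],
    [[-2, -1, -1, 2, 0, 1, 1]], Fast.cert (by decide +kernel), by decide +kernel⟩

theorem hasF_E7 : ∀ e ∈ [1, 2, 3, 4, 5, 6, 7, 8, 9, 10, 12, 14, 18], HasF alE7 7 [2, 6, 8, 10, 12, 14, 18] e := by
  intro e he
  simp only [List.mem_cons, List.not_mem_nil, or_false] at he
  rcases he with rfl | rfl | rfl | rfl | rfl | rfl | rfl | rfl | rfl | rfl | rfl | rfl | rfl
  · exact hasF_E7_1
  · exact hasF_E7_2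
  · exact hasF_E7_3
  · exact hasF_E7_4
  · exact hasF_E7_5
  · exact hasF_E7_6
  · exact hasF_E7_7
  · exact hasF_E7_8
  · exact hasF_E7_9
  · exact hasF_E7_10
  · exact hasF_E7_12
  · exact hasF_E7_14
  · exact hasF_E7_18

theorem hasF_E8_1 : HasF alE8 8 [2, 8, 12, 14, 18, 20, 24, 30] 1 :=
  ⟨[], 1, 1, [[1, 0, 0, 1, 1, 0, 1, 0], [1, 0, 0, 0, 0, 0, 1, 0], [0, 1, 0, 0, 0, 1, 1, 0], [0, 1, 0, 0, 0, 0, 0, 0], [1, 0, 1, 0, 0, 0, 0, 0], [0, 0, 0, 1, 0, 0, 0, 0], [0, 0, 1, 1, 0, 0, 0, 0], [0, 0, 0, 0, 1, 0, 0, 1]],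
    [[0, 0, 0, 0, 1, 0, 0, -1], [0, 0, 0, 0, -1, -1, 1, 1], [0, 0, 0, 0, 0, 1, 0, 0], [0, 1, 0, 0, 0, -1, 0, 0], [1, 0, 0, 0, 0, 1, -1, 0], [1, 0, -1, 1, -1, 1, -1, 1], [-1, 0, 1, 0, 0, -1, 1, 0], [0, 0, 0, 0, 0, 0, 0, 1]], Fast.cert (by decide +kernel), by decide +kernel⟩

theorem hasF_E8_2 : HasF alE8 8 [2, 8, 12, 14, 18, 20, 24, 30] 2 :=
  ⟨[0, 1, 2, 3, 4, 5, 6, 7], 15, 1, [[0, 0, 0, 0, 0, 0, 0, 1], [1, 0, 0, 0, 0, 0, 0, 0], [0, 0, 0, 1, 0, 0, 1, 0], [0, 0, 0, 1, 1, 0, 1, 1], [0, 0, 1, 0, 0, 0, 0, 0], [0, 0, 1, 0, 0, 1, 0, 0], [0, 1, 0, 0, 1, 0, 0, 0], [0, 0, 1, 1, 1, 0, 0, 0]],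
    [[0, 1, 0, 1, -1, 0, -1, 1], [1, 0, 0, 0, 0, 0, 0, 0], [0, 1, 0, 1, -1, 0, 0, 0], [0, -1, 0, -1, 1, 0, 1, 0], [0, 0, 1, -1, 0, -1, 1, 0], [0, 0, 0, 0, 0, 1, 0, 0], [0, 1, 0, 0, 0, 0, 0, 0], [0, 0, 0, 1, 0, 0, -1, 0]], Fast.cert (by decide +kernel), by decide +kernel⟩

theorem hasF_E8_3 : HasF alE8 8 [2, 8, 12, 14, 18, 20, 24, 30] 3 :=
  ⟨[0, 1, 2, 3, 4, 5, 6, 7], 10, 3, [[1, 0, 0, 0, 0, 0, 1, 0], [0, 0, 0, 0, 0, 1, 0, 1], [0, 0, 0, 0, 1, 0, 1, 0], [0, 0, 1, 0, 1, 1, 1, 0]],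
    [[-2, -1, 0, 2, -2, 0, 2, 0], [-1, -2, 0, 1, -1, 0, 1, 0], [0, 1, -1, -1, 0, 1, 0, -1], [0, 1, 2, -1, 0, -2, 0, 2]], Fast.cert (by decide +kernel), by decide +kernel⟩

theorem hasF_E8_4 : HasF alE8 8 [2, 8, 12, 14, 18, 20, 24, 30] 4 :=
  ⟨[4, 3, 2, 1, 5, 0, 6, 3, 1, 7, 5, 6], 6, 2, [[1, 0, 1, 0, 0, 0, 0, 1], [1, 1, 1, 0, 0, 0, 0, 0], [1, 0, 1, 0, 0, 0, 1, 1], [1, 0, 0, 0, 0, 0, 0, 0]],
    [[0, -1, 1, 0, -1, 1, 0, -1], [0, 1, -1, 0, -1, 1, 0, 1], [0, 0, 0, -2, 4, -2, 0, 0], [0, 1, -1, 2, -2, -1, 0, 1]], Fast.cert (by decide +kernel), by decide +kernel⟩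

theorem hasF_E8_5 : HasF alE8 8 [2, 8, 12, 14, 18, 20, 24, 30] 5 :=
  ⟨[0, 1, 2, 3, 4, 5, 6, 7], 6, 1, [[0, 1, 0, 0, 1, 0, 0, 0], [0, 0, 0, 0, 1, 0, 0, 0]],
    [[-1, 0, 0, 0, 0, 0, 1, 0], [0, 0, 0, 0, 0, 1, -1, -1]], Fast.cert (by decide +kernel), by decide +kernel⟩

theorem hasF_E8_6 : HasF alE8 8 [2, 8, 12, 14, 18, 20, 24, 30] 6 :=
  ⟨[0, 1, 2, 3, 4, 5, 6, 7], 5, 1, [[0, 1, 0, 0, 0, 0, 1, 0], [0, 0, 0, 0, 0, 0, 1, 0], [0, 0, 0, 0, 0, 0, 0, 1], [0, 0, 0, 1, 1, 0, 0, 0]],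
    [[0, 0, -1, 1, -1, 1, 0, 0], [-1, 0, 1, 0, 0, -1, 0, 0], [1, 0, -1, 1, -1, 0, 0, 0], [0, 0, -1, 0, 0, 1, 0, 0]], Fast.cert (by decide +kernel), by decide +kernel⟩

theorem hasF_E8_7 : HasF alE8 8 [2, 8, 12, 14, 18, 20, 24, 30] 7 :=
  ⟨[6, 5, 0, 0, 0, 1, 0, 3, 2, 4, 0, 3], 1, 1, [[1, 0, 0, 0, 0, 0, 0, 0]],
    [[0, 1, -1, 0, 0, 0, 0, 0]], Fast.cert (by decide +kernel), by decide +kernel⟩

theorem hasF_E8_8 : HasF alE8 8 [2, 8, 12, 14, 18, 20, 24, 30] 8 :=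
  ⟨[5, 0, 1, 6, 2, 4, 7, 3, 2, 0, 1, 2, 3, 1], 3, 2, [[1, 0, 1, 1, 0, 0, 0, 0], [1, 1, 0, 0, 0, 0, 1, 0]],
    [[1, 1, -1, 0, 0, 0, -2, 3], [0, 0, 1, -1, -1, 2, 0, -1]], Fast.cert (by decide +kernel), by decide +kernel⟩

theorem hasF_E8_9 : HasF alE8 8 [2, 8, 12, 14, 18, 20, 24, 30] 9 :=
  ⟨[3, 3, 3, 2, 1, 0, 5, 1, 6, 3, 4, 2, 1], 2, 3, [[0, 0, 0, 1, 1, 0, 1, 0]],
    [[-2, 0, 0, 1, -2, 1, 1, 0]], Fast.cert (by decide +kernel), by decide +kernel⟩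

theorem hasF_E8_10 : HasF alE8 8 [2, 8, 12, 14, 18, 20, 24, 30] 10 :=
  ⟨[0, 1, 2, 3, 4, 5, 6, 7], 3, 1, [[0, 0, 0, 0, 0, 1, 0, 0], [0, 0, 0, 1, 1, 1, 0, 0]],
    [[1, 0, -1, 1, -1, 0, 1, -1], [0, 0, 0, 0, 0, 0, -1, 1]], Fast.cert (by decide +kernel), by decide +kernel⟩

theorem hasF_E8_12 : HasF alE8 8 [2, 8, 12, 14, 18, 20, 24, 30] 12 :=
  ⟨[5, 7, 4, 0, 2, 3, 6, 1, 2, 7, 4, 2, 6, 3], 2, 1, [[0, 0, 1, 1, 0, 0, 0, 0], [0, 0, 1, 0, 0, 0, 0, 1]],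
    [[-1, 0, -1, 1, 1, -1, 0, 1], [0, 0, 0, 0, 0, -1, 1, 0]], Fast.cert (by decide +kernel), by decide +kernel⟩

theorem hasF_E8_14 : HasF alE8 8 [2, 8, 12, 14, 18, 20, 24, 30] 14 :=
  ⟨[2, 0, 2, 7, 3, 4, 1, 3, 5, 4, 6, 2, 7], 1, 1, [[1, 0, 0, 0, 0, 0, 0, 0]],
    [[0, 0, -1, 0, 1, 0, 0, 0]], Fast.cert (by decide +kernel), by decide +kernel⟩

theorem hasF_E8_15 : HasF alE8 8 [2, 8, 12, 14, 18, 20, 24, 30] 15 :=
  ⟨[0, 1, 2, 3, 4, 5, 6, 7], 2, 1, [[0, 1, 0, 0, 1, 1, 1, 1]],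
    [[1, 1, 1, -1, 0, -1, 0, 0]], Fast.cert (by decide +kernel), by decide +kernel⟩

theorem hasF_E8_18 : HasF alE8 8 [2, 8, 12, 14, 18, 20, 24, 30] 18 :=
  ⟨[4, 3, 1, 3, 1, 6, 7, 5, 7, 2, 0], 1, 1, [[1, 0, 0, 0, 0, 0, 0, 0]],
    [[0, 1, -1, 0, 0, 0, 0, 0]], Fast.cert (by decide +kernel), by decide +kernel⟩

theorem hasF_E8_20 : HasF alE8 8 [2, 8, 12, 14, 18, 20, 24, 30] 20 :=
  ⟨[3, 6, 5, 0, 7, 1, 2, 4, 0, 3, 4, 2, 5, 4], 1, 1, [[0, 1, 0, 0, 0, 0, 0, 0]],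
    [[-1, 0, 1, -1, 0, 1, 0, 0]], Fast.cert (by decide +kernel), by decide +kernel⟩

theorem hasF_E8_24 : HasF alE8 8 [2, 8, 12, 14, 18, 20, 24, 30] 24 :=
  ⟨[4, 0, 7, 5, 2, 6, 1, 3, 1, 0, 2, 3, 5, 5], 1, 3, [[0, 0, 0, 1, 0, 0, 0, 0]],
    [[-1, 0, -1, 0, 1, 1, -2, 1]], Fast.cert (by decide +kernel), by decide +kernel⟩

theorem hasF_E8_30 : HasF alE8 8 [2, 8, 12, 14, 18, 20, 24, 30] 30 :=
  ⟨[0, 1, 2, 3, 4, 5, 6, 7], 1, 1, [[0, 0, 1, 0, 1, 0, 1, 0]],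
    [[-1, 0, 0, 0, 0, 0, 0, 0]], Fast.cert (by decide +kernel), by decide +kernel⟩

theorem hasF_E8 : ∀ e ∈ [1, 2, 3, 4, 5, 6, 7, 8, 9, 10, 12, 14, 15, 18, 20, 24, 30], HasF alE8 8 [2, 8, 12, 14, 18, 20, 24, 30] e := by
  intro e he
  simp only [List.mem_cons, List.not_mem_nil, or_false] at he
  rcases he with rfl | rfl | rfl | rfl | rfl | rfl | rfl | rfl | rfl | rfl | rfl | rfl | rfl | rfl | rfl | rfl | rfl
  · exact hasF_E8_1
  · exact hasF_E8_2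
  · exact hasF_E8_3
  · exact hasF_E8_4
  · exact hasF_E8_5
  · exact hasF_E8_6
  · exact hasF_E8_7
  · exact hasF_E8_8
  · exact hasF_E8_9
  · exact hasF_E8_10
  · exact hasF_E8_12
  · exact hasF_E8_14
  · exact hasF_E8_15
  · exact hasF_E8_18
  · exact hasF_E8_20
  · exact hasF_E8_24
  · exact hasF_E8_30

/-- the symmetric form of type E8 -/
def blE8 : List (List ℤ) := [[2, 0, -1, 0, 0, 0, 0, 0], [0, 2, 0, -1, 0, 0, 0, 0], [-1, 0, 2, -1, 0, 0, 0, 0], [0, -1, -1, 2, -1, 0, 0, 0], [0, 0, 0, -1, 2, -1, 0, 0], [0, 0, 0, 0, -1, 2, -1, 0], [0, 0, 0, 0, 0, -1, 2, -1], [0, 0, 0, 0, 0, 0, -1, 2]]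

private noncomputable def _root_.Cfsg.Agent.LsF.f1c9bd9_0 : {f // @Cfsg.Agent.H630.Exc.Fast.rws = f} := ⟨_, by first | (delta Cfsg.Agent.H630.Exc.Fast.rws; rewrite [Cfsg.Agent.LsF.map_eq, Cfsg.Agent.LsF.getD_eq, Cfsg.Agent.LsF.ineg_eq]; exact rfl) | exact rfl⟩
private noncomputable def _root_.Cfsg.Agent.LsF.f1c9bd9_1 : {f // @Cfsg.Agent.H130.WeylCk.bas = f} := ⟨_, by first | (delta Cfsg.Agent.H130.WeylCk.bas; rewrite [Cfsg.Agent.LsF.replicate_eq, Cfsg.Agent.LsF.set_eq]; exact rfl) | exact rfl⟩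
private noncomputable def _root_.Cfsg.Agent.LsF.f1c9bd9_2 : {f // @Cfsg.Agent.H630.Exc.Fast.pwF = f} := ⟨_, by first | (delta Cfsg.Agent.H630.Exc.Fast.pwF; rewrite [Cfsg.Agent.LsF.f1c9bd9_1.2, Cfsg.Agent.LsF.all_eq, Cfsg.Agent.LsF.range_eq, Cfsg.Agent.LsF.instIDecEq_eq, Cfsg.Agent.LsF.dListEq_eq, Cfsg.Agent.LsF.decide_eq]; exact rfl) | exact rfl⟩
private noncomputable def _root_.Cfsg.Agent.LsF.f1c9bd9_8 : {f // @Cfsg.Agent.H630.Exc.Fast.tr = f} := ⟨_, by first | (delta Cfsg.Agent.H630.Exc.Fast.tr; rewrite [Cfsg.Agent.LsF.map_eq, Cfsg.Agent.LsF.range_eq, Cfsg.Agent.LsF.getD_eq]; exact rfl) | exact rfl⟩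
private noncomputable def _root_.Cfsg.Agent.LsF.f1c9bd9_9 : {f // @Cfsg.Agent.ChevalleyStructure.RootVecTab.dig = f} := ⟨_, by first | (delta Cfsg.Agent.ChevalleyStructure.RootVecTab.dig; rewrite [Cfsg.Agent.LsF.nmul_pat]; exact rfl) | exact rfl⟩
private noncomputable def _root_.Cfsg.Agent.LsF.f1c9bd9_10 : {f // @Cfsg.Agent.ChevalleyStructure.RootVecTab.packTab = f} := ⟨_, by first | (delta Cfsg.Agent.ChevalleyStructure.RootVecTab.packTab; rewrite [Cfsg.Agent.LsF.instDecEq_eq, Cfsg.Agent.LsF.ite_eq]; exact rfl) | exact rfl⟩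
private noncomputable def _root_.Cfsg.Agent.LsF.f1c9bd9_11 : {f // @Cfsg.Agent.ChevalleyStructure.RootVecTab.code = f} := ⟨_, by first | (delta Cfsg.Agent.ChevalleyStructure.RootVecTab.code; rewrite [Cfsg.Agent.LsF.f1c9bd9_10.2, Cfsg.Agent.LsF.nmul_pat, Cfsg.Agent.LsF.npow_pat]; exact rfl) | exact rfl⟩
private noncomputable def _root_.Cfsg.Agent.LsF.f1c9bd9_12 : {f // @Cfsg.Agent.ChevalleyStructure.RootVec.rt = f} := ⟨_, by first | (delta Cfsg.Agent.ChevalleyStructure.RootVec.rt; rewrite [Cfsg.Agent.LsF.f1c9bd9_9.2, Cfsg.Agent.LsF.f1c9bd9_11.2, Cfsg.Agent.LsF.nsub_pat, Cfsg.Agent.LsF.isub_pat, Cfsg.Agent.LsF.icast_pat, Cfsg.Agent.LsF.decLt_eq, Cfsg.Agent.LsF.dAnd_eq, Cfsg.Agent.LsF.ite_eq]; exact rfl) | exact rfl⟩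
private noncomputable def _root_.Cfsg.Agent.LsF.f1c9bd9_13 : {f // @Cfsg.Agent.Nodes.RGDChev.vec = f} := ⟨_, by first | (delta Cfsg.Agent.Nodes.RGDChev.vec; rewrite [Cfsg.Agent.LsF.f1c9bd9_12.2]; exact rfl) | exact rfl⟩
private noncomputable def _root_.Cfsg.Agent.LsF.f1c9bd9_14 : {f // @Cfsg.Agent.H630.Exc.rootL = f} := ⟨_, by first | (delta Cfsg.Agent.H630.Exc.rootL; rewrite [Cfsg.Agent.LsF.f1c9bd9_13.2, Cfsg.Agent.LsF.map_eq, Cfsg.Agent.LsF.range_eq, Cfsg.Agent.LsF.finRange_eq]; exact rfl) | exact rfl⟩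
private noncomputable def _root_.Cfsg.Agent.LsF.f1c9bd9_15 : {f // @Cfsg.Agent.H130.PolyL.isZ = f} := ⟨_, by first | (delta Cfsg.Agent.H130.PolyL.isZ List.brecOn List.brecOn.go Cfsg.Agent.H130.PolyL.isZ._f; rewrite [Cfsg.Agent.LsF.ibeq_pat, Cfsg.Agent.LsF.and_eq]; (try delta Cfsg.Agent.H130.PolyL.ofL.match_1); (try delta List.casesOn); first | dsimp -zeta only | exact rfl) | exact rfl⟩
private noncomputable def _root_.Cfsg.Agent.LsF.f1c9bd9_16 : {f // @Cfsg.Agent.H130.PolyL.eqL = f} := ⟨_, by first | (delta Cfsg.Agent.H130.PolyL.eqL List.brecOn Cfsg.Agent.H130.PolyL.eqL._f List.brecOn.go; rewrite [Cfsg.Agent.LsF.f1c9bd9_15.2, Cfsg.Agent.LsF.ibeq_pat, Cfsg.Agent.LsF.and_eq]; (try delta Cfsg.Agent.H130.PolyL.mulL.match_1); (try delta Cfsg.Agent.H130.PolyL.ofL.match_1); (try delta List.casesOn); first | dsimp -zeta only | exact rfl) | exact rfl⟩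
private noncomputable def _root_.Cfsg.Agent.LsF.f1c9bd9_17 : {f // @Cfsg.Agent.H130.PolyL.addL = f} := ⟨_, by first | (delta Cfsg.Agent.H130.PolyL.addL List.brecOn List.brecOn.go Cfsg.Agent.H130.PolyL.addL._f; rewrite [Cfsg.Agent.LsF.iadd_pat]; (try delta Cfsg.Agent.H130.PolyL.addL.match_1); (try delta List.casesOn); first | dsimp -zeta only | exact rfl) | exact rfl⟩
private noncomputable def _root_.Cfsg.Agent.LsF.f1c9bd9_18 : {f // @Cfsg.Agent.H130.PolyL.smulL = f} := ⟨_, by first | (delta Cfsg.Agent.H130.PolyL.smulL; rewrite [Cfsg.Agent.LsF.imul_pat, Cfsg.Agent.LsF.map_eq]; exact rfl) | exact rfl⟩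
private noncomputable def _root_.Cfsg.Agent.LsF.f1c9bd9_19 : {f // @Cfsg.Agent.H130.PolyL.mulL = f} := ⟨_, by first | (delta Cfsg.Agent.H130.PolyL.mulL List.brecOn List.brecOn.go Cfsg.Agent.H130.PolyL.mulL._f; rewrite [Cfsg.Agent.LsF.f1c9bd9_17.2, Cfsg.Agent.LsF.f1c9bd9_18.2]; (try delta Cfsg.Agent.H130.PolyL.mulL.match_1); (try delta List.casesOn); first | dsimp -zeta only | exact rfl) | exact rfl⟩
private noncomputable def _root_.Cfsg.Agent.LsF.f1c9bd9_5 : {f // @Cfsg.Agent.H130.PolyL.cycL = f} := ⟨_, by first | (delta Cfsg.Agent.H130.PolyL.cycL; rewrite [Cfsg.Agent.LsF.ineg_pat]; (try delta Cfsg.Agent.H130.PolyL.cycL.match_1); (try rewrite [Cfsg.Agent.LsF.instDecEq_eq, Cfsg.Agent.LsF.dite_eq]); exact rfl) | exact rfl⟩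
private noncomputable def _root_.Cfsg.Agent.LsF.f1c9bd9_20 : {f // @Cfsg.Agent.H630.Exc.Fast.regF = f} := ⟨_, by first | (delta Cfsg.Agent.H630.Exc.Fast.regF; rewrite [Cfsg.Agent.LsF.dMemL_pat, Cfsg.Agent.LsF.f1c9bd9_0.2, Cfsg.Agent.LsF.f1c9bd9_2.2, Cfsg.Agent.LsF.f1c9bd9_1.2, Cfsg.Agent.LsF.f1c9bd9_8.2, Cfsg.Agent.LsF.f1c9bd9_14.2, Cfsg.Agent.LsF.f1c9bd9_16.2, Cfsg.Agent.LsF.f1c9bd9_17.2, Cfsg.Agent.LsF.f1c9bd9_19.2, Cfsg.Agent.LsF.f1c9bd9_5.2, Cfsg.Agent.LsF.nmul_pat, Cfsg.Agent.LsF.and_eq, Cfsg.Agent.LsF.instDecEq_eq, Cfsg.Agent.LsF.all_eq, Cfsg.Agent.LsF.map_eq, Cfsg.Agent.LsF.getD_eq, Cfsg.Agent.LsF.instIDecEq_eq, Cfsg.Agent.LsF.dAnd_eq, Cfsg.Agent.LsF.dBoolEq_eq, Cfsg.Agent.LsF.dBAll_eq, Cfsg.Agent.LsF.idDvd_eq, Cfsg.Agent.LsF.length_eq, Cfsg.Agent.LsF.decide_eq]; exact rfl) | exact rfl⟩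
theorem reg_E8_3 : RegCk Cfsg.Lie.chevE8 8 alE8 blE8 [0, 1, 2, 3, 4, 5, 6, 7] 10 3
  [[0, 1, 1, 2, 1, 1, 1, 0], [1, 1, 2, 3, 2, 2, 1, 1], [1, 1, 1, 2, 2, 1, 1, 1], [-1, -1, -1, -2, -1, -1, -1, -1], [0, 0, -1, -1, -1, 0, 0, 0], [0, -1, 0, -1, -1, -1, 0, 0], [-1, 0, -1, -1, -1, -1, -1, 0], [0, -1, -1, -1, -1, -1, -1, -1]]
  [([-1, -1, 2], [0, 1], [3, -2], 3)]
  3 :=
  Fast.reg (by ((try (rewrite [Cfsg.Agent.LsF.f1c9bd9_20.2, Cfsg.Agent.LsF.ineg_pat])); decide +kernel))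

theorem reg_E8_4 : RegCk Cfsg.Lie.chevE8 8 alE8 blE8 [3, 6, 5, 0, 7, 1, 2, 4, 0, 3, 4, 2, 5, 4] 5 4
  [[1, 1, 2, 2, 2, 1, 1, 1], [1, 1, 2, 2, 1, 1, 0, 0], [-1, -1, -1, -1, -1, -1, -1, -1], [1, 1, 1, 2, 2, 2, 2, 1], [-1, 0, -1, -1, -1, -1, -1, 0], [-1, -3, -3, -5, -4, -3, -2, -1], [1, 2, 2, 3, 3, 2, 1, 0], [-1, -1, -1, -2, -2, -1, 0, 0]]
  [([0, -2, 0, 2], [0, 1], [4, 0, -2], 4)]
  4 :=
  Fast.reg (by ((try (rewrite [Cfsg.Agent.LsF.f1c9bd9_20.2, Cfsg.Agent.LsF.ineg_pat])); decide +kernel))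

theorem reg_E8_5 : RegCk Cfsg.Lie.chevE8 8 alE8 blE8 [0, 1, 2, 3, 4, 5, 6, 7] 6 5
  [[1, 1, 2, 2, 2, 1, 1, 1], [1, 1, 2, 3, 2, 1, 1, 0], [0, 1, 1, 2, 1, 1, 0, 0], [0, 0, -1, -1, 0, 0, 0, 0], [0, -1, 0, -1, -1, 0, 0, 0], [-1, 0, -1, -1, -1, -1, 0, 0], [0, -1, -1, -1, -1, -1, -1, 0], [-1, -1, -1, -2, -1, -1, -1, -1]]
  [([-1, 0, 0, -1, 2], [1, 3, 1, 0], [6, -3, -2, 0], 5), ([0, -1, -1, 0, 2], [-1, 2, -1, 0], [5, -6, 2, 0], 5)]
  5 :=
  Fast.reg (by ((try (rewrite [Cfsg.Agent.LsF.f1c9bd9_20.2, Cfsg.Agent.LsF.ineg_pat])); decide +kernel))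

theorem reg_E8_8 : RegCk Cfsg.Lie.chevE8 8 alE8 blE8 [5, 0, 1, 6, 2, 4, 7, 3, 2, 0, 1, 2, 3, 1] 3 8
  [[-1, 0, -1, -1, -1, -1, -1, -1], [-1, -1, -1, -1, -1, -1, -1, 0], [1, 1, 1, 2, 2, 2, 1, 1], [0, -1, -1, -2, -2, -2, -1, -1], [0, 1, 1, 1, 1, 1, 1, 1], [1, 1, 2, 3, 3, 2, 1, 0], [0, 0, 0, 0, -1, 0, 0, 0], [-1, -1, -2, -2, -1, -1, 0, 0]]
  [([-1, 0, 1, -2, 1, 0, -1, 2], [1, 2, 1, 0], [5, 2, 0, 0, -3, -2, 0], 4), ([0, 0, 0, -2, 0, 0, 0, 2], [0, 1, 0, 0], [4, 0, 0, 0, -2, 0, 0], 4), ([1, 0, -1, -2, -1, 0, 1, 2], [-1, 2, -1, 0], [5, -2, 0, 0, -3, 2, 0], 4)]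
  4 :=
  Fast.reg (by ((try (rewrite [Cfsg.Agent.LsF.f1c9bd9_20.2, Cfsg.Agent.LsF.ineg_pat])); decide +kernel))

/-- the symmetric form of type E7 -/
def blE7 : List (List ℤ) := [[2, 0, -1, 0, 0, 0, 0], [0, 2, 0, -1, 0, 0, 0], [-1, 0, 2, -1, 0, 0, 0], [0, -1, -1, 2, -1, 0, 0], [0, 0, 0, -1, 2, -1, 0], [0, 0, 0, 0, -1, 2, -1], [0, 0, 0, 0, 0, -1, 2]]

theorem reg_E7_3 : RegCk Cfsg.Lie.chevE7 7 alE7 blE7 [0, 1, 2, 3, 4, 5, 6] 6 3
  [[0, 0, 1, 1, 1, 0, 0], [1, 1, 1, 2, 2, 1, 1], [0, 1, 0, 1, 1, 1, 0], [0, -1, 0, -1, -1, 0, 0], [-1, 0, -1, -1, -1, -1, 0], [0, -1, -1, -1, -1, -1, -1], [0, 0, 0, -1, 0, 0, 0]]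
  [([-1, -1, 2], [0, 1], [3, -2], 3), ([0, 0, 2], [0, 1], [2, -2], 2)]
  6 :=
  Fast.reg (by ((try (rewrite [Cfsg.Agent.LsF.f1c9bd9_20.2, Cfsg.Agent.LsF.ineg_pat])); decide +kernel))

/-- the symmetric form of type E6 -/
def blE6 : List (List ℤ) := [[2, 0, -1, 0, 0, 0], [0, 2, 0, -1, 0, 0], [-1, 0, 2, -1, 0, 0], [0, -1, -1, 2, -1, 0], [0, 0, 0, -1, 2, -1], [0, 0, 0, 0, -1, 2]]

theorem reg_E6_2 : RegCk Cfsg.Lie.chevE6 6 alE6 blE6 [0, 1, 2, 3, 4, 5] 6 2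
  [[0, 0, 0, 0, 1, 0], [0, -1, 0, 0, 0, 0], [0, 0, 0, 0, 0, 1], [-1, 0, -1, -1, -1, -1], [1, 0, 0, 0, 0, 0], [0, 0, 1, 0, 0, 0]]
  [([-2, 2], [-1], [2], 4), ([0, 2], [-1], [2], 2)]
  4 :=
  Fast.reg (by ((try (rewrite [Cfsg.Agent.LsF.f1c9bd9_20.2, Cfsg.Agent.LsF.ineg_pat])); decide +kernel))

theorem reg_E6_3 : RegCk Cfsg.Lie.chevE6 6 alE6 blE6 [0, 1, 2, 3, 4, 5] 4 3
  [[0, 1, 1, 1, 1, 1], [0, 0, 1, 1, 1, 0], [0, 0, 0, 1, 0, 0], [0, 0, -1, -1, 0, 0], [0, -1, 0, -1, -1, 0], [-1, 0, -1, -1, -1, -1]]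
  [([-1, -1, 2], [0, 1], [3, -2], 3)]
  3 :=
  Fast.reg (by ((try (rewrite [Cfsg.Agent.LsF.f1c9bd9_20.2, Cfsg.Agent.LsF.ineg_pat])); decide +kernel))

theorem reg_E6_4 : RegCk Cfsg.Lie.chevE6 6 alE6 blE6 [0, 1, 2, 3, 4, 5] 3 4
  [[1, 0, 1, 1, 1, 0], [1, 1, 1, 2, 1, 1], [0, 1, 1, 1, 1, 1], [-1, -1, -1, -1, -1, -1], [0, 0, -1, -1, 0, 0], [0, -1, 0, -1, -1, 0]]
  [([0, -2, 0, 2], [0, 1], [4, 0, -2], 4), ([1, 0, 1, 2], [0, 1], [2, -1, -2], 2)]
  4 :=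
  Fast.reg (by decide +kernel)

theorem reg_E6_6 : RegCk Cfsg.Lie.chevE6 6 alE6 blE6 [0, 1, 2, 3, 4, 5] 2 6
  [[0, 1, 0, 1, 0, 0], [0, 1, 1, 1, 1, 0], [1, 0, 1, 1, 1, 0], [0, 0, 0, 0, 0, 1], [-1, -1, -1, -1, -1, -1], [0, 0, -1, -1, 0, 0]]
  [([0, -1, 0, -1, 0, 2], [0, 1], [3, 3, 1, -2, -2], 3), ([1, -1, -2, -1, 1, 2], [0, 1], [6, 5, 0, -3, -2], 6)]
  6 :=
  Fast.reg (by ((try (rewrite [Cfsg.Agent.LsF.f1c9bd9_20.2, Cfsg.Agent.LsF.ineg_pat])); decide +kernel))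

/-- the symmetric form of type F4 -/
def blF4 : List (List ℤ) := [[2, -1, 0, 0], [-1, 2, -2, 0], [0, -2, 4, -2], [0, 0, -2, 4]]

theorem reg_F4_3 : RegCk Cfsg.Lie.chevF4 4 alF4 blF4 [0, 1, 2, 3] 4 3
  [[0, 1, 1, 0], [1, 1, 1, 1], [-2, -2, -2, -1], [0, -2, -1, -1]]
  [([-2, -2, 4], [0, 1], [6, -4], 6), ([-1, -1, 2], [0, 1], [3, -2], 3)]
  6 :=
  Fast.reg (by ((try (rewrite [Cfsg.Agent.LsF.f1c9bd9_20.2, Cfsg.Agent.LsF.ineg_pat])); decide +kernel))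

theorem reg_F4_4 : RegCk Cfsg.Lie.chevF4 4 alF4 blF4 [0, 1, 2, 3] 3 4
  [[1, 2, 1, 1], [0, 1, 1, 0], [0, -2, -1, 0], [-2, -2, -2, -1]]
  [([0, -4, 0, 4], [0, 1], [8, 0, -4], 8), ([0, -2, 0, 2], [0, 1], [4, 0, -2], 4)]
  8 :=
  Fast.reg (by ((try (rewrite [Cfsg.Agent.LsF.f1c9bd9_20.2, Cfsg.Agent.LsF.ineg_pat])); decide +kernel))

end Cfsg.Agent.H630.Exc
end

-- part: H630/ExcF
section
set_option linter.all false
open scoped Cfsg.Agent.FastGrp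

/-!
# The row in cross characteristic from the tables (helper630)

* `RegE` : the exclusion of the pairs with `e` the order of `Q` modulo `r` and `s ∤ Q^e - 1`;
* `crossRow_of` : the row of a group with a `Setup` from the regular numbers, the degree bound, the bad primes and the
  abelian subgroups.
-/

set_option autoImplicit false
set_option linter.unusedSectionVars false

namespace Cfsg.Agent.H630.Exc

open CoxeterSystem Cfsg Cfsg.Lie Cfsg.Lie.ChevalleyDatum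
open Cfsg.Agent.ChevalleyStructure Cfsg.Agent.ChevalleyStructure.Elts Cfsg.Agent.ChevalleyStructure.CoxeterGeom
  Cfsg.Agent.ChevalleyStructure.CoxeterGeomTypes Cfsg.Agent.ChevalleyStructure.NPerm
open Cfsg.Agent.Tits.Roots Cfsg.Agent.Tits.Core Cfsg.Agent.Nodes Cfsg.Agent.Nodes.Reps Cfsg.Agent.Nodes.BNOf
  Cfsg.Agent.Nodes.RGDChev Cfsg.Agent.Nodes.Bruhat Cfsg.Agent.Nodes.SubComb Cfsg.Agent.Nodes.Coroot
open Cfsg.Agent.KFacts.RgdField Cfsg.Agent.KFacts.RgdChevCoord Cfsg.Agent.BpExc.TorCent Cfsg.Agent.BpExc.TorChev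
open Cfsg.Agent.GpExc.Field Cfsg.Agent.BpExc.Tow Cfsg.Agent.BpExc.TowChev Cfsg.Agent.BpExc.Fr
  Cfsg.Agent.BpExc.LangFr Cfsg.Agent.LangThm Cfsg.Agent.BpExc Cfsg.Agent.H129.TorusChar Cfsg.Agent.H129.TorusMain
open Cfsg.Agent.H630.NH Cfsg.Agent.H130.WeylCk Cfsg.Agent.H130.PolyL

universe u v

/-! ### arithmetic -/

theorem not_dvd_Q {p e r : ℕ} (hp : p.Prime) (hr : r.Prime) (hrp : r ≠ p) {ε Q : ℤ} (hε : ε = 1 ∨ ε = -1)
    (hQ : Q = ε * (p ^ e : ℕ)) : ¬ (r : ℤ) ∣ Q := by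
  intro h2
  have h3 : r ∣ Q.natAbs := Int.natCast_dvd.1 h2
  have h4 : Q.natAbs = p ^ e := by
    rw [hQ, Int.natAbs_mul]
    rcases hε with rfl | rfl <;> simp
  rw [h4] at h3
  exact hrp ((Nat.prime_dvd_prime_iff_eq hr hp).1 (hr.dvd_of_dvd_pow h3))

/-- the order of `-Q` -/
theorem order_neg {r n : ℕ} (hr : r.Prime) {Q : ℤ} (hn : orderOf (Q : ZMod r) = 2 * n) (hodd : ¬ 2 ∣ n) (hn0 : 0 < n) :
    orderOf ((-Q : ℤ) : ZMod r) = n := by
  have : Fact r.Prime := ⟨hr⟩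
  obtain ⟨x, hx⟩ : ∃ x : ZMod r, x = (Q : ZMod r) := ⟨_, rfl⟩
  rw [Int.cast_neg, ← hx]
  rw [← hx] at hn
  have h1 : x ^ n = -1 := by
    have h2 : (x ^ n) ^ 2 = 1 := by rw [← pow_mul, mul_comm, ← hn, pow_orderOf_eq_one]
    have h2' : (x ^ n - 1) * (x ^ n + 1) = 0 := by
      have e1 : (x ^ n - 1) * (x ^ n + 1) = (x ^ n) ^ 2 - 1 := by ring
      rw [e1, h2, sub_self]
    rcases mul_eq_zero.1 h2' with h3 | h3
    · exfalso
      rw [sub_eq_zero] at h3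
      have h4 := orderOf_dvd_of_pow_eq_one h3
      rw [hn] at h4
      have := Nat.le_of_dvd hn0 h4
      omega
    · exact eq_neg_of_add_eq_zero_left h3
  have hodd' : Odd n := Nat.not_even_iff_odd.1 fun h => hodd h.two_dvd
  refine Nat.dvd_antisymm ?_ ?_
  · apply orderOf_dvd_of_pow_eq_one
    rw [hodd'.neg_pow, h1, neg_neg]
  · have h2 : x ^ (2 * orderOf (-x)) = 1 := by
      have h3 := pow_orderOf_eq_one (-x)
      have h4 : (-x) ^ (2 * orderOf (-x)) = 1 := by rw [mul_comm, pow_mul, h3, one_pow]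
      rwa [(even_two_mul _).neg_pow] at h4
    have h3 := orderOf_dvd_of_pow_eq_one h2
    rw [hn] at h3
    exact Nat.dvd_of_mul_dvd_mul_left two_pos h3

/-! ### the exclusion of pairs -/

section Reg

variable {D : ChevalleyDatum} {l : ℕ} {M : CoxeterMatrix (Fin l)} (hp : IsType D l M) {k' : Type u} [Field k']
  {W : Type*} [Group W] (cs : CoxeterSystem M W)
  {p e : ℕ} [Fact p.Prime] [CharP k' p] {σ : MulAut ↥(D.group k')}
  {g : (Fin l → ℤ) ≃+ (Fin l → ℤ)} {X : Type v} [Group X] {e0 : X →* ↥(D.group k')} {d : ℕ}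
  (S : Setup hp cs p e σ g e0 d)

/-- primes `r` with `Q` of order `n` modulo `r` exclude the primes `s` with `s ∤ Q^n - 1` -/
def RegE (X : Type v) [Group X] (p d : ℕ) (Q : ℤ) (n : ℕ) : Prop :=
  ∀ (π : Set ℕ) (r s : ℕ), r.Prime → s.Prime → r ∈ π → s ∈ π → r ≠ s → r ≠ 2 → r ≠ p → ¬ r ∣ d → s ∣ Nat.card X →
    orderOf (Q : ZMod r) = n → ¬ orderOf (Q : ZMod s) ∣ n → ¬ Cond π X

include S

theorem Setup.regE_same [IsAlgClosed k'] [Finite W] [Finite X] {ε Q : ℤ} (hε : ε = 1 ∨ ε = -1)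
    (hQ : Q = ε * (p ^ e : ℕ)) {w1 : W} (hT : HasTor hp cs g ε w1) {n : ℕ} (hw : rep cs hp.isCartan w1 ^ n = 1)
    (hreg : ∀ r : ℕ, r.Prime → r ≠ 2 → ¬ (r : ℤ) ∣ Q → orderOf (Q : ZMod r) = n → RegAt cs hp.isCartan w1 n r Q) :
    RegE X p d Q n := by
  intro π r s hrp hsp hr hs hrs hr2 hrc hrd hsX hrn hsn
  exact S.not_cond_reg hp cs hrp hsp hr hs hrs hrc hrd hr2 hsX hε hT hw hQ ((dvd_pow_sub_one_iff n).2 (by rw [hrn]))
    (hreg r hrp hr2 (not_dvd_Q Fact.out hrp hrc hε hQ) hrn) fun h => hsn ((dvd_pow_sub_one_iff n).1 h)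

theorem Setup.regE_neg [IsAlgClosed k'] [Finite W] [Finite X] {ε Q : ℤ} (hε : ε = 1 ∨ ε = -1)
    (hQ : Q = ε * (p ^ e : ℕ)) {w1 : W} (hT : HasTor hp cs g (-ε) w1) {n : ℕ} (hn0 : 0 < n) (hodd : ¬ 2 ∣ n)
    (hw : rep cs hp.isCartan w1 ^ n = 1)
    (hreg : ∀ r : ℕ, r.Prime → r ≠ 2 → ¬ (r : ℤ) ∣ -Q → orderOf ((-Q : ℤ) : ZMod r) = n →
      RegAt cs hp.isCartan w1 n r (-Q)) :
    RegE X p d Q (2 * n) := by
  intro π r s hrp hsp hr hs hrs hr2 hrc hrd hsX hrn hsn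
  have h1 := order_neg hrp hrn hodd hn0
  have hε' : -ε = 1 ∨ -ε = -1 := by rcases hε with rfl | rfl <;> simp
  have hQ' : -Q = -ε * (p ^ e : ℕ) := by rw [hQ]; ring
  refine S.not_cond_reg hp cs hrp hsp hr hs hrs hrc hrd hr2 hsX hε' hT hw hQ'
    ((dvd_pow_sub_one_iff n).2 (by rw [h1])) (hreg r hrp hr2 (not_dvd_Q Fact.out hrp hrc hε' hQ') h1) fun h => hsn ?_
  rw [← dvd_pow_sub_one_iff]
  have h2 : (-Q) ^ (2 * n) = Q ^ (2 * n) := (even_two_mul n).neg_pow Q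
  have h3 : (-Q) ^ n - 1 ∣ (-Q) ^ (2 * n) - 1 := ⟨(-Q) ^ n + 1, by ring⟩
  rw [h2] at h3
  exact h.trans h3

end Reg

/-- primes `r` with `e ∣ r - 1` are larger than `l + 1` -/
def Big (l e : ℕ) : Prop := ∀ r < l + 2, r.Prime → ¬ e ∣ r - 1

instance decBig (l e : ℕ) : Decidable (Big l e) := by unfold Big; infer_instance

section Main

variable {D : ChevalleyDatum} {l : ℕ} {M : CoxeterMatrix (Fin l)} (hp : IsType D l M) {k' : Type u} [Field k']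
  {W : Type*} [Group W] (cs : CoxeterSystem M W)
  {p e : ℕ} [hpF : Fact p.Prime] [CharP k' p] {σ : MulAut ↥(D.group k')}
  {g : (Fin l → ℤ) ≃+ (Fin l → ℤ)} {X : Type v} [Group X] {e0 : X →* ↥(D.group k')} {d : ℕ}
  (S : Setup hp cs p e σ g e0 d)

include S

/-- **The row in cross characteristic.** -/
theorem Setup.crossRow_of [IsAlgClosed k'] [Finite W] [Finite X] (hka : BpExc.TorAll.HAlg p k') {ε Q : ℤ}
    (hε : ε = 1 ∨ ε = -1) (hQ : Q = ε * (p ^ e : ℕ)) {degs es : List ℕ}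
    (hes : ∀ i ∈ degs, i ≠ 0 ∧ ∀ n < i + 1, n ∣ i → n ∈ es) {N g' : ℕ}
    (hcard : g' * Nat.card X = (p ^ e) ^ N * ((degs.map (fun i => Q ^ i - 1)).prod).natAbs)
    {H : List ℕ} (hReg : ∀ n ∈ H, RegE X p d Q n) {Sp : ℕ → ℕ → Prop}
    (hpair : ∀ n ∈ es, ∀ m ∈ es, n ≠ m → (n ∈ H ∧ ¬ m ∣ n) ∨ (m ∈ H ∧ ¬ n ∣ m) ∨
      (l < n.totient + m.totient ∧ Big l n ∧ Big l m) ∨ Sp n m ∨ Sp m n)
    (hSp : ∀ (π : Set ℕ) (r s : ℕ), r.Prime → s.Prime → r ∈ π → s ∈ π → r ≠ s → r ≠ 2 → s ≠ 2 → r ≠ p → s ≠ p →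
      ¬ r ∣ d → ¬ s ∣ d → r ∣ Nat.card X → s ∣ Nat.card X → Sp (orderOf (Q : ZMod r)) (orderOf (Q : ZMod s)) →
      ¬ Cond π X)
    (hd : ∀ (π : Set ℕ) (r s : ℕ), r.Prime → s.Prime → r ∈ π → s ∈ π → r ≠ s → r ≠ 2 → s ≠ 2 → r ≠ p → s ≠ p →
      r ∣ d → r ∣ Nat.card X → s ∣ Nat.card X → ¬ Cond π X)
    (hBad : ∀ (π : Set ℕ) (r s : ℕ), r.Prime → s.Prime → r ∈ π → s ∈ π → r ≠ s → r ≠ 2 → s ≠ 2 → r ≠ p → s ≠ p →
      ¬ r ∣ d → ¬ s ∣ d → r ∣ Nat.card X → s ∣ Nat.card X → orderOf (Q : ZMod r) = orderOf (Q : ZMod s) →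
      (∃ i ∈ degs, orderOf (Q : ZMod r) ∣ i ∧ r ∣ i) → ¬ Cond π X)
    (hPos : ∀ n ∈ es, ∀ (π : Set ℕ), (∀ r ∈ π, r.Prime ∧ r ≠ 2 ∧ r ≠ p ∧ ¬ r ∣ d ∧ orderOf (Q : ZMod r) = n ∧
      (∀ i ∈ degs, n ∣ i → ¬ r ∣ i) ∧ ∃ R, (degs.map (fun i => Q ^ i - 1)).prod = (Polynomial.cyclotomic n ℤ).eval Q ^
        (degs.filter (fun i => n ∣ i)).length * R ∧ ¬ (r : ℤ) ∣ R) → π.Nontrivial →
      ∃ T : Subgroup X, IsMulCommutative T ∧ ∀ r ∈ π, ¬ r ∣ T.index) : CrossRow p X := by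
  have hpp : p.Prime := Fact.out
  intro π hπ hnt hc
  have hQr : ∀ r ∈ π, ¬ (r : ℤ) ∣ Q := fun r hr => not_dvd_Q hpp (hπ r hr).1 (hπ r hr).2.2.1 hε hQ
  -- no prime of `π` divides `d`
  have hdπ : ∀ r ∈ π, ¬ r ∣ d := by
    intro r hr hrd
    obtain ⟨s, hs, hsr⟩ := hnt.exists_ne r
    exact hd π r s (hπ r hr).1 (hπ s hs).1 hr hs hsr.symm (hπ r hr).2.1 (hπ s hs).2.1 (hπ r hr).2.2.1
      (hπ s hs).2.2.1 hrd (hπ r hr).2.2.2 (hπ s hs).2.2.2 hc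
  -- the orders are in `es`
  have hord : ∀ r ∈ π, orderOf (Q : ZMod r) ∈ es := by
    intro r hr
    obtain ⟨h1, h2, h3, h4⟩ := hπ r hr
    have hrZ := Nat.prime_iff_prime_int.1 h1
    have h5 : r ∣ (p ^ e) ^ N * ((degs.map (fun i => Q ^ i - 1)).prod).natAbs := by
      rw [← hcard]; exact h4.mul_left _
    rcases h1.dvd_mul.1 h5 with h6 | h6
    · exact absurd ((Nat.prime_dvd_prime_iff_eq h1 hpp).1 (h1.dvd_of_dvd_pow (h1.dvd_of_dvd_pow h6))) h3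
    · have h7 : (r : ℤ) ∣ (degs.map (fun i => Q ^ i - 1)).prod := Int.natCast_dvd.2 h6
      obtain ⟨x, hx, hrx⟩ := (Prime.dvd_prod_iff hrZ).1 h7
      obtain ⟨i, hi, rfl⟩ := List.mem_map.1 hx
      have h8 := (dvd_pow_sub_one_iff i).1 hrx
      exact (hes i hi).2 _ (Nat.lt_succ_of_le (Nat.le_of_dvd (Nat.pos_of_ne_zero (hes i hi).1) h8)) h8
  have hbig : ∀ r ∈ π, Big l (orderOf (Q : ZMod r)) → l + 1 < r := by
    intro r hr hb
    by_contra hcon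
    exact hb r (by omega) (hπ r hr).1 (ord_dvd (hπ r hr).1 (hQr r hr))
  -- different orders
  have hne : ∀ r ∈ π, ∀ s ∈ π, orderOf (Q : ZMod r) = orderOf (Q : ZMod s) := by
    intro r hr s hs
    by_contra hne
    have hrs : r ≠ s := by rintro rfl; exact hne rfl
    obtain ⟨h1, h2, h3, h4⟩ := hπ r hr
    obtain ⟨g1, g2, g3, g4⟩ := hπ s hs
    rcases hpair _ (hord r hr) _ (hord s hs) hne with ⟨h5, h6⟩ | ⟨h5, h6⟩ | ⟨h5, h6, h7⟩ | h5 | h5
    · exact hReg _ h5 π r s h1 g1 hr hs hrs h2 h3 (hdπ r hr) g4 rfl h6 hc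
    · exact hReg _ h5 π s r g1 h1 hs hr hrs.symm g2 g3 (hdπ s hs) h4 rfl h6 hc
    · obtain ⟨x, hx⟩ := exists_mul_order h1 g1 hr hs hrs h4 g4 hc
      have := S.totient_le hp cs hka h1 g1 h3 g3 (hbig r hr h6) (hbig s hs h7) hx hε hQ hne
      omega
    · exact hSp π r s h1 g1 hr hs hrs h2 g2 h3 g3 (hdπ r hr) (hdπ s hs) h4 g4 h5 hc
    · exact hSp π s r g1 h1 hs hr hrs.symm g2 h2 g3 h3 (hdπ s hs) (hdπ r hr) g4 h4 h5 hc
  obtain ⟨r0, hr0⟩ := hnt.nonempty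
  refine hPos _ (hord r0 hr0) π (fun r hr => ?_) hnt
  obtain ⟨h1, h2, h3, h4⟩ := hπ r hr
  have hb : ∀ i ∈ degs, orderOf (Q : ZMod r) ∣ i → ¬ r ∣ i := by
    intro i hi h5 h6
    obtain ⟨s, hs, hsr⟩ := hnt.exists_ne r
    obtain ⟨g1, g2, g3, g4⟩ := hπ s hs
    exact hBad π r s h1 g1 hr hs hsr.symm h2 g2 h3 g3 (hdπ r hr) (hdπ s hs) h4 g4 (hne r hr s hs) ⟨i, hi, h5, h6⟩ hc
  refine ⟨h1, h2, h3, hdπ r hr, hne r hr r0 hr0, ?_, ?_⟩
  · rw [hne r0 hr0 r hr]; exact hb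
  · have h5 := exists_prod h1 (hQr r hr) degs hb
    rwa [hne r hr r0 hr0] at h5

end Main

end Cfsg.Agent.H630.Exc
end

-- part: H630/ExcG
section
set_option linter.all false
open scoped Cfsg.Agent.FastGrp

/-!
# Bad primes (helper630)

* `Setup.not_cond_sum` : an element of `r`-power order of `W` commuting with `w₁` without fixed points on the torus;
* `Setup.not_cond_count` : the counting argument for `w₁ = 1`;
* `ncard_root` : counting roots in the list.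
-/

set_option autoImplicit false
set_option linter.unusedSectionVars false

namespace Cfsg.Agent.H630.Exc

open CoxeterSystem Cfsg Cfsg.Lie Cfsg.Lie.ChevalleyDatum
open Cfsg.Agent.ChevalleyStructure Cfsg.Agent.ChevalleyStructure.Elts Cfsg.Agent.ChevalleyStructure.CoxeterGeom
  Cfsg.Agent.ChevalleyStructure.CoxeterGeomTypes Cfsg.Agent.ChevalleyStructure.NPerm
open Cfsg.Agent.Tits.Roots Cfsg.Agent.Tits.Core Cfsg.Agent.Nodes Cfsg.Agent.Nodes.Reps Cfsg.Agent.Nodes.BNOf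
  Cfsg.Agent.Nodes.RGDChev Cfsg.Agent.Nodes.Bruhat Cfsg.Agent.Nodes.SubComb Cfsg.Agent.Nodes.Coroot
open Cfsg.Agent.KFacts.RgdField Cfsg.Agent.KFacts.RgdChevCoord Cfsg.Agent.BpExc.TorCent Cfsg.Agent.BpExc.TorChev
open Cfsg.Agent.GpExc.Field Cfsg.Agent.BpExc.Tow Cfsg.Agent.BpExc.TowChev Cfsg.Agent.BpExc.Fr
  Cfsg.Agent.BpExc.LangFr Cfsg.Agent.LangThm Cfsg.Agent.BpExc Cfsg.Agent.H129.TorusChar Cfsg.Agent.H129.TorusMain
open Cfsg.Agent.H630.NH Cfsg.Agent.H130.WeylCk Cfsg.Agent.H130.PolyL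

universe u v

section Count

variable {D : ChevalleyDatum} {l : ℕ} {M : CoxeterMatrix (Fin l)} (hp : IsType D l M)
  {W : Type*} [Group W] (cs : CoxeterSystem M W)

theorem toFn_root (r : ℕ) : toFn l ((List.finRange l).map (vec D l r)) = vec D l r := by
  funext j
  show ((List.finRange l).map (vec D l r)).getD j 0 = _
  rw [List.getD_eq_getElem _ _ (by rw [List.length_map, List.length_finRange]; exact j.2), List.getElem_map,
    List.getElem_finRange]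
  rfl

omit [Group W] in
theorem card_filter_range (f : ℕ → List ℤ) (P' : List ℤ → Bool) (n : ℕ) :
    ((Finset.range n).filter fun r => P' (f r) = true).card = ((List.range n).filter (P' ∘ f)).length := by
  induction n with
  | zero => rfl
  | succ n ih =>
    rw [Finset.range_add_one, Finset.filter_insert, List.range_succ, List.filter_append, List.length_append, ← ih]
    by_cases h : P' (f n) = true
    · rw [if_pos h, Finset.card_insert_of_notMem (by simp), List.filter_cons_of_pos (by simpa using h)]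
      rfl
    · rw [if_neg h, List.filter_cons_of_neg (by simpa using h)]
      rfl

/-- Counting roots. -/
theorem ncard_root (P : (Fin l → ℤ) → Prop) (P' : List ℤ → Bool)
    (hP : ∀ v ∈ rootL D l, P' v = true ↔ P (toFn l v)) :
    {a | IsRoot cs hp.isCartan a ∧ P a}.ncard = (rootL D l).countP P' := by
  have h1 : {a | IsRoot cs hp.isCartan a ∧ P a} = (fun r => vec D l r) ''
      (((Finset.range D.nroots).filter fun r => P' ((List.finRange l).map (vec D l r)) = true : Finset ℕ) : Set ℕ) := by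
    ext a
    constructor
    · rintro ⟨ha, hPa⟩
      obtain ⟨r, hr, rfl⟩ := (isRoot_iff hp cs a).1 ha
      refine ⟨r, ?_, rfl⟩
      rw [Finset.mem_coe, Finset.mem_filter, Finset.mem_range]
      refine ⟨hr, (hP _ (List.mem_map_of_mem (List.mem_range.2 hr))).2 ?_⟩
      rw [toFn_root]; exact hPa
    · rintro ⟨r, hr, rfl⟩
      rw [Finset.mem_coe, Finset.mem_filter, Finset.mem_range] at hr
      refine ⟨(isRoot_iff hp cs _).2 ⟨r, hr.1, rfl⟩, ?_⟩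
      have := (hP _ (List.mem_map_of_mem (List.mem_range.2 hr.1))).1 hr.2
      rwa [toFn_root] at this
  have h2 : Set.InjOn (fun r => vec D l r) (((Finset.range D.nroots).filter fun r =>
      P' ((List.finRange l).map (vec D l r)) = true : Finset ℕ) : Set ℕ) := by
    intro r hr s hs h
    rw [Finset.mem_coe, Finset.mem_filter, Finset.mem_range] at hr hs
    exact vec_inj hp hr.1 hs.1 h
  rw [h1, h2.ncard_image, Set.ncard_coe_finset, rootL, List.countP_map, List.countP_eq_length_filter,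
    ← card_filter_range (fun r => (List.finRange l).map (vec D l r)) P' D.nroots]

/-- the sum of the first `n` iterates -/
def sumIt (l : ℕ) (m : List (List ℤ)) : ℕ → List ℤ → List ℤ
  | 0, _ => List.replicate l 0
  | n + 1, v => addV v (sumIt l m n (lc l v m))

theorem length_sumIt {m : List (List ℤ)} (hb : ∀ b ∈ m, b.length = l) : ∀ (n : ℕ) (v : List ℤ), v.length = l →
    (sumIt l m n v).length = l
  | 0, v, _ => by rw [sumIt, List.length_replicate]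
  | n + 1, v, hv => by
    have h1 := length_sumIt hb n (lc l v m) (length_lc _ _ hb)
    rw [sumIt, length_addV _ _ (by rw [hv, h1]), h1]

theorem toFn_sumIt {R : Module.End ℤ (Fin l → ℤ)} {m : List (List ℤ)} (hm : m.length = l) (hb : ∀ b ∈ m, b.length = l)
    (h : ∀ i : Fin l, R (Pi.single i 1) = toFn l (m.getD i [])) : ∀ (n : ℕ) (v : List ℤ), v.length = l →
    toFn l (sumIt l m n v) = ∑ i ∈ Finset.range n, (R ^ i) (toFn l v)
  | 0, v, _ => by rw [sumIt, toFn_replicate, Finset.sum_range_zero]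
  | n + 1, v, hv => by
    have h1 := length_sumIt hb n (lc l v m) (length_lc _ _ hb)
    rw [sumIt, toFn_addV _ _ hv h1, toFn_sumIt hm hb h n _ (length_lc _ _ hb), toFn_lin hm hb h hv,
      Finset.sum_range_succ', pow_zero, Module.End.one_apply, add_comm]
    congr 1

end Count

variable {D : ChevalleyDatum} {l : ℕ} {M : CoxeterMatrix (Fin l)} (hp : IsType D l M) {k' : Type u} [Field k']
  {W : Type*} [Group W] (cs : CoxeterSystem M W)
  {p e : ℕ} [Fact p.Prime] [CharP k' p] {σ : MulAut ↥(D.group k')}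
  {g : (Fin l → ℤ) ≃+ (Fin l → ℤ)} {X : Type v} [Group X] {e0 : X →* ↥(D.group k')} {d : ℕ}
  (S : Setup hp cs p e σ g e0 d)

/-- the action of `w₁` on a torus element -/
theorem cX_w1 {w w1 : W} {ε : ℤ} (hε : ε = 1 ∨ ε = -1) (h : ∀ x, theta hp cs w g x = ε • rep cs hp.isCartan w1 x)
    {Q : ℤ} (hQ : Q = ε * (p ^ e : ℕ)) {t : ↥(D.group k')} (ht : t ∈ TT D k')
    (hθ : ∀ x, cX hp t (theta hp cs w g x) = cX hp t x ^ p ^ e) (j : ℕ) (x : Fin l → ℤ) :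
    cX hp t ((rep cs hp.isCartan w1 ^ j) x) = cX hp t x ^ (Q ^ j) := by
  have hmc := isMC_cX hp ht
  have h1 : ∀ x, cX hp t (rep cs hp.isCartan w1 x) = cX hp t x ^ Q := by
    intro x
    have h2 := hθ x
    rw [h, hmc.zsmul] at h2
    rw [hQ, mul_comm, zpow_mul, zpow_natCast, ← h2, ← zpow_mul]
    rcases hε with rfl | rfl <;> simp
  induction j with
  | zero => rw [pow_zero, pow_zero, Module.End.one_apply, zpow_one]
  | succ j ih => rw [pow_succ', Module.End.mul_apply, h1, ih, pow_succ, zpow_mul]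

include S

/-- **Bad primes, first version.** -/
theorem Setup.not_cond_sum [IsAlgClosed k'] [Finite W] [Finite X] {π : Set ℕ} {r s' : ℕ} (hrp : r.Prime)
    (hsp : s'.Prime) (hr : r ∈ π) (hs' : s' ∈ π) (hrs : r ≠ s') (hrc : r ≠ p) (hrd : ¬ r ∣ d) (hr2 : r ≠ 2)
    (hsX : s' ∣ Nat.card X) {ε Q : ℤ} (hε : ε = 1 ∨ ε = -1) (hQ : Q = ε * (p ^ e : ℕ)) {w1 : W}
    (hT : HasTor hp cs g ε w1) {n : ℕ} (hn0 : 0 < n) (hw : rep cs hp.isCartan w1 ^ n = 1) (hrQ : (r : ℤ) ∣ Q ^ n - 1)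
    (hreg : RegAt cs hp.isCartan w1 n r Q) {sW : W}
    (hcomm : ∀ x, rep cs hp.isCartan sW (rep cs hp.isCartan w1 x) = rep cs hp.isCartan w1 (rep cs hp.isCartan sW x))
    {j : ℕ} (hsj : rep cs hp.isCartan sW ^ r ^ j = 1) {m : ℕ} (c : Fin m → ℤ)
    (hsum : ∀ x, ∑ i ∈ Finset.range (r ^ j), (rep cs hp.isCartan sW ^ i)
      (∑ t : Fin m, c t • (rep cs hp.isCartan w1 ^ (t : ℕ)) x) = 0)
    (hcs : ¬ (s' : ℤ) ∣ ∑ t : Fin m, c t * Q ^ (t : ℕ)) : ¬ Cond π X := by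
  obtain ⟨w, hw'⟩ := hT
  have hrZ := Nat.prime_iff_prime_int.1 hrp
  have hsZ := Nat.prime_iff_prime_int.1 hsp
  have hsj' : sW ^ r ^ j = 1 := rep_injective cs hp.isCartan (by rw [map_pow, hsj, map_one])
  refine S.not_cond_B hp cs hrp hsp hr hs' hrs hrc hrd hsX w (n := 2 * n) (by omega) (fun x => ?_) ?_ (fun a ha => ?_)
    (s := sW) (fun x => ?_) hsj' ?_
  · rw [theta_iter hp cs hw', eps_pow_two hε, one_smul, mul_comm, pow_mul, hw, one_pow, Module.End.one_apply]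
  · have h1 : ((p ^ e : ℕ) : ℤ) ^ (2 * n) = Q ^ (2 * n) := by rw [hQ, mul_pow, eps_pow_two hε, one_mul]
    rw [h1]
    refine hrQ.trans ⟨Q ^ n + 1, ?_⟩
    ring
  · obtain ⟨L, hL⟩ := hreg a ha
    refine ⟨L, fun h1 => ?_⟩
    rw [Lq_eq hp cs hε hw' hw _ hQ] at h1
    rcases hrZ.dvd_mul.1 h1 with h2 | h2
    · have h3 : (r : ℤ) ∣ 2 := by
        have h4 := dvd_sub h2 hrQ
        have h5 : Q ^ n + 1 - (Q ^ n - 1) = 2 := by ring
        rwa [h5] at h4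
      have h4 : r ∣ 2 := by exact_mod_cast h3
      exact hr2 ((Nat.prime_dvd_prime_iff_eq hrp Nat.prime_two).1 h4)
    · exact hL h2
  · rw [hw', hw', map_zsmul, hcomm]
  · intro t ht hθ hts hfix
    have hmc := isMC_cX hp ht
    refine cX_inj hp ht (one_mem _) fun i => ?_
    rw [cX_one]
    obtain ⟨x, hx⟩ : ∃ x : Fin l → ℤ, x = sr i := ⟨_, rfl⟩
    rw [← hx]
    obtain ⟨y, hy⟩ : ∃ y, y = ∑ t : Fin m, c t • (rep cs hp.isCartan w1 ^ (t : ℕ)) x := ⟨_, rfl⟩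
    have h0 := hmc.ne_zero x
    have h1 : cX hp t y = cX hp t x ^ (∑ t : Fin m, c t * Q ^ (t : ℕ)) := by
      rw [hy, hmc.sum]
      have h2 : ∀ s : Finset (Fin m), cX hp t x ^ (∑ t ∈ s, c t * Q ^ (t : ℕ)) =
          ∏ t' ∈ s, cX hp t (c t' • (rep cs hp.isCartan w1 ^ (t' : ℕ)) x) := by
        intro s
        classical
        induction s using Finset.induction_on with
        | empty => simp
        | insert a s ha ih =>
          rw [Finset.sum_insert ha, Finset.prod_insert ha, zpow_add₀ h0, ih, hmc.zsmul,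
            cX_w1 hp cs hε hw' hQ ht hθ, ← zpow_mul, mul_comm (Q ^ _)]
      exact (h2 Finset.univ).symm
    have h2 : ∀ i, cX hp t ((rep cs hp.isCartan sW ^ i) y) = cX hp t y := by
      intro i
      induction i with
      | zero => rw [pow_zero, Module.End.one_apply]
      | succ i ih => rw [pow_succ', Module.End.mul_apply, hfix, ih]
    have h3 : cX hp t y ^ r ^ j = 1 := by
      have h4 := hmc.sum (Finset.range (r ^ j)) (fun i => (rep cs hp.isCartan sW ^ i) y)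
      rw [hy, hsum, ← hy, hmc.zero, Finset.prod_congr rfl (fun i _ => h2 i), Finset.prod_const,
        Finset.card_range] at h4
      exact h4.symm
    have h4 : cX hp t x ^ ((∑ t : Fin m, c t * Q ^ (t : ℕ)) * (r ^ j : ℕ)) = 1 := by
      rw [zpow_mul, ← h1, zpow_natCast, h3]
    have h5 : cX hp t x ^ (s' : ℤ) = 1 := by
      rw [zpow_natCast, ← cX_pow hp ht, hts, cX_one]
    have hco : IsCoprime ((∑ t : Fin m, c t * Q ^ (t : ℕ)) * (r ^ j : ℕ)) (s' : ℤ) := by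
      rw [isCoprime_comm, hsZ.irreducible.coprime_iff_not_dvd]
      intro h
      rcases hsZ.dvd_mul.1 h with h | h
      · exact hcs h
      · rw [Nat.cast_pow] at h
        have h6 := hsZ.dvd_of_dvd_pow h
        exact hrs ((Nat.prime_dvd_prime_iff_eq hsp hrp).1 (Int.natCast_dvd_natCast.1 h6)).symm
    obtain ⟨a, b, hab⟩ := hco
    calc cX hp t x = cX hp t x ^ (1 : ℤ) := (zpow_one _).symm
      _ = 1 := by
        rw [← hab, zpow_add₀ h0, mul_comm a, mul_comm b, zpow_mul, h4, zpow_mul, h5, one_zpow, one_zpow, one_mul]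

/-- **Bad primes, second version.** -/
theorem Setup.not_cond_count [IsAlgClosed k'] [Finite W] [Finite X] {π : Set ℕ} {r s' : ℕ} (hrp : r.Prime)
    (hsp : s'.Prime) (hr : r ∈ π) (hs' : s' ∈ π) (hrs : r ≠ s') (hrc : r ≠ p) (hsc : s' ≠ p) (hrd : ¬ r ∣ d)
    (hsd : ¬ s' ∣ d) (hr2 : r ≠ 2) (hs2 : s' ≠ 2)
    {ε Q : ℤ} (hε : ε = 1 ∨ ε = -1) (hQ : Q = ε * (p ^ e : ℕ))
    (hT : HasTor hp cs g ε (1 : W)) (hrQ : (r : ℤ) ∣ Q - 1) (hsQ : (s' : ℤ) ∣ Q - 1) {sW : W}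
    {j : ℕ} (hsj : rep cs hp.isCartan sW ^ r ^ j = 1) (L : (Fin l → ℤ) →+ ℤ)
    (hL : ∃ a, ¬ (s' : ℤ) ∣ L a)
    (hcard : {a | IsRoot cs hp.isCartan a ∧ (s' : ℤ) ∣ L a}.ncard <
      {a | IsRoot cs hp.isCartan a ∧ ∑ i ∈ Finset.range (r ^ j), (rep cs hp.isCartan sW ^ i) a = 0}.ncard) :
    ¬ Cond π X := by
  intro hc
  obtain ⟨w, hw'⟩ := hT
  have hpp : p.Prime := Fact.out
  have hsZ := Nat.prime_iff_prime_int.1 hsp
  have hQr := not_dvd_Q hpp hrp hrc hε hQ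
  have hQs := not_dvd_Q hpp hsp hsc hε hQ
  have hw : rep cs hp.isCartan (1 : W) ^ 1 = 1 := by rw [map_one, one_pow]
  have hsj' : sW ^ r ^ j = 1 := rep_injective cs hp.isCartan (by rw [map_pow, hsj, map_one])
  have hrZ := Nat.prime_iff_prime_int.1 hrp
  have hpow : ∀ {r : ℕ}, (r : ℤ) ∣ Q - 1 → (r : ℤ) ∣ ((p ^ e : ℕ) : ℤ) ^ (2 * 1) - 1 := by
    intro r h
    have h1 : ((p ^ e : ℕ) : ℤ) ^ (2 * 1) = Q ^ (2 * 1) := by rw [hQ, mul_pow, eps_pow_two hε, one_mul]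
    rw [h1]
    exact h.trans ⟨Q + 1, by ring⟩
  have hLq : ∀ (L : (Fin l → ℤ) →+ ℤ) (a : Fin l → ℤ), Lq L (theta hp cs w g) (p ^ e) (2 * 1) a = (Q + 1) * (Q * L a) := by
    intro L a
    rw [Lq_eq hp cs hε hw' hw _ hQ, Finset.sum_range_one, pow_zero, Module.End.one_apply, Nat.sub_zero, pow_one]
  have hiff : ∀ {r : ℕ}, r.Prime → r ≠ 2 → ¬ (r : ℤ) ∣ Q → (r : ℤ) ∣ Q - 1 → ∀ (L : (Fin l → ℤ) →+ ℤ) (a : Fin l → ℤ),
      (r : ℤ) ∣ Lq L (theta hp cs w g) (p ^ e) (2 * 1) a → (r : ℤ) ∣ L a := by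
    intro r hr hr2 hrQ0 hrQ L a h
    have hrZ := Nat.prime_iff_prime_int.1 hr
    rw [hLq] at h
    rcases hrZ.dvd_mul.1 h with h2 | h2
    · exfalso
      have h3 : (r : ℤ) ∣ 2 := by
        have h4 := dvd_sub h2 hrQ
        have h5 : Q + 1 - (Q - 1) = 2 := by ring
        rwa [h5] at h4
      have h4 : r ∣ 2 := by exact_mod_cast h3
      exact hr2 ((Nat.prime_dvd_prime_iff_eq hr Nat.prime_two).1 h4)
    · exact (hrZ.dvd_mul.1 h2).resolve_left hrQ0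
  have key := S.ncard_le_of_cond hp cs hrp hsp hr hs' hrs hrc hsc hrd hsd w (n := 2 * 1) (by omega) (fun x => by
      rw [theta_iter hp cs hw', eps_pow_two hε, one_smul, mul_comm, pow_mul, hw, one_pow, Module.End.one_apply])
    (hpow hrQ) (hpow hsQ) (fun a ha => by
      obtain ⟨i, hi⟩ := exists_coord hp cs ha hrp
      exact ⟨coordF l i, fun h => hi (hiff hrp hr2 hQr hrQ _ _ h)⟩) (s := sW) (fun x => by
      rw [hw', hw', map_zsmul, map_one, Module.End.one_apply, Module.End.one_apply]) hsj' L (by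
      obtain ⟨a, ha⟩ := hL
      exact ⟨a, fun h => ha (hiff hsp hs2 hQs hsQ _ _ h)⟩) hc
  have h1 : {a | IsRoot cs hp.isCartan a ∧ (s' : ℤ) ∣ Lq L (theta hp cs w g) (p ^ e) (2 * 1) a} ⊆
      {a | IsRoot cs hp.isCartan a ∧ (s' : ℤ) ∣ L a} := fun a ha => ⟨ha.1, hiff hsp hs2 hQs hsQ _ _ ha.2⟩
  have h2 := Set.ncard_le_ncard h1 ((finite_roots hp cs).subset fun a ha => ha.1)
  have h3 : {a | IsRoot cs hp.isCartan a ∧ ∑ i ∈ Finset.range (r ^ j), rep cs hp.isCartan (sW ^ i) a = 0} =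
      {a | IsRoot cs hp.isCartan a ∧ ∑ i ∈ Finset.range (r ^ j), (rep cs hp.isCartan sW ^ i) a = 0} := by
    ext a
    simp only [map_pow]
  rw [h3] at key
  omega

end Cfsg.Agent.H630.Exc

private theorem dce_4bd24763d10c : _root_.True := by
  try have : _root_.True := by simp only [_root_.Cfsg.Agent.H630.Exc.rootL.eq_1]
  try have : _root_.True := by simp only [_root_.Cfsg.Agent.H630.Exc.sumIt.eq_def]
  try have : _root_.True := by simp only [_root_.Cfsg.Agent.H630.Exc.sumIt.eq_2]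
  try have : _root_.True := by simp only [_root_.Cfsg.Agent.H630.Exc.sumIt.eq_1]
  exact _root_.True.intro
end

-- part: H630/ExcH
section
set_option linter.all false
open scoped Cfsg.Agent.FastGrp

/-!
# The untwisted groups (helper630)

* `setup_untw` : the `Setup` of `D.group F`;
* `hasTor_all` : `HasTor` for `ε = ±1` if `-1 ∈ W`;
* `Setup.regE_ck`, `Setup.regE_ck_neg` : the exclusions from a table;
* `Setup.pos_of_hasF` : the abelian subgroup from a certificate.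
-/

set_option autoImplicit false
set_option linter.unusedSectionVars false

namespace Cfsg.Agent.H630.Exc

open CoxeterSystem Cfsg Cfsg.Lie Cfsg.Lie.ChevalleyDatum
open Cfsg.Agent.ChevalleyStructure Cfsg.Agent.ChevalleyStructure.Elts Cfsg.Agent.ChevalleyStructure.CoxeterGeom
  Cfsg.Agent.ChevalleyStructure.CoxeterGeomTypes Cfsg.Agent.ChevalleyStructure.NPerm
open Cfsg.Agent.Tits.Roots Cfsg.Agent.Tits.Core Cfsg.Agent.Nodes Cfsg.Agent.Nodes.Reps Cfsg.Agent.Nodes.BNOf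
  Cfsg.Agent.Nodes.RGDChev Cfsg.Agent.Nodes.Bruhat Cfsg.Agent.Nodes.SubComb Cfsg.Agent.Nodes.Coroot
open Cfsg.Agent.KFacts.RgdField Cfsg.Agent.KFacts.RgdChevCoord Cfsg.Agent.BpExc.TorCent Cfsg.Agent.BpExc.TorChev
open Cfsg.Agent.GpExc.Field Cfsg.Agent.BpExc.Tow Cfsg.Agent.BpExc.TowChev Cfsg.Agent.BpExc.Fr
  Cfsg.Agent.BpExc.LangFr Cfsg.Agent.LangThm Cfsg.Agent.BpExc Cfsg.Agent.H129.TorusChar Cfsg.Agent.H129.TorusMain
open Cfsg.Agent.H129.TorusUntw (phi phi_emb coe_phi isFrob_phi fr_phi)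
open Cfsg.Agent.H630.NH Cfsg.Agent.H130.WeylCk Cfsg.Agent.H130.PolyL

universe u v

variable {D : ChevalleyDatum} {l : ℕ} {M : CoxeterMatrix (Fin l)} (hp : IsType D l M)
  {W : Type*} [Group W] (cs : CoxeterSystem M W)

/-! ### the untwisted groups -/

section Untw

variable {k : Type u} [Field k] {p n : ℕ} [Fact p.Prime] [CharP k p]

theorem phi_eq_phi [IsAlgClosed k] [PerfectRing k p] (y : ↥(D.group k)) :
    Cfsg.Agent.BpExc.FamUntw.phi D k p n y = phi D k p n y := by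
  apply Subtype.ext
  apply Units.ext
  rw [coe_phi, coe_glMap]
  exact Cfsg.Agent.BpExc.FamUntw.phi_coe p n y

/-- **The setup of `D.group F`.** -/
theorem setup_untw [IsAlgClosed k] (hk : LocFin k) {F : Type u} [Field F] [Fintype F] (f : F →+* k) (hn0 : 0 < n)
    (hn : Fintype.card F = p ^ n) {d0 : ℕ} {B : Fin l → Fin l → ℤ} (hB : InvC D l d0 B) (hd0 : d0 ≠ 0) :
    Setup hp cs p n (phi D k p n) (AddEquiv.refl (Fin l → ℤ)) (emb hp.inList f)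
      (Nat.gcd d0 (Nat.card F - 1)) where
  lf := hk
  pos := hn0
  frob := isFrob_phi
  fr := fr_phi hp cs
  inv := ⟨B, d0, hd0, hB⟩
  inj := emb_injective hp.inList f
  fix := phi_emb hp f hn
  range := by
    intro r hr hrd y hy hyr
    obtain ⟨m, hm⟩ := hyr
    refine H378.RootTor.mem_of_pow hp f p (by rw [Nat.card_eq_fintype_card, hn]) hB hd0 (by rw [phi_eq_phi, hy]) hm ?_
    exact Nat.Coprime.pow_left m ((Nat.Prime.coprime_iff_not_dvd hr).2 hrd)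

end Untw

/-! ### `HasTor` -/

theorem hasTor_one (w1 : W) : HasTor hp cs (AddEquiv.refl (Fin l → ℤ)) 1 w1 :=
  ⟨w1, fun x => by rw [one_smul]; rfl⟩

theorem hasTor_all {w0 : W} (h0 : ∀ x, rep cs hp.isCartan w0 x = -x) {ε : ℤ} (hε : ε = 1 ∨ ε = -1) (w1 : W) :
    HasTor hp cs (AddEquiv.refl (Fin l → ℤ)) ε w1 := by
  rcases hε with rfl | rfl
  · exact hasTor_one hp cs w1
  · refine ⟨w1 * w0, fun x => ?_⟩
    show rep cs hp.isCartan (w1 * w0) x = _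
    rw [map_mul, Module.End.mul_apply, h0, map_neg, neg_smul, one_smul]

/-- `-1 ∈ W` from a table. -/
theorem rep_neg_of {Al : List (List ℤ)} (hA : MatList (cartanOf D l) Al) (word : List (Fin l)) (k : ℕ)
    (h : ∀ i : Fin l, acn Al word k (bas l i) = (bas l i).map (fun x => -1 * x)) (x : Fin l → ℤ) :
    rep cs hp.isCartan (cs.wordProd word ^ k) x = -x := by
  have h1 : rep cs hp.isCartan (cs.wordProd word ^ k) = -1 := by
    apply LinearMap.pi_ext'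
    intro i
    apply LinearMap.ext_ring
    show rep cs hp.isCartan (cs.wordProd word ^ k) (Pi.single i 1) = -Pi.single i 1
    rw [← toFn_bas, map_pow, ← toFn_acn cs hp.isCartan hA word _ _ (length_bas i.1), h i, toFn_smul, neg_smul, one_smul]
  rw [h1]
  rfl

/-! ### from the tables -/

section Tab

variable {k' : Type u} [Field k'] {p e : ℕ} [hpF : Fact p.Prime] [CharP k' p] {σ : MulAut ↥(D.group k')}
  {g : (Fin l → ℤ) ≃+ (Fin l → ℤ)} {X : Type v} [Group X] {e0 : X →* ↥(D.group k')} {d : ℕ}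
  (S : Setup hp cs p e σ g e0 d)

/-- the odd prime divisors of `N` are at most `n` -/
def Small (N : ℤ) (n : ℕ) : Prop := ∀ r < N.natAbs + 1, r.Prime → r ≠ 2 → r ∣ N.natAbs → r ≤ n

instance decSmall (N : ℤ) (n : ℕ) : Decidable (Small N n) := by unfold Small; infer_instance

omit [Group W] in
theorem Small.not_dvd {N : ℤ} {n r : ℕ} (h : Small N n) (hN : N ≠ 0) (hr : r.Prime) (hr2 : r ≠ 2)
    (hn : n ∣ r - 1) : ¬ (r : ℤ) ∣ N := by
  intro h1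
  have h2 : r ∣ N.natAbs := Int.natCast_dvd.1 h1
  have h3 := Nat.le_of_dvd (Int.natAbs_pos.2 hN) h2
  have h4 := h r (by omega) hr hr2 h2
  have h5 := Nat.le_of_dvd (by have := hr.two_le; omega) hn
  have := hr.two_le
  omega

include hp in
theorem regAt_of_ck' {Al Bl : List (List ℤ)} (hA : MatList (cartanOf D l) Al) {word : List (Fin l)} {k n : ℕ}
    {m : List (List ℤ)} {K : List (List ℤ × List ℤ × List ℤ × ℤ)} {N0 : ℤ} (H : RegCk D l Al Bl word k n m K N0)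
    (hn : n ∈ H130.PolyL.idx) (hN0 : N0 ≠ 0) (hs : Small N0 n) {r : ℕ} (hr : r.Prime) (hr2 : r ≠ 2) {Q : ℤ}
    (hQ : ¬ (r : ℤ) ∣ Q) (hrn : orderOf (Q : ZMod r) = n) :
    RegAt cs hp.isCartan (cs.wordProd word ^ k) n r Q :=
  regAt_of_ck hp cs hA H hn hr hQ hrn (hs.not_dvd hN0 hr hr2 (by rw [← hrn]; exact ord_dvd hr hQ))

include S

theorem Setup.regE_ck [IsAlgClosed k'] [Finite W] [Finite X] {ε Q : ℤ} (hε : ε = 1 ∨ ε = -1)
    (hQ : Q = ε * (p ^ e : ℕ)) (hT : ∀ w1, HasTor hp cs g ε w1) {Al Bl : List (List ℤ)}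
    (hA : MatList (cartanOf D l) Al) {word : List (Fin l)} {k n : ℕ}
    {m : List (List ℤ)} {K : List (List ℤ × List ℤ × List ℤ × ℤ)} {N0 : ℤ} (H : RegCk D l Al Bl word k n m K N0)
    (hn : n ∈ H130.PolyL.idx) (hN0 : N0 ≠ 0) (hs : Small N0 n) : RegE X p d Q n :=
  S.regE_same hp cs hε hQ (hT (cs.wordProd word ^ k)) (rep_pow_eq_one hp cs hA word k n H.2.2.1)
    fun _ h1 h2 h3 h4 => regAt_of_ck' hp cs hA H hn hN0 hs h1 h2 h3 h4

theorem Setup.regE_ck_neg [IsAlgClosed k'] [Finite W] [Finite X] {ε Q : ℤ} (hε : ε = 1 ∨ ε = -1)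
    (hQ : Q = ε * (p ^ e : ℕ)) (hT : ∀ w1, HasTor hp cs g (-ε) w1) {Al Bl : List (List ℤ)}
    (hA : MatList (cartanOf D l) Al) {word : List (Fin l)} {k n : ℕ}
    {m : List (List ℤ)} {K : List (List ℤ × List ℤ × List ℤ × ℤ)} {N0 : ℤ} (H : RegCk D l Al Bl word k n m K N0)
    (hn0 : 0 < n) (hodd : ¬ 2 ∣ n) (hn : n ∈ H130.PolyL.idx) (hN0 : N0 ≠ 0) (hs : Small N0 n) :
    RegE X p d Q (2 * n) :=
  S.regE_neg hp cs hε hQ (hT (cs.wordProd word ^ k)) hn0 hodd (rep_pow_eq_one hp cs hA word k n H.2.2.1)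
    fun _ h1 h2 h3 h4 => regAt_of_ck' hp cs hA H hn hN0 hs h1 h2 h3 h4

theorem Setup.regE_one [IsAlgClosed k'] [Finite W] [Finite X] {ε Q : ℤ} (hε : ε = 1 ∨ ε = -1)
    (hQ : Q = ε * (p ^ e : ℕ)) (hT : ∀ w1, HasTor hp cs g ε w1) : RegE X p d Q 1 :=
  S.regE_same hp cs hε hQ (hT 1) (by rw [map_one, one_pow]) fun _ h1 _ h3 _ => regAt_one hp cs h1 h3

theorem Setup.regE_two [IsAlgClosed k'] [Finite W] [Finite X] {ε Q : ℤ} (hε : ε = 1 ∨ ε = -1)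
    (hQ : Q = ε * (p ^ e : ℕ)) (hT : ∀ w1, HasTor hp cs g (-ε) w1) : RegE X p d Q 2 :=
  S.regE_neg hp cs hε hQ (n := 1) (hT 1) one_pos (by norm_num) (by rw [map_one, one_pow])
    fun _ h1 _ h3 _ => regAt_one hp cs h1 h3

/-- **The abelian subgroups.** -/
theorem Setup.pos_of_hasF [IsAlgClosed k'] [Finite W] [Finite X] {ε : ℤ} (hε : ε = 1 ∨ ε = -1)
    {Al : List (List ℤ)} (hA : MatList (cartanOf D l) Al) (hT : ∀ w1, HasTor hp cs g ε w1) {Q : ℤ}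
    (hQ : Q = ε * (p ^ e : ℕ)) {n : ℕ} (hn0 : 0 < n) (hn : n ∈ H130.PolyL.idx) {degs : List ℕ}
    (H : HasF Al l degs n) {fs : ℤ} {N g' : ℕ} (hcard : g' * Nat.card X = (p ^ e) ^ N * fs.natAbs) {π : Set ℕ}
    (hπ : ∀ r ∈ π, r.Prime ∧ r ≠ 2 ∧ r ≠ p ∧ ¬ r ∣ d ∧ orderOf (Q : ZMod r) = n ∧
      (∀ i ∈ degs, n ∣ i → ¬ r ∣ i) ∧ ∃ R, fs = (Polynomial.cyclotomic n ℤ).eval Q ^
        (degs.filter (fun i => n ∣ i)).length * R ∧ ¬ (r : ℤ) ∣ R) :
    ∃ T : Subgroup X, IsMulCommutative T ∧ ∀ r ∈ π, ¬ r ∣ T.index := by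
  obtain ⟨word, k, c, xs, ys, hC, hc⟩ := H
  refine S.exists_torus_cert hp cs hε hA (hT _) hQ hn0 hn hC hcard fun r hr => ?_
  obtain ⟨h1, h2, h3, h4, h5, h6, h7⟩ := hπ r hr
  refine ⟨h1, h2, h3, h4, h5, fun h8 => ?_, h7⟩
  have h9 := h8.trans hc
  have h10 : (r : ℤ) ∣ (((degs.filter (fun i => n ∣ i)).prod : ℕ) : ℤ) := h9
  have h11 : r ∣ (degs.filter (fun i => n ∣ i)).prod := Int.natCast_dvd_natCast.1 h10
  obtain ⟨i, hi, hri⟩ := (Prime.dvd_prod_iff (Nat.prime_iff.1 h1)).1 h11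
  rw [List.mem_filter] at hi
  exact h6 i hi.1 (of_decide_eq_true hi.2) hri

end Tab

/-! ### bad primes -/

/-- the check for `not_cond_sum` -/
def SumCk (l : ℕ) (Al : List (List ℤ)) (word : List (Fin l)) (k N : ℕ) (m : List (List ℤ)) : Prop :=
  (m.length = l ∧ (∀ b ∈ m, b.length = l)) ∧ (∀ i : Fin l, acn Al word k (bas l i) = m.getD i []) ∧
  (∀ i : Fin l, acn Al word (k * N) (bas l i) = bas l i) ∧
  ∀ i : Fin l, sumIt l m N (bas l i) = List.replicate l 0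

/-- a sufficient check is tried first -/
def Fast.tryDec {P : Prop} (b : Bool) (h : b = true → P) (d : Decidable P) : Decidable P :=
  @Bool.rec (fun c => (c = true → P) → Decidable P) (fun _ => d) (fun h => isTrue (h rfl)) b h

/-- the sum of the images -/
noncomputable def Fast.sumK {α : Type} (l : ℕ) (t : List (List ℤ)) (n : ℕ) : List ℤ → (List ℤ → α) → α :=
  @Nat.rec (fun _ => List ℤ → (List ℤ → α) → α) (fun _ k => k (List.replicate l 0)) (fun _ ih v k =>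
    Fast.mpK (fun c => Fast.dotF c v 0 0) t fun w => ih w fun s => Fast.fL (addV v s) k) n

theorem Fast.sumK_eq {α : Type} {l : ℕ} {m : List (List ℤ)} (h : ∀ b ∈ m, b.length = l) (n : ℕ) (v : List ℤ)
    (k : List ℤ → α) : Fast.sumK l (Fast.tr l m) n v k = k (sumIt l m n v) := by
  induction n generalizing v k with
  | zero => rfl
  | succ n ih =>
    refine (Fast.mpK_eq _ _ _).trans ((ih _ _).trans ((Fast.fL_eq _ _).trans ?_))
    simp only [Fast.dotF_zero]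
    rw [← Fast.lc_eq v m h]
    rfl

/-- a power of the word on the basis -/
theorem Fast.pw {l : ℕ} {A : List (List ℤ)} {L : List (Fin l)} {n : ℕ} (t : ℕ → List ℤ)
    (h : (Fast.fW (L.map Fin.val) fun W => Fast.fM (Fast.rws A L) fun R => Fast.pwF l W R n t) = true) (i : Fin l) :
    acn A L n (bas l i) = t i := by
  rw [Fast.fW_eq, Fast.fM_eq] at h
  exact Fast.pwF_spec A L h i

/-- the powers of the word -/
noncomputable def Fast.wdF {l : ℕ} (A : List (List ℤ)) (L : List (Fin l)) (k N : ℕ) (m : List (List ℤ)) : Bool :=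
  decide (m.length = l ∧ (∀ b ∈ m, b.length = l)) && Fast.fW (L.map Fin.val) fun W => Fast.fM (Fast.rws A L) fun R =>
    Fast.pwF l W R k (fun i => m.getD i []) && Fast.pwF l W R (k * N) (bas l)

theorem Fast.wdF_spec {l : ℕ} {A : List (List ℤ)} {L : List (Fin l)} {k N : ℕ} {m : List (List ℤ)}
    (h : Fast.wdF A L k N m = true) : (m.length = l ∧ (∀ b ∈ m, b.length = l)) ∧
      (∀ i : Fin l, acn A L k (bas l i) = m.getD i []) ∧ ∀ i : Fin l, acn A L (k * N) (bas l i) = bas l i := by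
  rw [Fast.wdF, Fast.fW_eq, Fast.fM_eq, Bool.and_eq_true, Bool.and_eq_true] at h
  exact ⟨of_decide_eq_true h.1, Fast.pwF_spec A L h.2.1, Fast.pwF_spec A L h.2.2⟩

theorem Fast.sum {l : ℕ} {A : List (List ℤ)} {L : List (Fin l)} {k N : ℕ} {m : List (List ℤ)}
    (h : (Fast.wdF A L k N m && Fast.fM (Fast.tr l m) fun t => (List.range l).all fun i => Fast.fL (bas l i) fun v =>
      Fast.sumK l t N v fun s => decide (s = List.replicate l 0)) = true) : SumCk l A L k N m := by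
  rw [Bool.and_eq_true, Fast.fM_eq, List.all_eq_true] at h
  obtain ⟨h1, h2, h3⟩ := Fast.wdF_spec h.1
  refine ⟨h1, h2, h3, fun i => ?_⟩
  have h4 := h.2 i (List.mem_range.2 i.2)
  rw [Fast.fL_eq, Fast.sumK_eq h1.2] at h4
  exact of_decide_eq_true h4

noncomputable instance decSumCk (l : ℕ) (Al : List (List ℤ)) (word : List (Fin l)) (k N : ℕ) (m : List (List ℤ)) :
    Decidable (SumCk l Al word k N m) := Fast.tryDec _ Fast.sum (by unfold SumCk; infer_instance)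

/-- the check for `not_cond_count`: `b` the functional, `C` a bound for its values on the roots -/
def CountCk (D : ChevalleyDatum) (l : ℕ) (Al : List (List ℤ)) (word : List (Fin l)) (k N : ℕ)
    (m : List (List ℤ)) (b : List ℤ) (C : ℕ) : Prop :=
  (m.length = l ∧ (∀ b ∈ m, b.length = l)) ∧ (∀ i : Fin l, acn Al word k (bas l i) = m.getD i []) ∧
  (∀ i : Fin l, acn Al word (k * N) (bas l i) = bas l i) ∧ b.length = l ∧ (∃ v ∈ rootL D l, dot b v = 1) ∧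
  (∀ v ∈ rootL D l, (dot b v).natAbs < C) ∧
  (rootL D l).countP (fun v => dot b v = 0) < (rootL D l).countP (fun v => sumIt l m N v = List.replicate l 0)

theorem Fast.count {D : ChevalleyDatum} {l : ℕ} {A : List (List ℤ)} {L : List (Fin l)} {k N : ℕ} {m : List (List ℤ)}
    {b : List ℤ} {C : ℕ}
    (h : (Fast.wdF A L k N m && Fast.fM (Fast.tr l m) fun t => Fast.fM (rootL D l) fun R =>
      decide (b.length = l ∧ (∃ v ∈ R, Fast.dotF b v 0 0 = 1) ∧ (∀ v ∈ R, (Fast.dotF b v 0 0).natAbs < C) ∧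
        R.countP (fun v => Fast.dotF b v 0 0 = 0) <
          R.countP (fun v => Fast.sumK l t N v fun s => decide (s = List.replicate l 0)))) = true) :
    CountCk D l A L k N m b C := by
  rw [Bool.and_eq_true, Fast.fM_eq, Fast.fM_eq] at h
  obtain ⟨h1, h2, h3⟩ := Fast.wdF_spec h.1
  have h4 := of_decide_eq_true h.2
  have e1 : (fun v => Fast.sumK l (Fast.tr l m) N v fun s => decide (s = List.replicate l 0)) =
      fun v => decide (sumIt l m N v = List.replicate l 0) := funext fun v => Fast.sumK_eq h1.2 _ _ _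
  have e2 : Fast.dotF b = fun v p n => Fast.dotF b v p n := rfl
  rw [e1] at h4
  simp only [Fast.dotF_zero] at h4
  exact ⟨h1, h2, h3, h4⟩

noncomputable instance decCountCk (D : ChevalleyDatum) (l : ℕ) (Al : List (List ℤ)) (word : List (Fin l)) (k N : ℕ)
    (m : List (List ℤ)) (b : List ℤ) (C : ℕ) : Decidable (CountCk D l Al word k N m b C) :=
  Fast.tryDec _ Fast.count (by unfold CountCk; infer_instance)

section Bad

variable {k' : Type u} [Field k'] {p e : ℕ} [hpF : Fact p.Prime] [CharP k' p] {σ : MulAut ↥(D.group k')}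
  {g : (Fin l → ℤ) ≃+ (Fin l → ℤ)} {X : Type v} [Group X] {e0 : X →* ↥(D.group k')} {d : ℕ}
  (S : Setup hp cs p e σ g e0 d)

theorem sum_of_ck {Al : List (List ℤ)} (hA : MatList (cartanOf D l) Al) {word : List (Fin l)} {k N : ℕ}
    {m : List (List ℤ)} (H : SumCk l Al word k N m) (x : Fin l → ℤ) :
    ∑ i ∈ Finset.range N, (rep cs hp.isCartan (cs.wordProd word ^ k) ^ i) x = 0 := by
  obtain ⟨⟨h1, h2⟩, h3, -, h4⟩ := H
  have h5 : ∑ i ∈ Finset.range N, rep cs hp.isCartan (cs.wordProd word ^ k) ^ i = 0 := by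
    apply LinearMap.pi_ext'
    intro i
    apply LinearMap.ext_ring
    show (∑ j ∈ Finset.range N, rep cs hp.isCartan (cs.wordProd word ^ k) ^ j) (Pi.single i 1) = 0
    rw [LinearMap.sum_apply, ← toFn_bas, ← toFn_sumIt h1 h2 (rep_single hp cs hA word k h3) N _ (length_bas i.1), h4 i,
      toFn_replicate]
  rw [← LinearMap.sum_apply, h5, LinearMap.zero_apply]

include S

/-- **Bad primes, first version**, from a table. -/
theorem Setup.not_cond_sum_ck [IsAlgClosed k'] [Finite W] [Finite X] {π : Set ℕ} {r s' : ℕ} (hrp : r.Prime)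
    (hsp : s'.Prime) (hr : r ∈ π) (hs' : s' ∈ π) (hrs : r ≠ s') (hrc : r ≠ p) (hrd : ¬ r ∣ d) (hr2 : r ≠ 2)
    (hsX : s' ∣ Nat.card X) {ε Q : ℤ} (hε : ε = 1 ∨ ε = -1) (hQ : Q = ε * (p ^ e : ℕ)) {word : List (Fin l)}
    {k1 k2 : ℕ} (hT : HasTor hp cs g ε (cs.wordProd word ^ k1)) {n : ℕ} (hn0 : 0 < n)
    (hw : rep cs hp.isCartan (cs.wordProd word ^ k1) ^ n = 1) (hrQ : (r : ℤ) ∣ Q ^ n - 1)
    (hreg : RegAt cs hp.isCartan (cs.wordProd word ^ k1) n r Q) {Al : List (List ℤ)}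
    (hA : MatList (cartanOf D l) Al) {m : List (List ℤ)} {j : ℕ} (H : SumCk l Al word k2 (r ^ j) m) :
    ¬ Cond π X := by
  refine S.not_cond_sum hp cs hrp hsp hr hs' hrs hrc hrd hr2 hsX hε hQ hT hn0 hw hrQ hreg
    (sW := cs.wordProd word ^ k2) (fun x => ?_) (rep_pow_eq_one hp cs hA word k2 (r ^ j) H.2.2.1) ![1] (fun x => ?_) ?_
  · rw [← Module.End.mul_apply, ← Module.End.mul_apply, ← map_mul (rep cs hp.isCartan), ← map_mul (rep cs hp.isCartan),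
      ← pow_add (cs.wordProd word), ← pow_add (cs.wordProd word), Nat.add_comm]
  · rw [Fin.sum_univ_one, Matrix.cons_val_zero, Fin.val_zero, one_smul, pow_zero, Module.End.one_apply]
    exact sum_of_ck hp cs hA H x
  · rw [Fin.sum_univ_one]
    show ¬ (s' : ℤ) ∣ 1 * Q ^ 0
    rw [pow_zero, mul_one]
    intro h
    have h1 : s' ∣ 1 := by exact_mod_cast h
    exact hsp.one_lt.ne' (Nat.dvd_one.1 h1)

/-- **Bad primes, second version**, from a table. -/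
theorem Setup.not_cond_count_ck [IsAlgClosed k'] [Finite W] [Finite X] {π : Set ℕ} {r s' : ℕ} (hrp : r.Prime)
    (hsp : s'.Prime) (hr : r ∈ π) (hs' : s' ∈ π) (hrs : r ≠ s') (hrc : r ≠ p) (hsc : s' ≠ p) (hrd : ¬ r ∣ d)
    (hsd : ¬ s' ∣ d) (hr2 : r ≠ 2) (hs2 : s' ≠ 2)
    {ε Q : ℤ} (hε : ε = 1 ∨ ε = -1) (hQ : Q = ε * (p ^ e : ℕ))
    (hT : HasTor hp cs g ε (1 : W)) (hrQ : (r : ℤ) ∣ Q - 1) (hsQ : (s' : ℤ) ∣ Q - 1)
    {Al : List (List ℤ)} (hA : MatList (cartanOf D l) Al) {word : List (Fin l)} {k : ℕ} {m : List (List ℤ)} {j : ℕ}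
    {b : List ℤ} {C : ℕ} (H : CountCk D l Al word k (r ^ j) m b C) (hsC : C ≤ s') : ¬ Cond π X := by
  obtain ⟨⟨h1, h2⟩, h3, h4, h5, ⟨v0, hv0, hv0'⟩, h6, h7⟩ := H
  have hlen : ∀ v ∈ rootL D l, v.length = l := by
    intro v hv
    obtain ⟨r, -, rfl⟩ := List.mem_map.1 hv
    rw [List.length_map, List.length_finRange]
  have hL : ∀ v ∈ rootL D l, (fn l b).toAddMonoidHom (toFn l v) = dot b v := fun v hv =>
    (dot_eq b v h5 (hlen v hv)).symm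
  refine S.not_cond_count hp cs hrp hsp hr hs' hrs hrc hsc hrd hsd hr2 hs2 hε hQ hT hrQ hsQ
    (sW := cs.wordProd word ^ k) (j := j) (rep_pow_eq_one hp cs hA word k (r ^ j) h4) (fn l b).toAddMonoidHom ?_ ?_
  · refine ⟨toFn l v0, ?_⟩
    rw [hL v0 hv0, hv0']
    intro h
    have h1 : s' ∣ 1 := by exact_mod_cast h
    exact hsp.one_lt.ne' (Nat.dvd_one.1 h1)
  · rw [ncard_root hp cs (fun a => (s' : ℤ) ∣ (fn l b).toAddMonoidHom a) (fun v => dot b v = 0) (fun v hv => ?_),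
      ncard_root hp cs (fun a => ∑ i ∈ Finset.range (r ^ j), (rep cs hp.isCartan (cs.wordProd word ^ k) ^ i) a = 0)
        (fun v => sumIt l m (r ^ j) v = List.replicate l 0) (fun v hv => ?_)]
    · exact h7
    · rw [← toFn_sumIt h1 h2 (rep_single hp cs hA word k h3) _ _ (hlen v hv), decide_eq_true_iff]
      constructor
      · intro h
        rw [h, toFn_replicate]
      · intro h
        have hl := length_sumIt h2 (r ^ j) v (hlen v hv)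
        refine List.ext_getElem (by rw [hl, List.length_replicate]) fun i hi hi' => ?_
        rw [hl] at hi
        have h8 := congrFun h ⟨i, hi⟩
        rw [List.getElem_replicate]
        have h9 : toFn l (sumIt l m (r ^ j) v) ⟨i, hi⟩ = (sumIt l m (r ^ j) v).getD i 0 := rfl
        rw [h9, List.getD_eq_getElem _ _ (by rw [hl]; exact hi)] at h8
        exact h8
    · rw [hL v hv, decide_eq_true_iff]
      constructor
      · intro h
        rw [h]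
        exact dvd_zero _
      · intro h
        have h8 := h6 v hv
        have h9 : s' ∣ (dot b v).natAbs := Int.natCast_dvd.1 h
        have h10 := Nat.eq_zero_of_dvd_of_lt h9 (by omega)
        exact Int.natAbs_eq_zero.1 h10

end Bad

end Cfsg.Agent.H630.Exc
end

-- part: H630/ExcRowsA
section
set_option linter.all false
open scoped Cfsg.Agent.FastGrp

-- part: H630/ExcTabB
section
/-!
# Tables for the bad primes (helper630; generated)
-/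

set_option autoImplicit false

namespace Cfsg.Agent.H630.Exc

open Cfsg.Agent.H130.WeylCk Cfsg.Agent.H130.PolyL Cfsg.Agent.H130.WeylTab
  Cfsg.Agent.ChevalleyStructure.CoxeterGeomTypes

theorem sum_E8_three : SumCk 8 alE8 [0, 1, 2, 3, 4, 5, 6, 7] 10 3
  [[0, 1, 1, 2, 1, 1, 1, 0], [1, 1, 2, 3, 2, 2, 1, 1], [1, 1, 1, 2, 2, 1, 1, 1], [-1, -1, -1, -2, -1, -1, -1, -1], [0, 0, -1, -1, -1, 0, 0, 0], [0, -1, 0, -1, -1, -1, 0, 0], [-1, 0, -1, -1, -1, -1, -1, 0], [0, -1, -1, -1, -1, -1, -1, -1]] := by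
  decide +kernel

theorem sum_E8_five : SumCk 8 alE8 [0, 1, 2, 3, 4, 5, 6, 7] 6 5
  [[1, 1, 2, 2, 2, 1, 1, 1], [1, 1, 2, 3, 2, 1, 1, 0], [0, 1, 1, 2, 1, 1, 0, 0], [0, 0, -1, -1, 0, 0, 0, 0], [0, -1, 0, -1, -1, 0, 0, 0], [-1, 0, -1, -1, -1, -1, 0, 0], [0, -1, -1, -1, -1, -1, -1, 0], [-1, -1, -1, -2, -1, -1, -1, -1]] := by
  decide +kernel

theorem sum_E8_five4 : SumCk 8 alE8 [3, 6, 5, 0, 7, 1, 2, 4, 0, 3, 4, 2, 5, 4] 4 5
  [[1, 2, 3, 4, 3, 2, 1, 0], [0, 1, 1, 2, 2, 1, 1, 1], [-1, -1, -2, -2, -2, -1, -1, 0], [1, 1, 1, 1, 1, 1, 1, 0], [0, -1, 0, 0, 0, 0, 0, 0], [-2, -2, -3, -5, -4, -3, -2, -1], [2, 2, 3, 4, 3, 2, 1, 1], [-1, -1, -2, -2, -1, -1, -1, -1]] := by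
  decide +kernel

theorem sum_E6_three : SumCk 6 alE6 [0, 1, 2, 3, 4, 5] 4 3
  [[0, 1, 1, 1, 1, 1], [0, 0, 1, 1, 1, 0], [0, 0, 0, 1, 0, 0], [0, 0, -1, -1, 0, 0], [0, -1, 0, -1, -1, 0], [-1, 0, -1, -1, -1, -1]] := by
  decide +kernel

theorem sum_F4_three : SumCk 4 alF4 [0, 1, 2, 3] 4 3
  [[0, 1, 1, 0], [1, 1, 1, 1], [-2, -2, -2, -1], [0, -2, -1, -1]] := by
  decide +kernel

theorem sum_G2_three : SumCk 2 alG2 [0, 1] 2 3
  [[1, 1], [-3, -2]] := by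
  decide +kernel

theorem count_E8_seven : CountCk Cfsg.Lie.chevE8 8 alE8 [0, 2, 3, 4, 5, 6] 1 7
  [[0, 0, 1, 0, 0, 0, 0, 0], [1, 1, 1, 1, 0, 0, 0, 0], [0, 0, 0, 1, 0, 0, 0, 0], [0, 0, 0, 0, 1, 0, 0, 0], [0, 0, 0, 0, 0, 1, 0, 0], [0, 0, 0, 0, 0, 0, 1, 0], [-1, 0, -1, -1, -1, -1, -1, 0], [1, 0, 1, 1, 1, 1, 1, 1]]
  [0, 0, 0, 1, 0, 0, 0, 0] 7 := by
  decide +kernel

theorem count_E7_three : CountCk Cfsg.Lie.chevE7 7 alE7 [0, 1, 2, 3, 4, 5, 6] 6 3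
  [[0, 0, 1, 1, 1, 0, 0], [1, 1, 1, 2, 2, 1, 1], [0, 1, 0, 1, 1, 1, 0], [0, -1, 0, -1, -1, 0, 0], [-1, 0, -1, -1, -1, -1, 0], [0, -1, -1, -1, -1, -1, -1], [0, 0, 0, -1, 0, 0, 0]]
  [1, 0, 0, 0, 0, 0, 0] 3 := by
  decide +kernel

theorem count_E7_five : CountCk Cfsg.Lie.chevE7 7 alE7 [0, 2, 3, 4] 1 5
  [[0, 0, 1, 0, 0, 0, 0], [1, 1, 1, 1, 0, 0, 0], [0, 0, 0, 1, 0, 0, 0], [0, 0, 0, 0, 1, 0, 0], [-1, 0, -1, -1, -1, 0, 0], [1, 0, 1, 1, 1, 1, 0], [0, 0, 0, 0, 0, 0, 1]]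
  [1, 0, 0, 1, 0, 0, 0] 7 := by
  decide +kernel

theorem count_E7_seven : CountCk Cfsg.Lie.chevE7 7 alE7 [0, 2, 3, 4, 5, 6] 1 7
  [[0, 0, 1, 0, 0, 0, 0], [1, 1, 1, 1, 0, 0, 0], [0, 0, 0, 1, 0, 0, 0], [0, 0, 0, 0, 1, 0, 0], [0, 0, 0, 0, 0, 1, 0], [0, 0, 0, 0, 0, 0, 1], [-1, 0, -1, -1, -1, -1, -1]]
  [0, 0, 0, 1, 0, 0, 0] 5 := by
  decide +kernel

theorem count_E6_five : CountCk Cfsg.Lie.chevE6 6 alE6 [0, 2, 3, 4] 1 5
  [[0, 0, 1, 0, 0, 0], [1, 1, 1, 1, 0, 0], [0, 0, 0, 1, 0, 0], [0, 0, 0, 0, 1, 0], [-1, 0, -1, -1, -1, 0], [1, 0, 1, 1, 1, 1]]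
  [0, 0, 0, 1, 0, 0] 4 := by
  decide +kernel

theorem neg_E8 : ∀ i : Fin 8, acn alE8 ([0, 1, 2, 3, 4, 5, 6, 7] : List (Fin 8)) 15 (bas 8 i) = (bas 8 i).map (fun x => -1 * x) :=
  Fast.pw (fun i => (bas 8 i).map (fun x => -1 * x)) (by decide +kernel)

theorem neg_E7 : ∀ i : Fin 7, acn alE7 ([0, 1, 2, 3, 4, 5, 6] : List (Fin 7)) 9 (bas 7 i) = (bas 7 i).map (fun x => -1 * x) :=
  Fast.pw (fun i => (bas 7 i).map (fun x => -1 * x)) (by decide +kernel)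

theorem neg_F4 : ∀ i : Fin 4, acn alF4 ([0, 1, 2, 3] : List (Fin 4)) 6 (bas 4 i) = (bas 4 i).map (fun x => -1 * x) := by
  decide +kernel

theorem neg_G2 : ∀ i : Fin 2, acn alG2 ([0, 1] : List (Fin 2)) 3 (bas 2 i) = (bas 2 i).map (fun x => -1 * x) := by
  decide +kernel

end Cfsg.Agent.H630.Exc
end

-- part: H630/ExcRowsA
section
/-!
# The rows of `G₂`, `F₄`, `E₈` in cross characteristic (helper630)
-/

set_option autoImplicit false
set_option linter.unusedSectionVars false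
set_option linter.unusedVariables false

namespace Cfsg.Agent.H630.Exc

open CoxeterSystem Cfsg Cfsg.Lie Cfsg.Lie.ChevalleyDatum
open Cfsg.Agent.ChevalleyStructure Cfsg.Agent.ChevalleyStructure.Elts Cfsg.Agent.ChevalleyStructure.CoxeterGeom
  Cfsg.Agent.ChevalleyStructure.CoxeterGeomTypes Cfsg.Agent.ChevalleyStructure.NPerm
open Cfsg.Agent.Tits.Roots Cfsg.Agent.Tits.Core Cfsg.Agent.Nodes Cfsg.Agent.Nodes.Reps Cfsg.Agent.Nodes.BNOf
  Cfsg.Agent.Nodes.RGDChev Cfsg.Agent.Nodes.Bruhat Cfsg.Agent.Nodes.SubComb Cfsg.Agent.Nodes.Coroot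
open Cfsg.Agent.KFacts.RgdField Cfsg.Agent.KFacts.RgdChevCoord Cfsg.Agent.BpExc.TorCent Cfsg.Agent.BpExc.TorChev
open Cfsg.Agent.GpExc.Field Cfsg.Agent.BpExc.Tow Cfsg.Agent.BpExc.TowChev Cfsg.Agent.BpExc.Fr
  Cfsg.Agent.BpExc.LangFr Cfsg.Agent.LangThm Cfsg.Agent.BpExc Cfsg.Agent.H129.TorusChar Cfsg.Agent.H129.TorusMain
open Cfsg.Agent.H630.NH Cfsg.Agent.H130.WeylCk Cfsg.Agent.H130.PolyL Cfsg.Agent.H130.WeylTab

universe u v

section Bad

variable {D : ChevalleyDatum} {l : ℕ} {M : CoxeterMatrix (Fin l)} (hp : IsType D l M)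
  {W : Type*} [Group W] (cs : CoxeterSystem M W)
variable {k' : Type u} [Field k'] {p e : ℕ} [hpF : Fact p.Prime] [CharP k' p] {σ : MulAut ↥(D.group k')}
  {g : (Fin l → ℤ) ≃+ (Fin l → ℤ)} {X : Type v} [Group X] {e0 : X →* ↥(D.group k')} {d : ℕ}
  (S : Setup hp cs p e σ g e0 d)

/-- replace `Q` by `-Q` -/
theorem exists_eps {ε Q : ℤ} (hε : ε = 1 ∨ ε = -1) (hQ : Q = ε * (p ^ e : ℕ)) {r : ℕ} (hr : r.Prime) {n : ℕ}
    (hn : orderOf (Q : ZMod r) = n) (h12 : n = 1 ∨ n = 2) : ∃ ε' Q' : ℤ, (ε' = 1 ∨ ε' = -1) ∧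
      Q' = ε' * (p ^ e : ℕ) ∧ (r : ℤ) ∣ Q' - 1 ∧ ∀ s : ℕ, s.Prime → orderOf (Q : ZMod s) = n → (s : ℤ) ∣ Q' - 1 := by
  have h1 : ∃ ε' Q' : ℤ, (ε' = 1 ∨ ε' = -1) ∧
      Q' = ε' * (p ^ e : ℕ) ∧ ∀ s : ℕ, s.Prime → orderOf (Q : ZMod s) = n → (s : ℤ) ∣ Q' - 1 := by
    rcases h12 with rfl | rfl
    · refine ⟨ε, Q, hε, hQ, fun s _ h => ?_⟩
      have := (dvd_pow_sub_one_iff (r := s) (Q := Q) 1).2 (by rw [h])
      rwa [pow_one] at this
    · refine ⟨-ε, -Q, by rcases hε with rfl | rfl <;> simp, by rw [hQ]; ring, fun s hs h => ?_⟩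
      have h1 := order_neg hs (n := 1) h (by norm_num) one_pos
      have := (dvd_pow_sub_one_iff (r := s) (Q := -Q) 1).2 (by rw [h1])
      rwa [pow_one] at this
  obtain ⟨ε', Q', h2, h3, h4⟩ := h1
  exact ⟨ε', Q', h2, h3, h4 r hr hn, h4⟩

include S

/-- **Bad primes, order at most two, first version.** -/
theorem Setup.bad_sum12 [IsAlgClosed k'] [Finite W] [Finite X]
    (hT : ∀ ε : ℤ, ε = 1 ∨ ε = -1 → ∀ w1, HasTor hp cs g ε w1) {π : Set ℕ} {r s' : ℕ} (hrp : r.Prime)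
    (hsp : s'.Prime) (hr : r ∈ π) (hs' : s' ∈ π) (hrs : r ≠ s') (hrc : r ≠ p) (hrd : ¬ r ∣ d) (hr2 : r ≠ 2)
    (hsX : s' ∣ Nat.card X) {ε Q : ℤ} (hε : ε = 1 ∨ ε = -1) (hQ : Q = ε * (p ^ e : ℕ))
    (h12 : orderOf (Q : ZMod r) = 1 ∨ orderOf (Q : ZMod r) = 2) {word : List (Fin l)} {k2 : ℕ} {Al : List (List ℤ)}
    (hA : MatList (cartanOf D l) Al) {m : List (List ℤ)} {j : ℕ} (H : SumCk l Al word k2 (r ^ j) m) :
    ¬ Cond π X := by
  obtain ⟨ε', Q', hε', hQ', hrQ, -⟩ := exists_eps hε hQ hrp rfl h12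
  refine S.not_cond_sum_ck hp cs hrp hsp hr hs' hrs hrc hrd hr2 hsX hε' hQ' (k1 := 0) (hT ε' hε' _) one_pos ?_
    (by rw [pow_one]; exact hrQ) ?_ hA H
  · rw [pow_zero, map_one, one_pow]
  · rw [pow_zero]
    exact regAt_one hp cs hrp (not_dvd_Q Fact.out hrp hrc hε' hQ')

/-- **Bad primes, order at most two, second version.** -/
theorem Setup.bad_count12 [IsAlgClosed k'] [Finite W] [Finite X]
    (hT : ∀ ε : ℤ, ε = 1 ∨ ε = -1 → ∀ w1, HasTor hp cs g ε w1) {π : Set ℕ} {r s' : ℕ} (hrp : r.Prime)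
    (hsp : s'.Prime) (hr : r ∈ π) (hs' : s' ∈ π) (hrs : r ≠ s') (hrc : r ≠ p) (hsc : s' ≠ p) (hrd : ¬ r ∣ d)
    (hsd : ¬ s' ∣ d) (hr2 : r ≠ 2) (hs2 : s' ≠ 2) {ε Q : ℤ} (hε : ε = 1 ∨ ε = -1) (hQ : Q = ε * (p ^ e : ℕ))
    (h12 : orderOf (Q : ZMod r) = 1 ∨ orderOf (Q : ZMod r) = 2) (hsame : orderOf (Q : ZMod r) = orderOf (Q : ZMod s'))
    {Al : List (List ℤ)} (hA : MatList (cartanOf D l) Al) {word : List (Fin l)} {k : ℕ} {m : List (List ℤ)} {j : ℕ}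
    {b : List ℤ} {C : ℕ} (H : CountCk D l Al word k (r ^ j) m b C) (hsC : C ≤ s') : ¬ Cond π X := by
  obtain ⟨ε', Q', hε', hQ', hrQ, hQs⟩ := exists_eps hε hQ hrp rfl h12
  exact S.not_cond_count_ck hp cs hrp hsp hr hs' hrs hrc hsc hrd hsd hr2 hs2 hε' hQ' (hT ε' hε' _) hrQ
    (hQs s' hsp hsame.symm) hA H hsC

end Bad

/-- the product of the `q^i - 1` -/
theorem natAbs_prod (q : ℕ) (hq : 0 < q) (degs : List ℕ) :
    ((degs.map (fun i => ((q : ℕ) : ℤ) ^ i - 1)).prod).natAbs = (degs.map (fun i => q ^ i - 1)).prod := by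
  induction degs with
  | nil => rfl
  | cons i L ih =>
    rw [List.map_cons, List.prod_cons, List.map_cons, List.prod_cons, Int.natAbs_mul, ih]
    congr 1
    have h1 : 1 ≤ q ^ i := Nat.one_le_pow _ _ hq
    have h2 : ((q : ℕ) : ℤ) ^ i - 1 = ((q ^ i - 1 : ℕ) : ℤ) := by push_cast [Nat.cast_sub h1]; ring
    rw [h2, Int.natAbs_natCast]

theorem e8T : IsType chevE8 8 CoxeterMatrix.E₈ := by simp [IsType, typeList]
theorem f4T : IsType chevF4 4 CoxeterMatrix.F₄ := by simp [IsType, typeList]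
theorem g2T : IsType chevG2 2 CoxeterMatrix.G₂ := by simp [IsType, typeList]

/-! ### type `E₈` -/

theorem key_E8 : ∀ i ∈ [2, 8, 12, 14, 18, 20, 24, 30], ∀ r < 31, ∀ n < 31,
    (r ∣ i ∧ r.Prime ∧ r ≠ 2 ∧ n ∣ i ∧ n ∣ r - 1) →
      ((n = 1 ∨ n = 2) ∧ (r = 3 ∨ r = 5 ∨ r = 7)) ∨ (r = 5 ∧ n = 4) :=
  fun i hi r hr n hn h => (by decide +kernel : ∀ i ∈ [2, 8, 12, 14, 18, 20, 24, 30], ∀ r < 31, r ∣ i ∧ r.Prime ∧ r ≠ 2 →
    ∀ n < 31, n ∣ i ∧ n ∣ r - 1 → ((n = 1 ∨ n = 2) ∧ (r = 3 ∨ r = 5 ∨ r = 7)) ∨ (r = 5 ∧ n = 4))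
    i hi r hr ⟨h.1, h.2.1, h.2.2.1⟩ n hn h.2.2.2

theorem lt_E8 : ∀ i ∈ [2, 8, 12, 14, 18, 20, 24, 30], 0 < i ∧ i < 31 := by decide

theorem small_prime : ∀ s < 7, s.Prime → s = 2 ∨ s = 3 ∨ s = 5 := by decide +kernel

theorem idx_E8 : ∀ n ∈ [1, 2, 3, 4, 5, 6, 7, 8, 9, 10, 12, 14, 15, 18, 20, 24, 30], 0 < n ∧ n ∈ H130.PolyL.idx := by
  decide

section E8

variable {W : Type*} [Group W] (cs : CoxeterSystem CoxeterMatrix.E₈ W)
variable {k' : Type u} [Field k'] {p e : ℕ} [hpF : Fact p.Prime] [CharP k' p] {σ : MulAut ↥(chevE8.group k')}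
  {X : Type v} [Group X] {e0 : X →* ↥(chevE8.group k')}

theorem hasTor_E8 (ε : ℤ) (hε : ε = 1 ∨ ε = -1) (w1 : W) : HasTor e8T cs (AddEquiv.refl (Fin 8 → ℤ)) ε w1 :=
  hasTor_all e8T cs (rep_neg_of e8T cs lists_E8 _ 15 neg_E8) hε w1

variable (S : Setup e8T cs p e σ (AddEquiv.refl (Fin 8 → ℤ)) e0 1)

include S

theorem reg_E8 [IsAlgClosed k'] [Finite W] [Finite X] {Q : ℤ} (hQ : Q = 1 * (p ^ e : ℕ)) :
    ∀ n ∈ [1, 2, 3, 6, 4, 5, 10, 8], RegE X p 1 Q n := by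
  have h1 : (1 : ℤ) = 1 ∨ (1 : ℤ) = -1 := Or.inl rfl
  have h2 : (-1 : ℤ) = 1 ∨ (-1 : ℤ) = -1 := Or.inr rfl
  have hT1 := hasTor_E8 cs 1 h1
  have hT2 := hasTor_E8 cs (-1) h2
  intro n hn
  simp only [List.mem_cons, List.not_mem_nil, or_false] at hn
  rcases hn with rfl | rfl | rfl | rfl | rfl | rfl | rfl | rfl
  · exact S.regE_one e8T cs h1 hQ hT1
  · exact S.regE_two e8T cs h1 hQ hT2
  · exact S.regE_ck e8T cs h1 hQ hT1 lists_E8 reg_E8_3 (by decide) (by decide) (by decide +kernel)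
  · exact S.regE_ck_neg e8T cs h1 hQ hT2 lists_E8 reg_E8_3 (by decide) (by decide) (by decide) (by decide)
      (by decide +kernel)
  · exact S.regE_ck e8T cs h1 hQ hT1 lists_E8 reg_E8_4 (by decide) (by decide) (by decide +kernel)
  · exact S.regE_ck e8T cs h1 hQ hT1 lists_E8 reg_E8_5 (by decide) (by decide) (by decide +kernel)
  · exact S.regE_ck_neg e8T cs h1 hQ hT2 lists_E8 reg_E8_5 (by decide) (by decide) (by decide) (by decide)
      (by decide +kernel)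
  · exact S.regE_ck e8T cs h1 hQ hT1 lists_E8 reg_E8_8 (by decide) (by decide) (by decide +kernel)

theorem bad_E8_four [IsAlgClosed k'] [Finite W] [Finite X] {Q : ℤ} (hQ : Q = 1 * (p ^ e : ℕ)) {π : Set ℕ} {s : ℕ}
    (hr : (5 : ℕ).Prime) (hs : s.Prime) (hrπ : 5 ∈ π) (hsπ : s ∈ π) (hrs : 5 ≠ s) (hrp : 5 ≠ p)
    (hrd : ¬ 5 ∣ 1) (hsX : s ∣ Nat.card X) (hn : orderOf (Q : ZMod 5) = 4) : ¬ Cond π X := by
  have h1 : (1 : ℤ) = 1 ∨ (1 : ℤ) = -1 := Or.inl rfl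
  have hQr := not_dvd_Q (p := p) (e := e) Fact.out hr hrp h1 hQ
  have hreg := regAt_of_ck' e8T cs lists_E8 reg_E8_4 (by decide) (by decide) (by decide +kernel) hr (by norm_num) hQr hn
  have hw := rep_pow_eq_one e8T cs lists_E8 _ 5 4 reg_E8_4.2.2.1
  exact S.not_cond_sum_ck e8T cs hr hs hrπ hsπ hrs hrp hrd (by norm_num) hsX h1 hQ (hasTor_E8 cs 1 h1 _)
    (by norm_num) hw ((dvd_pow_sub_one_iff 4).2 (by rw [hn])) hreg lists_E8 (j := 1) sum_E8_five4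

theorem bad_E8 [IsAlgClosed k'] [Finite W] [Finite X] {Q : ℤ} (hQ : Q = 1 * (p ^ e : ℕ)) (π : Set ℕ) (r s : ℕ)
    (hr : r.Prime) (hs : s.Prime) (hrπ : r ∈ π) (hsπ : s ∈ π) (hrs : r ≠ s) (hr2 : r ≠ 2) (hs2 : s ≠ 2)
    (hrp : r ≠ p) (hsp : s ≠ p) (hrd : ¬ r ∣ 1) (hsd : ¬ s ∣ 1) (hrX : r ∣ Nat.card X) (hsX : s ∣ Nat.card X)
    (hsame : orderOf (Q : ZMod r) = orderOf (Q : ZMod s))
    (hbad : ∃ i ∈ [2, 8, 12, 14, 18, 20, 24, 30], orderOf (Q : ZMod r) ∣ i ∧ r ∣ i) : ¬ Cond π X := by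
  have h1 : (1 : ℤ) = 1 ∨ (1 : ℤ) = -1 := Or.inl rfl
  have hT := hasTor_E8 cs
  obtain ⟨i, hi, hni, hri⟩ := hbad
  have hQr := not_dvd_Q (p := p) (e := e) Fact.out hr hrp h1 hQ
  have hn1 := ord_dvd hr hQr
  have hi30 := lt_E8 i hi
  have hr31 := lt_of_le_of_lt (Nat.le_of_dvd hi30.1 hri) hi30.2
  have hn31 := lt_of_le_of_lt (Nat.le_of_dvd hi30.1 hni) hi30.2
  rcases key_E8 i hi r hr31 _ hn31 ⟨hri, hr, hr2, hni, hn1⟩ with ⟨h12, hr'⟩ | ⟨hr', hn4⟩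
  · have h12s := h12
    rw [hsame] at h12s
    by_cases hr3 : r = 3
    · subst hr3
      exact S.bad_sum12 e8T cs hT hr hs hrπ hsπ hrs hrp hrd hr2 hsX h1 hQ h12 lists_E8 (j := 1) sum_E8_three
    by_cases hs3 : s = 3
    · subst hs3
      exact S.bad_sum12 e8T cs hT hs hr hsπ hrπ hrs.symm hsp hsd hs2 hrX h1 hQ h12s lists_E8 (j := 1) sum_E8_three
    by_cases hr5 : r = 5
    · subst hr5
      exact S.bad_sum12 e8T cs hT hr hs hrπ hsπ hrs hrp hrd hr2 hsX h1 hQ h12 lists_E8 (j := 1) sum_E8_five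
    by_cases hs5 : s = 5
    · subst hs5
      exact S.bad_sum12 e8T cs hT hs hr hsπ hrπ hrs.symm hsp hsd hs2 hrX h1 hQ h12s lists_E8 (j := 1) sum_E8_five
    obtain rfl : r = 7 := by (clear * - hr' hr3 hr5; tauto)
    refine S.bad_count12 e8T cs hT hr hs hrπ hsπ hrs hrp hsp hrd hsd hr2 hs2 h1 hQ h12 hsame lists_E8 (j := 1)
      count_E8_seven ?_
    by_contra hcon
    have := small_prime s (by omega) hs
    (clear * - hs2 hs3 hs5 this; tauto)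
  · subst hr'
    exact bad_E8_four cs S hQ hr hs hrπ hsπ hrs hrp hrd hsX hn4

end E8

/-- **Type `E₈`.** -/
theorem crossRow_E8 (r : ℕ) [Fact r.Prime] (F : Type u) [Field F] [Fintype F] [CharP F r] :
    CrossRow r ↥(chevE8.group F) := by
  obtain ⟨k, _, _, f, p, hpp, hkp, e, hk, hka, he0, hcF⟩ := H378.TorFin.exists_closure F
  have hkr : CharP k r := charP_of_injective_ringHom f.injective r
  obtain rfl : r = p := CharP.eq k hkr hkp
  have cs := CoxeterMatrix.E₈.toCoxeterSystem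
  have hW := finite_W e8T cs
  have hcF' : Fintype.card F = r ^ e := by rw [← Nat.card_eq_fintype_card, hcF]
  have hd1 : Nat.gcd 1 (Nat.card F - 1) = 1 := Nat.gcd_one_left _
  have S := setup_untw e8T cs hk f he0 hcF' invC_E8 one_ne_zero
  rw [hd1] at S
  have h1 : (1 : ℤ) = 1 ∨ (1 : ℤ) = -1 := Or.inl rfl
  have hQ : ((r ^ e : ℕ) : ℤ) = 1 * (r ^ e : ℕ) := (one_mul _).symm
  have hcard : 1 * Nat.card ↥(chevE8.group F) = (r ^ e) ^ 120 *
      (([2, 8, 12, 14, 18, 20, 24, 30].map (fun i => ((r ^ e : ℕ) : ℤ) ^ i - 1)).prod).natAbs := by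
    rw [natAbs_prod _ (pow_pos hpp.out.pos _), one_mul, S1065.result hcF']
    simp only [List.map_cons, List.map_nil, List.prod_cons, List.prod_nil, mul_one]
    ring
  refine S.crossRow_of e8T cs hka h1 hQ (degs := [2, 8, 12, 14, 18, 20, 24, 30])
    (es := [1, 2, 3, 4, 5, 6, 7, 8, 9, 10, 12, 14, 15, 18, 20, 24, 30]) (by decide +kernel) hcard
    (H := [1, 2, 3, 6, 4, 5, 10, 8]) (reg_E8 cs S hQ) (Sp := fun _ _ => False) (by decide +kernel) ?_ ?_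
    (bad_E8 cs S hQ) ?_
  · rintro π r s - - - - - - - - - - - - - h
    exact h.elim
  · intro π r s hr _ _ _ _ _ _ _ _ hd
    exact absurd (Nat.dvd_one.1 hd) hr.one_lt.ne'
  · intro n hn π hπ _
    exact S.pos_of_hasF e8T cs h1 lists_E8 (hasTor_E8 cs 1 h1) hQ (idx_E8 n hn).1 (idx_E8 n hn).2 (hasF_E8 n hn)
      hcard hπ

/-! ### type `F₄` -/

theorem key_F4 : ∀ i ∈ [2, 6, 8, 12], ∀ r < 13, ∀ n < 13,
    (r ∣ i ∧ r.Prime ∧ r ≠ 2 ∧ n ∣ i ∧ n ∣ r - 1) → (n = 1 ∨ n = 2) ∧ r = 3 := by decide +kernel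

theorem lt_F4 : ∀ i ∈ [2, 6, 8, 12], 0 < i ∧ i < 13 := by decide

theorem idx_F4 : ∀ n ∈ [1, 2, 3, 4, 6, 8, 12], 0 < n ∧ n ∈ H130.PolyL.idx := by decide

section F4

variable {W : Type*} [Group W] (cs : CoxeterSystem CoxeterMatrix.F₄ W)
variable {k' : Type u} [Field k'] {p e : ℕ} [hpF : Fact p.Prime] [CharP k' p] {σ : MulAut ↥(chevF4.group k')}
  {X : Type v} [Group X] {e0 : X →* ↥(chevF4.group k')}

theorem hasTor_F4 (ε : ℤ) (hε : ε = 1 ∨ ε = -1) (w1 : W) : HasTor f4T cs (AddEquiv.refl (Fin 4 → ℤ)) ε w1 :=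
  hasTor_all f4T cs (rep_neg_of f4T cs lists_F4 _ 6 neg_F4) hε w1

variable (S : Setup f4T cs p e σ (AddEquiv.refl (Fin 4 → ℤ)) e0 1)

include S

theorem reg_F4 [IsAlgClosed k'] [Finite W] [Finite X] {Q : ℤ} (hQ : Q = 1 * (p ^ e : ℕ)) :
    ∀ n ∈ [1, 2, 3, 6, 4], RegE X p 1 Q n := by
  have h1 : (1 : ℤ) = 1 ∨ (1 : ℤ) = -1 := Or.inl rfl
  have h2 : (-1 : ℤ) = 1 ∨ (-1 : ℤ) = -1 := Or.inr rfl
  have hT1 := hasTor_F4 cs 1 h1
  have hT2 := hasTor_F4 cs (-1) h2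
  intro n hn
  simp only [List.mem_cons, List.not_mem_nil, or_false] at hn
  rcases hn with rfl | rfl | rfl | rfl | rfl
  · exact S.regE_one f4T cs h1 hQ hT1
  · exact S.regE_two f4T cs h1 hQ hT2
  · exact S.regE_ck f4T cs h1 hQ hT1 lists_F4 reg_F4_3 (by decide) (by decide) (by decide +kernel)
  · exact S.regE_ck_neg f4T cs h1 hQ hT2 lists_F4 reg_F4_3 (by decide) (by decide) (by decide) (by decide)
      (by decide +kernel)
  · exact S.regE_ck f4T cs h1 hQ hT1 lists_F4 reg_F4_4 (by decide) (by decide) (by decide +kernel)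

theorem bad_F4 [IsAlgClosed k'] [Finite W] [Finite X] {Q : ℤ} (hQ : Q = 1 * (p ^ e : ℕ)) (π : Set ℕ) (r s : ℕ)
    (hr : r.Prime) (hs : s.Prime) (hrπ : r ∈ π) (hsπ : s ∈ π) (hrs : r ≠ s) (hr2 : r ≠ 2) (hs2 : s ≠ 2)
    (hrp : r ≠ p) (hsp : s ≠ p) (hrd : ¬ r ∣ 1) (hsd : ¬ s ∣ 1) (hrX : r ∣ Nat.card X) (hsX : s ∣ Nat.card X)
    (hsame : orderOf (Q : ZMod r) = orderOf (Q : ZMod s))
    (hbad : ∃ i ∈ [2, 6, 8, 12], orderOf (Q : ZMod r) ∣ i ∧ r ∣ i) : ¬ Cond π X := by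
  have h1 : (1 : ℤ) = 1 ∨ (1 : ℤ) = -1 := Or.inl rfl
  have hT := hasTor_F4 cs
  obtain ⟨i, hi, hni, hri⟩ := hbad
  have hQr := not_dvd_Q (p := p) (e := e) Fact.out hr hrp h1 hQ
  have hn1 := ord_dvd hr hQr
  have hi30 := lt_F4 i hi
  have hr31 := lt_of_le_of_lt (Nat.le_of_dvd hi30.1 hri) hi30.2
  have hn31 := lt_of_le_of_lt (Nat.le_of_dvd hi30.1 hni) hi30.2
  obtain ⟨h12, hr'⟩ := key_F4 i hi r hr31 _ hn31 ⟨hri, hr, hr2, hni, hn1⟩
  subst hr'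
  exact S.bad_sum12 f4T cs hT hr hs hrπ hsπ hrs hrp hrd hr2 hsX h1 hQ h12 lists_F4 (j := 1) sum_F4_three

end F4

/-- **Type `F₄`.** -/
theorem crossRow_F4 (r : ℕ) [Fact r.Prime] (F : Type u) [Field F] [Fintype F] [CharP F r] :
    CrossRow r ↥(chevF4.group F) := by
  obtain ⟨k, _, _, f, p, hpp, hkp, e, hk, hka, he0, hcF⟩ := H378.TorFin.exists_closure F
  have hkr : CharP k r := charP_of_injective_ringHom f.injective r
  obtain rfl : r = p := CharP.eq k hkr hkp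
  have cs := CoxeterMatrix.F₄.toCoxeterSystem
  have hW := finite_W f4T cs
  have hcF' : Fintype.card F = r ^ e := by rw [← Nat.card_eq_fintype_card, hcF]
  have hd1 : Nat.gcd 1 (Nat.card F - 1) = 1 := Nat.gcd_one_left _
  have S := setup_untw f4T cs hk f he0 hcF' invC_F4 one_ne_zero
  rw [hd1] at S
  have h1 : (1 : ℤ) = 1 ∨ (1 : ℤ) = -1 := Or.inl rfl
  have hQ : ((r ^ e : ℕ) : ℤ) = 1 * (r ^ e : ℕ) := (one_mul _).symm
  have hcard : 1 * Nat.card ↥(chevF4.group F) = (r ^ e) ^ 24 *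
      (([2, 6, 8, 12].map (fun i => ((r ^ e : ℕ) : ℤ) ^ i - 1)).prod).natAbs := by
    rw [natAbs_prod _ (pow_pos hpp.out.pos _), one_mul, S1062.result hcF']
    simp only [List.map_cons, List.map_nil, List.prod_cons, List.prod_nil, mul_one]
    ring
  refine S.crossRow_of f4T cs hka h1 hQ (degs := [2, 6, 8, 12])
    (es := [1, 2, 3, 4, 6, 8, 12]) (by decide +kernel) hcard
    (H := [1, 2, 3, 6, 4]) (reg_F4 cs S hQ) (Sp := fun _ _ => False) (by decide +kernel) ?_ ?_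
    (bad_F4 cs S hQ) ?_
  · rintro π r s - - - - - - - - - - - - - h
    exact h.elim
  · intro π r s hr _ _ _ _ _ _ _ _ hd
    exact absurd (Nat.dvd_one.1 hd) hr.one_lt.ne'
  · intro n hn π hπ _
    exact S.pos_of_hasF f4T cs h1 lists_F4 (hasTor_F4 cs 1 h1) hQ (idx_F4 n hn).1 (idx_F4 n hn).2 (hasF_F4 n hn)
      hcard hπ

/-! ### type `G₂` -/

theorem key_G2 : ∀ i ∈ [2, 6], ∀ r < 7, ∀ n < 7,
    (r ∣ i ∧ r.Prime ∧ r ≠ 2 ∧ n ∣ i ∧ n ∣ r - 1) → (n = 1 ∨ n = 2) ∧ r = 3 := by decide +kernel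

theorem lt_G2 : ∀ i ∈ [2, 6], 0 < i ∧ i < 7 := by decide

theorem idx_G2 : ∀ n ∈ [1, 2, 3, 6], 0 < n ∧ n ∈ H130.PolyL.idx := by decide

section G2

variable {W : Type*} [Group W] (cs : CoxeterSystem CoxeterMatrix.G₂ W)
variable {k' : Type u} [Field k'] {p e : ℕ} [hpF : Fact p.Prime] [CharP k' p] {σ : MulAut ↥(chevG2.group k')}
  {X : Type v} [Group X] {e0 : X →* ↥(chevG2.group k')}

theorem hasTor_G2 (ε : ℤ) (hε : ε = 1 ∨ ε = -1) (w1 : W) : HasTor g2T cs (AddEquiv.refl (Fin 2 → ℤ)) ε w1 :=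
  hasTor_all g2T cs (rep_neg_of g2T cs lists_G2 _ 3 neg_G2) hε w1

variable (S : Setup g2T cs p e σ (AddEquiv.refl (Fin 2 → ℤ)) e0 1)

include S

theorem reg_G2 [IsAlgClosed k'] [Finite W] [Finite X] {Q : ℤ} (hQ : Q = 1 * (p ^ e : ℕ)) :
    ∀ n ∈ [1, 2], RegE X p 1 Q n := by
  have h1 : (1 : ℤ) = 1 ∨ (1 : ℤ) = -1 := Or.inl rfl
  have h2 : (-1 : ℤ) = 1 ∨ (-1 : ℤ) = -1 := Or.inr rfl
  have hT1 := hasTor_G2 cs 1 h1
  have hT2 := hasTor_G2 cs (-1) h2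
  intro n hn
  simp only [List.mem_cons, List.not_mem_nil, or_false] at hn
  rcases hn with rfl | rfl
  · exact S.regE_one g2T cs h1 hQ hT1
  · exact S.regE_two g2T cs h1 hQ hT2

theorem bad_G2 [IsAlgClosed k'] [Finite W] [Finite X] {Q : ℤ} (hQ : Q = 1 * (p ^ e : ℕ)) (π : Set ℕ) (r s : ℕ)
    (hr : r.Prime) (hs : s.Prime) (hrπ : r ∈ π) (hsπ : s ∈ π) (hrs : r ≠ s) (hr2 : r ≠ 2) (hs2 : s ≠ 2)
    (hrp : r ≠ p) (hsp : s ≠ p) (hrd : ¬ r ∣ 1) (hsd : ¬ s ∣ 1) (hrX : r ∣ Nat.card X) (hsX : s ∣ Nat.card X)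
    (hsame : orderOf (Q : ZMod r) = orderOf (Q : ZMod s))
    (hbad : ∃ i ∈ [2, 6], orderOf (Q : ZMod r) ∣ i ∧ r ∣ i) : ¬ Cond π X := by
  have h1 : (1 : ℤ) = 1 ∨ (1 : ℤ) = -1 := Or.inl rfl
  have hT := hasTor_G2 cs
  obtain ⟨i, hi, hni, hri⟩ := hbad
  have hQr := not_dvd_Q (p := p) (e := e) Fact.out hr hrp h1 hQ
  have hn1 := ord_dvd hr hQr
  have hi30 := lt_G2 i hi
  have hr31 := lt_of_le_of_lt (Nat.le_of_dvd hi30.1 hri) hi30.2
  have hn31 := lt_of_le_of_lt (Nat.le_of_dvd hi30.1 hni) hi30.2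
  obtain ⟨h12, hr'⟩ := key_G2 i hi r hr31 _ hn31 ⟨hri, hr, hr2, hni, hn1⟩
  subst hr'
  exact S.bad_sum12 g2T cs hT hr hs hrπ hsπ hrs hrp hrd hr2 hsX h1 hQ h12 lists_G2 (j := 1) sum_G2_three

end G2

/-- **Type `G₂`.** -/
theorem crossRow_G2 (r : ℕ) [Fact r.Prime] (F : Type u) [Field F] [Fintype F] [CharP F r] :
    CrossRow r ↥(chevG2.group F) := by
  obtain ⟨k, _, _, f, p, hpp, hkp, e, hk, hka, he0, hcF⟩ := H378.TorFin.exists_closure F
  have hkr : CharP k r := charP_of_injective_ringHom f.injective r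
  obtain rfl : r = p := CharP.eq k hkr hkp
  have cs := CoxeterMatrix.G₂.toCoxeterSystem
  have hW := finite_W g2T cs
  have hcF' : Fintype.card F = r ^ e := by rw [← Nat.card_eq_fintype_card, hcF]
  have hd1 : Nat.gcd 1 (Nat.card F - 1) = 1 := Nat.gcd_one_left _
  have S := setup_untw g2T cs hk f he0 hcF' invC_G2 one_ne_zero
  rw [hd1] at S
  have h1 : (1 : ℤ) = 1 ∨ (1 : ℤ) = -1 := Or.inl rfl
  have hQ : ((r ^ e : ℕ) : ℤ) = 1 * (r ^ e : ℕ) := (one_mul _).symm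
  have hcard : 1 * Nat.card ↥(chevG2.group F) = (r ^ e) ^ 6 *
      (([2, 6].map (fun i => ((r ^ e : ℕ) : ℤ) ^ i - 1)).prod).natAbs := by
    rw [natAbs_prod _ (pow_pos hpp.out.pos _), one_mul, S1059.result hcF']
    simp only [List.map_cons, List.map_nil, List.prod_cons, List.prod_nil, mul_one]
    ring
  refine S.crossRow_of g2T cs hka h1 hQ (degs := [2, 6])
    (es := [1, 2, 3, 6]) (by decide +kernel) hcard
    (H := [1, 2]) (reg_G2 cs S hQ) (Sp := fun _ _ => False) (by decide +kernel) ?_ ?_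
    (bad_G2 cs S hQ) ?_
  · rintro π r s - - - - - - - - - - - - - h
    exact h.elim
  · intro π r s hr _ _ _ _ _ _ _ _ hd
    exact absurd (Nat.dvd_one.1 hd) hr.one_lt.ne'
  · intro n hn π hπ _
    exact S.pos_of_hasF g2T cs h1 lists_G2 (hasTor_G2 cs 1 h1) hQ (idx_G2 n hn).1 (idx_G2 n hn).2 (hasF_G2 n hn)
      hcard hπ

end Cfsg.Agent.H630.Exc
end
end

-- part: H630/ExcRowsC
section
set_option linter.all false
open scoped Cfsg.Agent.FastGrp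

-- part: H630/ExcI
section
/-!
# Primes dividing the index of `X` in the fixed points (helper630)

`CommIn σ e0` : the commutators of fixed points of `σ` lie in the image of `X`.

* `Setup.not_cond_comm` : for `r ∣ Q - 1`, `r ≠ 2`, and `a b ∈ W` whose commutator is an `r`-element without fixed points
  on the lattice, `Cond {r, s}` fails for every `s`.
-/

set_option autoImplicit false
set_option linter.unusedSectionVars false

namespace Cfsg.Agent.H630.Exc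

open CoxeterSystem Cfsg Cfsg.Lie Cfsg.Lie.ChevalleyDatum
open Cfsg.Agent.ChevalleyStructure Cfsg.Agent.ChevalleyStructure.Elts Cfsg.Agent.ChevalleyStructure.CoxeterGeom
  Cfsg.Agent.ChevalleyStructure.CoxeterGeomTypes Cfsg.Agent.ChevalleyStructure.NPerm
open Cfsg.Agent.Tits.Roots Cfsg.Agent.Tits.Core Cfsg.Agent.Nodes Cfsg.Agent.Nodes.Reps Cfsg.Agent.Nodes.BNOf
  Cfsg.Agent.Nodes.RGDChev Cfsg.Agent.Nodes.Bruhat Cfsg.Agent.Nodes.SubComb Cfsg.Agent.Nodes.Coroot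
open Cfsg.Agent.KFacts.RgdField Cfsg.Agent.KFacts.RgdChevCoord Cfsg.Agent.BpExc.TorCent Cfsg.Agent.BpExc.TorChev
open Cfsg.Agent.GpExc.Field Cfsg.Agent.BpExc.Tow Cfsg.Agent.BpExc.TowChev Cfsg.Agent.BpExc.Fr
  Cfsg.Agent.BpExc.LangFr Cfsg.Agent.LangThm Cfsg.Agent.BpExc Cfsg.Agent.H129.TorusChar Cfsg.Agent.H129.TorusMain
open Cfsg.Agent.H129.TorAct (cX_tau tau_mem exists_theta)
open Cfsg.Agent.H630.NH

universe u v

/-- the commutators of fixed points of `σ` lie in the image of `X` -/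
def CommIn {Y : Type u} [Group Y] {X : Type v} [Group X] (σ : MulAut Y) (e0 : X →* Y) : Prop :=
  ∀ a b : Y, σ a = a → σ b = b → a * b * a⁻¹ * b⁻¹ ∈ e0.range

variable {D : ChevalleyDatum} {l : ℕ} {M : CoxeterMatrix (Fin l)} (hp : IsType D l M) {k : Type u} [Field k]
  {W : Type*} [Group W] (cs : CoxeterSystem M W)

/-- the reflection of a root -/
theorem exists_refl {a : Fin l → ℤ} (ha : IsRoot cs hp.isCartan a) : ∃ s : W, rep cs hp.isCartan s a = -a := by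
  obtain ⟨v, i, rfl⟩ := ha
  refine ⟨v * cs.simple i * v⁻¹, ?_⟩
  rw [map_mul, map_mul, Module.End.mul_apply, Module.End.mul_apply, rep_inv_apply, rep_simple]
  have h1 : refl (cartanOf D l) i (sr i) = -(sr i : Fin l → ℤ) := refl_single_self hp.isCartan i 1
  rw [h1, map_neg]

variable {p e : ℕ} [Fact p.Prime] [CharP k p] {σ : MulAut ↥(D.group k)} {g : (Fin l → ℤ) ≃+ (Fin l → ℤ)}
  {X : Type v} [Group X] {e0 : X →* ↥(D.group k)} {d : ℕ} (S : Setup hp cs p e σ g e0 d)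

theorem CommIn.exists_of {Y : Type u} [Group Y] {X : Type v} [Group X] {σ : MulAut Y} {e0 : X →* Y}
    (hcm : CommIn σ e0) {n z a b : Y} (hz : n = z⁻¹ * σ z) (ha : n * σ a * n⁻¹ = a) (hb : n * σ b * n⁻¹ = b) :
    ∃ x : X, z⁻¹ * e0 x * z = a * b * a⁻¹ * b⁻¹ := by
  have key : ∀ t, n * σ t * n⁻¹ = t → σ (z * t * z⁻¹) = z * t * z⁻¹ := by
    intro t ht
    have h2 : σ z = z * n := by rw [hz]; group
    rw [map_mul, map_mul, map_inv, h2]
    calc z * n * σ t * (z * n)⁻¹ = z * (n * σ t * n⁻¹) * z⁻¹ := by group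
      _ = z * t * z⁻¹ := by rw [ht]
  obtain ⟨x, hx⟩ := hcm _ _ (key a ha) (key b hb)
  refine ⟨x, ?_⟩
  rw [hx]
  group

include S

/-- **The roots are nontrivial on the elements of order `r` of `X` in the torus.** -/
theorem Setup.root_comm [IsAlgClosed k] [Finite W] (hcm : CommIn σ e0) {r : ℕ} (hrp : r.Prime) (hrc : r ≠ p)
    (hr2 : r ≠ 2) {hN : NSys M (TT D k) (nc hp k)} {w : W} {n z : ↥(D.group k)} (hn : Rp cs hN w n)
    (hz : n = z⁻¹ * σ z) {m : ℕ} (hm : 0 < m) (hθ : ∀ x, (theta hp cs w g)^[m] x = x)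
    (hq : (r : ℤ) ∣ ((p ^ e : ℕ) : ℤ) ^ m - 1)
    (hroot : ∀ a, IsRoot cs hp.isCartan a → ∃ L : (Fin l → ℤ) →+ ℤ, ¬ (r : ℤ) ∣ Lq L (theta hp cs w g) (p ^ e) m a)
    (hcw : ∀ (v : W) (x), rep cs hp.isCartan v (theta hp cs w g x) = theta hp cs w g (rep cs hp.isCartan v x))
    {a : Fin l → ℤ} (ha : IsRoot cs hp.isCartan a) : ∃ x ∈ tXr hp S.inj z r, cX hp (z⁻¹ * e0 x * z) a ≠ 1 := by
  have hrk : (r : k) ≠ 0 := by
    rw [Ne, CharP.cast_eq_zero_iff k p]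
    intro h
    exact hrc ((Nat.prime_dvd_prime_iff_eq (Fact.out : p.Prime) hrp).1 h).symm
  obtain ⟨B, d', hd', hB⟩ := S.inv
  obtain ⟨L, hL⟩ := hroot a ha
  obtain ⟨t, ht, h1, h2, h3⟩ := exists_torsion hp hB hd' hθ hrk hq L hL
  have hFt := (tau_iff hp cs S.lf S.frob S.fr hn ht).2 h1
  obtain ⟨s, hs⟩ := exists_refl hp cs ha
  obtain ⟨y, hy, hFy⟩ := S.exists_norm hp cs hm hθ hn (hcw s)
  obtain ⟨x, hx⟩ := hcm.exists_of hz hFy hFt
  have hyt : y * t * y⁻¹ ∈ TT D k := (Subgroup.mem_normalizer_iff.1 hy.mem_normalizer t).1 ht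
  have hmem : z⁻¹ * e0 x * z ∈ TT D k := by rw [hx]; exact mul_mem hyt (inv_mem ht)
  have hmc := isMC_cX hp ht
  refine ⟨x, ⟨hmem, ?_⟩, ?_⟩
  · apply S.inj
    rw [map_pow, map_one]
    have h4 : e0 x = z * (y * t * y⁻¹ * t⁻¹) * z⁻¹ := by rw [← hx]; group
    have h5 : (y * t * y⁻¹ * t⁻¹) ^ r = 1 := by
      rw [(show Commute (y * t * y⁻¹) t⁻¹ from TT_comm hp _ hyt _ (inv_mem ht)).mul_pow, conj_pow, h2, inv_pow, h2]
      group
    rw [h4, conj_pow, h5]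
    group
  · rw [hx, cX_mul hp hyt (inv_mem ht)]
    have h4 : cX hp (y * t * y⁻¹) a = cX hp t (-a) := by
      have h5 := cX_rp hp cs S.lf p hy ht (-a)
      rwa [map_neg, hs, neg_neg] at h5
    have h6 : cX hp t⁻¹ a = (cX hp t a)⁻¹ := by
      have h7 := cX_mul hp ht (inv_mem ht) a
      rw [mul_inv_cancel, cX_one] at h7
      exact eq_inv_of_mul_eq_one_right h7.symm
    rw [h4, hmc.neg, h6]
    intro h7
    -- `χ(a)^2 = 1`, `χ(a)^r = 1`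
    have h8 : cX hp t a ^ 2 = 1 := by
      have h9 := congrArg Inv.inv h7
      rw [mul_inv, inv_inv, inv_one] at h9
      rw [sq]; exact h9
    have h9 : cX hp t a ^ r = 1 := by rw [← cX_pow hp ht, h2, cX_one]
    have h10 : orderOf (cX hp t a) ∣ 1 := by
      have h11 := Nat.dvd_gcd (orderOf_dvd_of_pow_eq_one h8) (orderOf_dvd_of_pow_eq_one h9)
      rwa [((Nat.coprime_primes Nat.prime_two hrp).2 (Ne.symm hr2) : Nat.gcd 2 r = 1)] at h11
    exact h3 (orderOf_eq_one_iff.1 (Nat.dvd_one.1 h10))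

/-- **`Cond` fails for primes dividing the index.** -/
theorem Setup.not_cond_comm [IsAlgClosed k] [Finite W] [Finite X] (hcm : CommIn σ e0) {π : Set ℕ} {r s' : ℕ}
    (hrp : r.Prime) (hsp : s'.Prime) (hr : r ∈ π) (hs' : s' ∈ π) (hrs : r ≠ s') (hrc : r ≠ p) (hr2 : r ≠ 2)
    (hsX : s' ∣ Nat.card X) {ε Q : ℤ} (hε : ε = 1 ∨ ε = -1) (hQ : Q = ε * (p ^ e : ℕ))
    (hT : HasTor hp cs g ε (1 : W)) (hrQ : (r : ℤ) ∣ Q - 1) {a b : W} {j : ℕ}
    (hsj : (a * b * a⁻¹ * b⁻¹) ^ r ^ j = 1)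
    (hsum : ∀ x, ∑ i ∈ Finset.range (r ^ j), (rep cs hp.isCartan (a * b * a⁻¹ * b⁻¹) ^ i) x = 0) : ¬ Cond π X := by
  have : Fact r.Prime := ⟨hrp⟩
  have : Fact s'.Prime := ⟨hsp⟩
  have hrZ := Nat.prime_iff_prime_int.1 hrp
  have hQr := not_dvd_Q (p := p) (e := e) Fact.out hrp hrc hε hQ
  have hNs := S.nsys hp cs
  obtain ⟨w, hw'⟩ := hT
  obtain ⟨n', hn'⟩ := exists_rp cs hNs w
  obtain ⟨z, hz⟩ := lang_all hp cs S.pos S.frob S.fr 1 n'
  rw [map_one, one_mul] at hz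
  have hw : rep cs hp.isCartan (1 : W) ^ 1 = 1 := by rw [map_one, one_pow]
  have hθ : ∀ x, (theta hp cs w g)^[2 * 1] x = x := fun x => by
    rw [theta_iter hp cs hw', eps_pow_two hε, one_smul, mul_comm, pow_mul, hw, one_pow, Module.End.one_apply]
  have hq : (r : ℤ) ∣ ((p ^ e : ℕ) : ℤ) ^ (2 * 1) - 1 := by
    have h1 : ((p ^ e : ℕ) : ℤ) ^ (2 * 1) = Q ^ (2 * 1) := by rw [hQ, mul_pow, eps_pow_two hε, one_mul]
    rw [h1]
    exact hrQ.trans ⟨Q + 1, by ring⟩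
  have hroot : ∀ a, IsRoot cs hp.isCartan a →
      ∃ L : (Fin l → ℤ) →+ ℤ, ¬ (r : ℤ) ∣ Lq L (theta hp cs w g) (p ^ e) (2 * 1) a := by
    intro a ha
    obtain ⟨i, hi⟩ := exists_coord hp cs ha hrp
    refine ⟨coordF l i, fun h => hi ?_⟩
    rw [Lq_eq hp cs hε hw' hw _ hQ, Finset.sum_range_one, pow_zero, Module.End.one_apply, Nat.sub_zero, pow_one] at h
    rcases hrZ.dvd_mul.1 h with h2 | h2
    · exfalso
      have h3 : (r : ℤ) ∣ 2 := by
        have h4 := dvd_sub h2 hrQ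
        have h5 : Q + 1 - (Q - 1) = 2 := by ring
        rwa [h5] at h4
      have h4 : r ∣ 2 := by exact_mod_cast h3
      exact hr2 ((Nat.prime_dvd_prime_iff_eq hrp Nat.prime_two).1 h4)
    · exact (hrZ.dvd_mul.1 h2).resolve_left hQr
  have hcw : ∀ (v : W) (x), rep cs hp.isCartan v (theta hp cs w g x) = theta hp cs w g (rep cs hp.isCartan v x) := by
    intro v x
    rw [hw', hw', map_zsmul, map_one, Module.End.one_apply, Module.End.one_apply]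
  -- a representative of the commutator in `X`
  obtain ⟨ya, hya, hFa⟩ := S.exists_norm hp cs (by norm_num) hθ hn' (hcw a)
  obtain ⟨yb, hyb, hFb⟩ := S.exists_norm hp cs (by norm_num) hθ hn' (hcw b)
  obtain ⟨x0, hx0⟩ := hcm.exists_of hz hFa hFb
  obtain ⟨sW, hsW⟩ : ∃ sW, sW = a * b * a⁻¹ * b⁻¹ := ⟨_, rfl⟩
  rw [← hsW] at hsj hsum
  have hx0s : Rp cs hNs sW (z⁻¹ * e0 x0 * z) := by
    rw [hx0, hsW]
    exact ((hya.mul hyb).mul hya.inv).mul hyb.inv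
  -- its `r`-part
  have hord : 0 < orderOf x0 := orderOf_pos x0
  obtain ⟨a', b', hb', hab⟩ := Nat.exists_eq_pow_mul_and_not_dvd (n := r ^ j * orderOf x0)
    (mul_ne_zero (pow_ne_zero _ hrp.ne_zero) hord.ne') r hrp.ne_one
  have hja : j ≤ a' := by
    have h4 : r ^ j ∣ r ^ a' * b' := by rw [← hab]; exact dvd_mul_right _ _
    have h5 : r ^ j ∣ r ^ a' :=
      (Nat.Coprime.pow_left _ ((Nat.Prime.coprime_iff_not_dvd hrp).2 hb')).dvd_of_dvd_mul_right h4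
    exact (Nat.pow_dvd_pow_iff_le_right hrp.one_lt).1 h5
  have hbc : ∃ c : ℕ, (b' * c) ≡ 1 [MOD r ^ a'] := by
    have hco : Nat.Coprime b' (r ^ a') := (Nat.Coprime.pow_left _ ((Nat.Prime.coprime_iff_not_dvd hrp).2 hb')).symm
    rcases Nat.lt_or_ge 1 (r ^ a') with h7 | h7
    · obtain ⟨c, -, hc⟩ := Nat.exists_mul_mod_eq_one_of_coprime hco h7
      exact ⟨c, by rw [Nat.ModEq, hc, Nat.mod_eq_of_lt h7]⟩
    · have h8 : r ^ a' = 1 := le_antisymm h7 (Nat.one_le_iff_ne_zero.2 (pow_ne_zero _ hrp.ne_zero))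
      exact ⟨1, by rw [h8]; exact Nat.modEq_one⟩
  obtain ⟨c, hc⟩ := hbc
  obtain ⟨x, hxd⟩ : ∃ x, x = x0 ^ (b' * c) := ⟨_, rfl⟩
  have hx : ∃ a, x ^ r ^ a = 1 := by
    refine ⟨a', ?_⟩
    rw [hxd, ← pow_mul]
    have h7 : b' * c * r ^ a' = orderOf x0 * (r ^ j * c) := by
      have : b' * c * r ^ a' = (r ^ a' * b') * c := by ring
      rw [this, ← hab]; ring
    rw [h7, pow_mul, pow_orderOf_eq_one, one_pow]
  have hxs : Rp cs hNs sW (z⁻¹ * e0 x * z) := by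
    have h7 := rp_pow hp cs hx0s (b' * c)
    rw [S.conj_pow_eq hp cs, ← hxd] at h7
    have h8 : sW ^ (b' * c) = sW := by
      have h9 : (b' * c) ≡ 1 [MOD r ^ j] := hc.of_dvd (pow_dvd_pow r hja)
      have h10 : (b' * c) ≡ 1 [MOD orderOf sW] := h9.of_dvd (orderOf_dvd_of_pow_eq_one hsj)
      have h11 := pow_eq_pow_iff_modEq.2 h10
      rwa [pow_one] at h11
    rwa [h8] at h7
  refine not_cond_of_centralizer hr hs' hrs hsX _ (isPGroup_E hp cs S.inj hx hxs) ?_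
  intro y hy hyc
  have hcs : (z⁻¹ * e0 y * z) ^ s' = 1 := by
    rw [S.conj_pow_eq hp cs, ← hy, pow_orderOf_eq_one, map_one]
    group
  have hyT : z⁻¹ * e0 y * z ∈ TT D k := by
    refine mem_TT_of_pow hp cs S.lf p hNs (A := (fun x : X => z⁻¹ * e0 x * z) '' (tXr hp S.inj z r : Set X))
      ((Set.toFinite _).image _) ?_ ?_ (r := r) ?_ hsp.pos ((Nat.coprime_primes hsp hrp).2 (Ne.symm hrs)) ?_ hcs
    · rintro _ ⟨x, hx, rfl⟩
      exact hx.1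
    · intro a ha
      obtain ⟨x, hx, h1⟩ := S.root_comm hp cs hcm hrp hrc hr2 hn' hz (by norm_num) hθ hq hroot hcw ha
      exact ⟨_, ⟨x, hx, rfl⟩, h1⟩
    · rintro _ ⟨x, hx, rfl⟩
      show (z⁻¹ * e0 x * z) ^ r = 1
      rw [S.conj_pow_eq hp cs, hx.2, map_one]
      group
    · rintro _ ⟨x, hx, rfl⟩
      have h2 := hyc x (Subgroup.mem_sup_right hx)
      calc z⁻¹ * e0 y * z * (z⁻¹ * e0 x * z) = z⁻¹ * (e0 (y * x)) * z := by rw [map_mul]; group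
        _ = z⁻¹ * (e0 (x * y)) * z := by rw [h2]
        _ = _ := by rw [map_mul]; group
  have hfix : ∀ v, cX hp (z⁻¹ * e0 y * z) (rep cs hp.isCartan sW v) = cX hp (z⁻¹ * e0 y * z) v := by
    refine fix_of_rp hp cs S.lf p hxs hyT ?_
    have h2 := hyc x (Subgroup.mem_sup_left (Subgroup.mem_zpowers x))
    calc z⁻¹ * e0 x * z * (z⁻¹ * e0 y * z) = z⁻¹ * (e0 (x * y)) * z := by rw [map_mul]; group
      _ = z⁻¹ * (e0 (y * x)) * z := by rw [h2]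
      _ = _ := by rw [map_mul]; group
  have hmc := isMC_cX hp hyT
  have h1 : z⁻¹ * e0 y * z = 1 := by
    refine cX_inj hp hyT (one_mem _) fun i => ?_
    rw [cX_one]
    obtain ⟨v, hv⟩ : ∃ v : Fin l → ℤ, v = sr i := ⟨_, rfl⟩
    rw [← hv]
    have h2 : ∀ i, cX hp (z⁻¹ * e0 y * z) ((rep cs hp.isCartan sW ^ i) v) = cX hp (z⁻¹ * e0 y * z) v := by
      intro i
      induction i with
      | zero => rw [pow_zero, Module.End.one_apply]
      | succ i ih => rw [pow_succ', Module.End.mul_apply, hfix, ih]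
    have h3 : cX hp (z⁻¹ * e0 y * z) v ^ r ^ j = 1 := by
      have h4 := hmc.sum (Finset.range (r ^ j)) (fun i => (rep cs hp.isCartan sW ^ i) v)
      rw [hsum, hmc.zero, Finset.prod_congr rfl (fun i _ => h2 i), Finset.prod_const, Finset.card_range] at h4
      exact h4.symm
    have h5 : cX hp (z⁻¹ * e0 y * z) v ^ s' = 1 := by
      rw [← cX_pow hp hyT, hcs, cX_one]
    have h10 : orderOf (cX hp (z⁻¹ * e0 y * z) v) ∣ 1 := by
      have h11 := Nat.dvd_gcd (orderOf_dvd_of_pow_eq_one h3) (orderOf_dvd_of_pow_eq_one h5)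
      rwa [(Nat.Coprime.pow_left j ((Nat.coprime_primes hrp hsp).2 hrs) : Nat.gcd (r ^ j) s' = 1)] at h11
    exact orderOf_eq_one_iff.1 (Nat.dvd_one.1 h10)
  have h4 : e0 y = 1 := by
    have : e0 y = z * (z⁻¹ * e0 y * z) * z⁻¹ := by group
    rw [this, h1]; group
  have h5 : y = 1 := S.inj (by rw [h4, map_one])
  rw [h5, orderOf_one] at hy
  exact hsp.one_lt.ne hy

end Cfsg.Agent.H630.Exc
end

-- part: H630/ExcRowsC
section
/-!
# The rows of `E₆` and `²E₆` in cross characteristic (helper630)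
-/

set_option autoImplicit false
set_option linter.unusedSectionVars false
set_option linter.unusedVariables false

namespace Cfsg.Agent.H630.Exc

open CoxeterSystem Cfsg Cfsg.Lie Cfsg.Lie.ChevalleyDatum
open Cfsg.Agent.ChevalleyStructure Cfsg.Agent.ChevalleyStructure.Elts Cfsg.Agent.ChevalleyStructure.CoxeterGeom
  Cfsg.Agent.ChevalleyStructure.CoxeterGeomTypes Cfsg.Agent.ChevalleyStructure.NPerm
open Cfsg.Agent.Tits.Roots Cfsg.Agent.Tits.Core Cfsg.Agent.Nodes Cfsg.Agent.Nodes.Reps Cfsg.Agent.Nodes.BNOf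
  Cfsg.Agent.Nodes.RGDChev Cfsg.Agent.Nodes.Bruhat Cfsg.Agent.Nodes.SubComb Cfsg.Agent.Nodes.Coroot
open Cfsg.Agent.KFacts.RgdField Cfsg.Agent.KFacts.RgdChevCoord Cfsg.Agent.BpExc.TorCent Cfsg.Agent.BpExc.TorChev
open Cfsg.Agent.GpExc.Field Cfsg.Agent.BpExc.Tow Cfsg.Agent.BpExc.TowChev Cfsg.Agent.BpExc.Fr
  Cfsg.Agent.BpExc.LangFr Cfsg.Agent.LangThm Cfsg.Agent.BpExc Cfsg.Agent.H129.TorusChar Cfsg.Agent.H129.TorusMain
open Cfsg.Agent.H129.TwE6Fr (tau isFrob_tau fr_tau embT embT_injective tau_embT tau_split tau_normal tau_pow flip6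
  flip6_apply flip_sr')
open Cfsg.Agent.H630.NH Cfsg.Agent.H130.WeylCk Cfsg.Agent.H130.PolyL Cfsg.Agent.H130.WeylTab

universe u v

/-! ### commutators of fixed points -/

theorem commIn_of {Y : Type u} [Group Y] {X : Type v} [Group X] {σ : MulAut Y} {e0 : X →* Y} (T : Subgroup Y)
    (hT : ∀ s ∈ T, ∀ t ∈ T, s * t = t * s) (hfix : ∀ x, σ (e0 x) = e0 x)
    (hsplit : ∀ y, σ y = y → ∃ x : X, ∃ t ∈ T, y = e0 x * t)
    (hnorm : ∀ y, σ y = y → ∀ a ∈ e0.range, y * a * y⁻¹ ∈ e0.range) : CommIn σ e0 := by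
  intro a b ha hb
  obtain ⟨x, s, hs, rfl⟩ := hsplit a ha
  obtain ⟨y, t, ht, rfl⟩ := hsplit b hb
  have hσs : σ s = s := by rw [map_mul, hfix] at ha; exact mul_left_cancel ha
  have hσt : σ t = t := by rw [map_mul, hfix] at hb; exact mul_left_cancel hb
  have e1 : e0 x * s * (e0 y * t) * (e0 x * s)⁻¹ * (e0 y * t)⁻¹ =
      e0 x * (s * e0 y * s⁻¹) * (t * (e0 x)⁻¹ * t⁻¹) * (e0 y)⁻¹ := by
    have h1 : s * t * s⁻¹ * (e0 x)⁻¹ * t⁻¹ = t * (e0 x)⁻¹ * t⁻¹ := by rw [hT s hs t ht]; group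
    calc e0 x * s * (e0 y * t) * (e0 x * s)⁻¹ * (e0 y * t)⁻¹ =
        e0 x * (s * e0 y * s⁻¹) * (s * t * s⁻¹ * (e0 x)⁻¹ * t⁻¹) * (e0 y)⁻¹ := by group
      _ = _ := by rw [h1]
  rw [e1]
  exact mul_mem (mul_mem (mul_mem ⟨x, rfl⟩ (hnorm s hσs _ ⟨y, rfl⟩)) (hnorm t hσt _ (inv_mem ⟨x, rfl⟩)))
    (inv_mem ⟨y, rfl⟩)

/-! ### the tables -/

theorem e6T : IsType chevE6 6 CoxeterMatrix.E₆ := by simp [IsType, typeList]

theorem sum_E6_comm : SumCk 6 alE6 ([4, 0, 5, 1, 4, 0, 2] ++ [3, 0, 1, 3, 2, 4, 0, 3] ++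
    ([4, 0, 5, 1, 4, 0, 2] : List (Fin 6)).reverse ++ ([3, 0, 1, 3, 2, 4, 0, 3] : List (Fin 6)).reverse) 1 3
    [[-1, 0, -1, -1, 0, 0], [-1, -1, -1, -1, -1, 0], [1, 1, 1, 2, 1, 1], [0, -1, -1, -2, -1, -1], [0, 1, 1, 1, 0, 0],
      [0, 0, 0, 1, 1, 0]] := by
  decide +kernel

theorem neg_E6 : ∀ i : Fin 6, acn alE6 ([0, 3, 5, 1, 2, 4] : List (Fin 6)) 6 (bas 6 i) =
    ([[0, 0, 0, 0, 0, -1], [0, -1, 0, 0, 0, 0], [0, 0, 0, 0, -1, 0], [0, 0, 0, -1, 0, 0], [0, 0, -1, 0, 0, 0],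
      [-1, 0, 0, 0, 0, 0]] : List (List ℤ)).getD i [] := by
  decide +kernel

theorem key_E6 : ∀ i ∈ [2, 5, 6, 8, 9, 12], ∀ r < 13, ∀ n < 13,
    (r ∣ i ∧ r.Prime ∧ r ≠ 2 ∧ n ∣ i ∧ n ∣ r - 1) → (r = 3 ∧ n = 1) ∨ (r = 3 ∧ n = 2) ∨ (r = 5 ∧ n = 1) := by
  decide +kernel

theorem lt_E6 : ∀ i ∈ [2, 5, 6, 8, 9, 12], 0 < i ∧ i < 13 := by decide

theorem idx_E6 : ∀ n ∈ [1, 2, 3, 4, 5, 6, 8, 9, 12], 0 < n ∧ n ∈ H130.PolyL.idx := by decide

section Gen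

variable {W : Type*} [Group W] (cs : CoxeterSystem CoxeterMatrix.E₆ W)

/-- `-1` and the graph automorphism -/
theorem hasTor_tw (w1 : W) : HasTor e6T cs flip6 (-1) w1 := by
  obtain ⟨w0, hw0⟩ : ∃ w0, w0 = cs.wordProd ([0, 3, 5, 1, 2, 4] : List (Fin 6)) ^ 6 := ⟨_, rfl⟩
  have h1 : ∀ x, rep cs e6T.isCartan w0 x = -flip6 x := by
    have h2 : rep cs e6T.isCartan w0 = -(flip6.toAddMonoidHom.toIntLinearMap) := by
      apply LinearMap.pi_ext'
      intro i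
      apply LinearMap.ext_ring
      show rep cs e6T.isCartan w0 (Pi.single i 1) = -flip6 (Pi.single i 1)
      rw [hw0, rep_single e6T cs lists_E6 _ 6 neg_E6]
      have h3 : ∀ i : Fin 6, toFn 6 (([[0, 0, 0, 0, 0, -1], [0, -1, 0, 0, 0, 0], [0, 0, 0, 0, -1, 0],
          [0, 0, 0, -1, 0, 0], [0, 0, -1, 0, 0, 0], [-1, 0, 0, 0, 0, 0]] : List (List ℤ)).getD i []) =
          -![(Pi.single i 1 : Fin 6 → ℤ) 5, (Pi.single i 1 : Fin 6 → ℤ) 1, (Pi.single i 1 : Fin 6 → ℤ) 4,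
            (Pi.single i 1 : Fin 6 → ℤ) 3, (Pi.single i 1 : Fin 6 → ℤ) 2, (Pi.single i 1 : Fin 6 → ℤ) 0] := by
        decide +kernel
      exact h3 i
    intro x
    rw [h2]
    rfl
  refine ⟨w1 * w0, fun x => ?_⟩
  show rep cs e6T.isCartan (w1 * w0) (flip6 x) = _
  rw [map_mul, Module.End.mul_apply, h1, H129.TwE6Fr.flip_flip, map_neg, neg_smul, one_smul]

variable {k' : Type u} [Field k'] {p e : ℕ} [hpF : Fact p.Prime] [CharP k' p] {σ : MulAut ↥(chevE6.group k')}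
  {g : (Fin 6 → ℤ) ≃+ (Fin 6 → ℤ)} {X : Type v} [Group X] {e0 : X →* ↥(chevE6.group k')} {d : ℕ}
  (S : Setup e6T cs p e σ g e0 d)

include S

theorem reg_E6 [IsAlgClosed k'] [Finite W] [Finite X] {ε Q : ℤ} (hε : ε = 1 ∨ ε = -1) (hQ : Q = ε * (p ^ e : ℕ))
    (hT : ∀ w1, HasTor e6T cs g ε w1) : ∀ n ∈ [1, 2, 3, 4, 6], RegE X p d Q n := by
  intro n hn
  simp only [List.mem_cons, List.not_mem_nil, or_false] at hn
  rcases hn with rfl | rfl | rfl | rfl | rfl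
  · exact S.regE_one e6T cs hε hQ hT
  · exact S.regE_ck e6T cs hε hQ hT lists_E6 reg_E6_2 (by decide) (by decide) (by decide +kernel)
  · exact S.regE_ck e6T cs hε hQ hT lists_E6 reg_E6_3 (by decide) (by decide) (by decide +kernel)
  · exact S.regE_ck e6T cs hε hQ hT lists_E6 reg_E6_4 (by decide) (by decide) (by decide +kernel)
  · exact S.regE_ck e6T cs hε hQ hT lists_E6 reg_E6_6 (by decide) (by decide) (by decide +kernel)

theorem bad_E6_three [IsAlgClosed k'] [Finite W] [Finite X] {ε Q : ℤ} (hε : ε = 1 ∨ ε = -1)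
    (hQ : Q = ε * (p ^ e : ℕ)) (hT : ∀ w1, HasTor e6T cs g ε w1) {π : Set ℕ} {s : ℕ}
    (hr : (3 : ℕ).Prime) (hs : s.Prime) (hrπ : 3 ∈ π) (hsπ : s ∈ π) (hrs : 3 ≠ s) (hrp : 3 ≠ p)
    (hrd : ¬ 3 ∣ d) (hsX : s ∣ Nat.card X) (hn : orderOf (Q : ZMod 3) = 2) : ¬ Cond π X := by
  have hQr := not_dvd_Q (p := p) (e := e) Fact.out hr hrp hε hQ
  have hreg := regAt_of_ck' e6T cs lists_E6 reg_E6_2 (by decide) (by decide) (by decide +kernel) hr (by norm_num) hQr hn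
  have hw := rep_pow_eq_one e6T cs lists_E6 _ 6 2 reg_E6_2.2.2.1
  exact S.not_cond_sum_ck e6T cs hr hs hrπ hsπ hrs hrp hrd (by norm_num) hsX hε hQ (hT _)
    (by norm_num) hw ((dvd_pow_sub_one_iff 2).2 (by rw [hn])) hreg lists_E6 (j := 1) sum_E6_three

theorem bad_E6_five [IsAlgClosed k'] [Finite W] [Finite X] {ε Q : ℤ} (hε : ε = 1 ∨ ε = -1)
    (hQ : Q = ε * (p ^ e : ℕ)) (hT : ∀ w1, HasTor e6T cs g ε w1) {π : Set ℕ} {s : ℕ}
    (hr : (5 : ℕ).Prime) (hs : s.Prime) (hrπ : 5 ∈ π) (hsπ : s ∈ π) (hrs : 5 ≠ s) (hrp : 5 ≠ p) (hsp : s ≠ p)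
    (hrd : ¬ 5 ∣ d) (hsd : ¬ s ∣ d) (hs2 : s ≠ 2) (hs3 : s ≠ 3) (hsX : s ∣ Nat.card X)
    (hn : orderOf (Q : ZMod 5) = 1) (hns : orderOf (Q : ZMod s) = 1) : ¬ Cond π X := by
  have h5 := (dvd_pow_sub_one_iff (r := 5) (Q := Q) 1).2 (by rw [hn])
  have h6 := (dvd_pow_sub_one_iff (r := s) (Q := Q) 1).2 (by rw [hns])
  rw [pow_one] at h5 h6
  refine S.not_cond_count_ck e6T cs hr hs hrπ hsπ hrs hrp hsp hrd hsd (by norm_num) hs2 hε hQ (hT _) h5 h6 lists_E6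
    (j := 1) count_E6_five ?_
  by_contra hcon
  have h7 := hs.two_le
  omega

theorem not_cond_E6_d [IsAlgClosed k'] [Finite W] [Finite X] (hcm : CommIn σ e0) {ε Q : ℤ} (hε : ε = 1 ∨ ε = -1)
    (hQ : Q = ε * (p ^ e : ℕ)) (hT : ∀ w1, HasTor e6T cs g ε w1) {π : Set ℕ} {s : ℕ}
    (hr : (3 : ℕ).Prime) (hs : s.Prime) (hrπ : 3 ∈ π) (hsπ : s ∈ π) (hrs : 3 ≠ s) (hrp : 3 ≠ p)
    (hsX : s ∣ Nat.card X) (h3 : (3 : ℤ) ∣ Q - 1) : ¬ Cond π X := by
  have h1 : cs.wordProd ([4, 0, 5, 1, 4, 0, 2] ++ [3, 0, 1, 3, 2, 4, 0, 3] ++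
      ([4, 0, 5, 1, 4, 0, 2] : List (Fin 6)).reverse ++ ([3, 0, 1, 3, 2, 4, 0, 3] : List (Fin 6)).reverse) =
      cs.wordProd [4, 0, 5, 1, 4, 0, 2] * cs.wordProd [3, 0, 1, 3, 2, 4, 0, 3] * (cs.wordProd [4, 0, 5, 1, 4, 0, 2])⁻¹ *
        (cs.wordProd [3, 0, 1, 3, 2, 4, 0, 3])⁻¹ := by
    rw [wordProd_append, wordProd_append, wordProd_append, wordProd_reverse, wordProd_reverse]
  have h2 := rep_pow_eq_one e6T cs lists_E6 _ 1 3 sum_E6_comm.2.2.1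
  have h4 := sum_of_ck e6T cs lists_E6 sum_E6_comm
  rw [pow_one, h1] at h2
  simp only [pow_one] at h4
  rw [h1] at h4
  refine S.not_cond_comm e6T cs hcm hr hs hrπ hsπ hrs hrp (by norm_num) hsX hε hQ (hT 1) h3
    (a := cs.wordProd [4, 0, 5, 1, 4, 0, 2]) (b := cs.wordProd [3, 0, 1, 3, 2, 4, 0, 3]) (j := 1) ?_ ?_
  · apply rep_injective cs e6T.isCartan
    rw [map_pow, pow_one, h2, map_one]
  · exact h4

theorem bad_E6 [IsAlgClosed k'] [Finite W] [Finite X] {ε Q : ℤ} (hε : ε = 1 ∨ ε = -1)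
    (hQ : Q = ε * (p ^ e : ℕ)) (hT : ∀ w1, HasTor e6T cs g ε w1) (h3d : (3 : ℤ) ∣ Q - 1 → 3 ∣ d) (π : Set ℕ) (r s : ℕ)
    (hr : r.Prime) (hs : s.Prime) (hrπ : r ∈ π) (hsπ : s ∈ π) (hrs : r ≠ s) (hr2 : r ≠ 2) (hs2 : s ≠ 2)
    (hrp : r ≠ p) (hsp : s ≠ p) (hrd : ¬ r ∣ d) (hsd : ¬ s ∣ d) (hrX : r ∣ Nat.card X) (hsX : s ∣ Nat.card X)
    (hsame : orderOf (Q : ZMod r) = orderOf (Q : ZMod s))
    (hbad : ∃ i ∈ [2, 5, 6, 8, 9, 12], orderOf (Q : ZMod r) ∣ i ∧ r ∣ i) : ¬ Cond π X := by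
  obtain ⟨i, hi, hni, hri⟩ := hbad
  have hQr := not_dvd_Q (p := p) (e := e) Fact.out hr hrp hε hQ
  have hn1 := ord_dvd hr hQr
  have hi30 := lt_E6 i hi
  have hr31 := lt_of_le_of_lt (Nat.le_of_dvd hi30.1 hri) hi30.2
  have hn31 := lt_of_le_of_lt (Nat.le_of_dvd hi30.1 hni) hi30.2
  have h3 : ∀ s : ℕ, ¬ s ∣ d → orderOf (Q : ZMod s) = 1 → s ≠ 3 := by
    rintro s hsd hs1 rfl
    have h6 := (dvd_pow_sub_one_iff (r := 3) (Q := Q) 1).2 (by rw [hs1])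
    rw [pow_one] at h6
    exact hsd (h3d h6)
  rcases key_E6 i hi r hr31 _ hn31 ⟨hri, hr, hr2, hni, hn1⟩ with ⟨hr', hn⟩ | ⟨hr', hn⟩ | ⟨hr', hn⟩
  · exact absurd hr' (h3 r hrd hn)
  · subst hr'
    exact bad_E6_three cs S hε hQ hT hr hs hrπ hsπ hrs hrp hrd hsX hn
  · subst hr'
    exact bad_E6_five cs S hε hQ hT hr hs hrπ hsπ hrs hrp hsp hrd hsd hs2 (h3 s hsd (by rw [← hsame, hn])) hsX hn
      (by rw [← hsame, hn])

/-- **Types `E₆`, `²E₆`.** -/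
theorem crossRow_E6_gen [IsAlgClosed k'] [Finite W] [Finite X] (hka : BpExc.TorAll.HAlg p k') (hcm : CommIn σ e0)
    {ε Q : ℤ} (hε : ε = 1 ∨ ε = -1) (hQ : Q = ε * (p ^ e : ℕ)) (hT : ∀ w1, HasTor e6T cs g ε w1)
    (h3d : (3 : ℤ) ∣ Q - 1 ↔ 3 ∣ d) (hd3 : d ∣ 3) {g' : ℕ}
    (hcard : g' * Nat.card X = (p ^ e) ^ 36 * (([2, 5, 6, 8, 9, 12].map (fun i => Q ^ i - 1)).prod).natAbs) :
    CrossRow p X := by
  refine S.crossRow_of e6T cs hka hε hQ (degs := [2, 5, 6, 8, 9, 12])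
    (es := [1, 2, 3, 4, 5, 6, 8, 9, 12]) (by decide +kernel) hcard
    (H := [1, 2, 3, 4, 6]) (reg_E6 cs S hε hQ hT) (Sp := fun _ _ => False) (by decide +kernel) ?_ ?_
    (bad_E6 cs S hε hQ hT h3d.1) ?_
  · rintro π r s - - - - - - - - - - - - - h
    exact h.elim
  · intro π r s hr hs hrπ hsπ hrs _ _ hrp _ hd hrX hsX
    have h1 : r ∣ 3 := hd.trans hd3
    obtain rfl := (Nat.prime_dvd_prime_iff_eq hr Nat.prime_three).1 h1
    exact not_cond_E6_d cs S hcm hε hQ hT hr hs hrπ hsπ hrs hrp hsX (h3d.2 hd)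
  · intro n hn π hπ _
    exact S.pos_of_hasF e6T cs hε lists_E6 hT hQ (idx_E6 n hn).1 (idx_E6 n hn).2 (hasF_E6 n hn)
      hcard hπ

end Gen

/-- **Type `E₆`.** -/
theorem crossRow_E6 (r : ℕ) [Fact r.Prime] (F : Type u) [Field F] [Fintype F] [CharP F r] :
    CrossRow r ↥(chevE6.group F) := by
  obtain ⟨k, _, _, f, p, hpp, hkp, e, hk, hka, he0, hcF⟩ := H378.TorFin.exists_closure F
  have hkr : CharP k r := charP_of_injective_ringHom f.injective r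
  obtain rfl : r = p := CharP.eq k hkr hkp
  have cs := CoxeterMatrix.E₆.toCoxeterSystem
  have hW := finite_W e6T cs
  have hcF' : Fintype.card F = r ^ e := by rw [← Nat.card_eq_fintype_card, hcF]
  have S := setup_untw e6T cs hk f he0 hcF' invC_E6 three_ne_zero
  have h1 : (1 : ℤ) = 1 ∨ (1 : ℤ) = -1 := Or.inl rfl
  have hQ : ((r ^ e : ℕ) : ℤ) = 1 * (r ^ e : ℕ) := (one_mul _).symm
  have hpos : 0 < r ^ e := pow_pos hpp.out.pos _
  have hcard : Nat.gcd 3 (r ^ e - 1) * Nat.card ↥(chevE6.group F) = (r ^ e) ^ 36 *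
      (([2, 5, 6, 8, 9, 12].map (fun i => ((r ^ e : ℕ) : ℤ) ^ i - 1)).prod).natAbs := by
    rw [natAbs_prod _ hpos, S1063.result hcF']
    simp only [List.map_cons, List.map_nil, List.prod_cons, List.prod_nil, mul_one]
    ring
  refine crossRow_E6_gen cs S hka ?_ h1 hQ (hasTor_one e6T cs) ?_ (Nat.gcd_dvd_left _ _) hcard
  · refine commIn_of (TT chevE6 k) (TT_comm e6T) S.fix (fun y hy => ?_) (fun y hy a ha => ?_)
    · obtain ⟨x, t, ht, e1⟩ := H129.TorusUntw.fix_split e6T f hcF' hy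
      exact ⟨x, t, ht, e1⟩
    · exact H378.TorFin.conj_range e6T f r hcF (by rw [phi_eq_phi, hy]) ha
  · rw [hcF]
    have e1 : ((r ^ e : ℕ) : ℤ) - 1 = ((r ^ e - 1 : ℕ) : ℤ) := by
      rw [Nat.cast_sub hpos]; rfl
    rw [e1]
    constructor
    · intro h
      exact Nat.dvd_gcd dvd_rfl (by exact_mod_cast h)
    · intro h
      exact_mod_cast h.trans (Nat.gcd_dvd_right _ _)

/-- the setup of `²E₆(q)` -/
theorem setup_twE6 {W : Type*} [Group W] (cs : CoxeterSystem CoxeterMatrix.E₆ W) {k : Type u} [Field k]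
    [IsAlgClosed k] {p e : ℕ} [Fact p.Prime] [CharP k p] (hk : LocFin k) {F : Type u} [Field F] [Fintype F]
    (f : F →+* k) {q : ℕ} (he0 : 0 < e) (hqe : q = p ^ e) (hq : IsPrimePow q) (hF : Fintype.card F = q ^ 2) :
    Setup e6T cs p e (tau k p e) flip6 (embT f hq hF) (Nat.gcd 3 (q + 1)) where
  lf := hk
  pos := he0
  frob := isFrob_tau
  fr := fr_tau cs
  inv := ⟨_, 3, three_ne_zero, invC_E6⟩
  inj := embT_injective f hq hF
  fix := tau_embT f hqe hq hF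
  range := by
    intro r hr hrd y hy hyr
    obtain ⟨m, hm⟩ := hyr
    exact H378.RootTor.mem_of_pow_mem hm (tau_pow f hqe hq hF hy)
      (Nat.Coprime.pow_left m ((Nat.Prime.coprime_iff_not_dvd hr).2 hrd))

/-- **Type `²E₆`.** -/
theorem crossRow_twE6 (r : ℕ) [Fact r.Prime] (F : Type u) [Field F] [Fintype F] [CharP F r] {q : ℕ}
    (hq : IsPrimePow q) (hF : Fintype.card F = q ^ 2) : CrossRow r ↥(twistedE6 F q) := by
  obtain ⟨k, _, _, f, p, hpp, hkp, e', hk, hka, he0', hcF⟩ := H378.TorFin.exists_closure F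
  have hkr : CharP k r := charP_of_injective_ringHom f.injective r
  obtain rfl : r = p := CharP.eq k hkr hkp
  obtain ⟨e, he0, hqe⟩ : ∃ e, 0 < e ∧ q = r ^ e := by
    obtain ⟨r', e, hr', he, rfl⟩ := hq
    have h1 : r' ∣ r ^ e' := by
      rw [← hcF, Nat.card_eq_fintype_card, hF]
      exact (dvd_pow_self r' he.ne').trans (dvd_pow_self _ two_ne_zero)
    have h2 : r' = r := (Nat.prime_dvd_prime_iff_eq hr'.nat_prime hpp.out).1 (hr'.nat_prime.dvd_of_dvd_pow h1)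
    exact ⟨e, he, by rw [h2]⟩
  have cs := CoxeterMatrix.E₆.toCoxeterSystem
  have hW := finite_W e6T cs
  have S := setup_twE6 cs hk f he0 hqe hq hF
  have h1 : (-1 : ℤ) = 1 ∨ (-1 : ℤ) = -1 := Or.inr rfl
  have hQ : (-(q : ℤ)) = -1 * (r ^ e : ℕ) := by rw [hqe]; ring
  have hpos : 0 < q := hq.pos
  have hcard : Nat.gcd 3 (q + 1) * Nat.card ↥(twistedE6 F q) = (r ^ e) ^ 36 *
      (([2, 5, 6, 8, 9, 12].map (fun i => (-(q : ℤ)) ^ i - 1)).prod).natAbs := by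
    rw [S1066.result hq hF, ← hqe]
    have ev : ∀ i : ℕ, Even i → ((-(q : ℤ)) ^ i - 1).natAbs = q ^ i - 1 := by
      intro i hi
      rw [hi.neg_pow]
      have h1 : 1 ≤ q ^ i := Nat.one_le_pow _ _ hpos
      have h2 : ((q : ℕ) : ℤ) ^ i - 1 = ((q ^ i - 1 : ℕ) : ℤ) := by push_cast [Nat.cast_sub h1]; ring
      rw [h2, Int.natAbs_natCast]
    have od : ∀ i : ℕ, Odd i → ((-(q : ℤ)) ^ i - 1).natAbs = q ^ i + 1 := by
      intro i hi
      rw [hi.neg_pow]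
      have h2 : -((q : ℕ) : ℤ) ^ i - 1 = -((q ^ i + 1 : ℕ) : ℤ) := by push_cast; ring
      rw [h2, Int.natAbs_neg, Int.natAbs_natCast]
    simp only [List.map_cons, List.map_nil, List.prod_cons, List.prod_nil, mul_one, Int.natAbs_mul]
    rw [ev 2 (by decide), od 5 (by decide), ev 6 (by decide), ev 8 (by decide), od 9 (by decide), ev 12 (by decide)]
    ring
  refine crossRow_E6_gen cs S hka ?_ h1 hQ (hasTor_tw cs) ?_ (Nat.gcd_dvd_left _ _) hcard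
  · refine commIn_of (TT chevE6 k) (TT_comm e6T) S.fix (fun y hy => ?_) (fun y hy a ha => ?_)
    · obtain ⟨x, t, ht, -, e1⟩ := tau_split f hqe hq hF hy
      exact ⟨x, t, ht, e1⟩
    · exact tau_normal f hqe hq hF hy ha
  · have e1 : (-(q : ℤ)) - 1 = -((q + 1 : ℕ) : ℤ) := by push_cast; ring
    rw [e1, dvd_neg]
    constructor
    · intro h
      exact Nat.dvd_gcd dvd_rfl (by exact_mod_cast h)
    · intro h
      exact_mod_cast h.trans (Nat.gcd_dvd_right _ _)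

end Cfsg.Agent.H630.Exc
end
end

-- part: H630/ExcJ
section
set_option linter.all false
open scoped Cfsg.Agent.FastGrp

/-!
# Twisted tori with `θ = ε R` (helper630)

`R : Module.End ℤ (Fin l → ℤ)` with `θ = ε R`, `R ^ N = 1` (used for `³D₄`).

* `Lq_eqR`, `Setup.torus_annih` : `t ^ |∑ c_j Q^j| = 1` if `∑ c_j R^j = 0`;
* `Setup.pow_eq_oneR` : theorem A;
* `Setup.pow_dvd_card_tXR`, `Setup.exists_torusR` : the order of the torus, for primes `r` with `Q` of order `n ∣ N`.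
-/

set_option autoImplicit false
set_option linter.unusedSectionVars false

namespace Cfsg.Agent.H630.Exc

open CoxeterSystem Cfsg Cfsg.Lie Cfsg.Lie.ChevalleyDatum
open Cfsg.Agent.ChevalleyStructure Cfsg.Agent.ChevalleyStructure.Elts Cfsg.Agent.ChevalleyStructure.CoxeterGeom
  Cfsg.Agent.ChevalleyStructure.CoxeterGeomTypes Cfsg.Agent.ChevalleyStructure.NPerm
open Cfsg.Agent.Tits.Roots Cfsg.Agent.Tits.Core Cfsg.Agent.Nodes Cfsg.Agent.Nodes.Reps Cfsg.Agent.Nodes.BNOf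
  Cfsg.Agent.Nodes.RGDChev Cfsg.Agent.Nodes.Bruhat Cfsg.Agent.Nodes.SubComb Cfsg.Agent.Nodes.Coroot
open Cfsg.Agent.KFacts.RgdField Cfsg.Agent.KFacts.RgdChevCoord Cfsg.Agent.BpExc.TorCent Cfsg.Agent.BpExc.TorChev
open Cfsg.Agent.GpExc.Field Cfsg.Agent.BpExc.Tow Cfsg.Agent.BpExc.TowChev Cfsg.Agent.BpExc.Fr
  Cfsg.Agent.BpExc.LangFr Cfsg.Agent.LangThm Cfsg.Agent.BpExc Cfsg.Agent.H129.TorusChar Cfsg.Agent.H129.TorusMain
open Cfsg.Agent.H129.TorAct (cX_tau tau_mem exists_theta)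
open Cfsg.Agent.H630.NH
open Polynomial (cyclotomic aeval natDegree_cyclotomic)

universe u v

variable {D : ChevalleyDatum} {l : ℕ} {M : CoxeterMatrix (Fin l)} (hp : IsType D l M) {k : Type u} [Field k]
  {W : Type*} [Group W] (cs : CoxeterSystem M W)

variable {p e : ℕ} [Fact p.Prime] [CharP k p] {σ : MulAut ↥(D.group k)} {g : (Fin l → ℤ) ≃+ (Fin l → ℤ)}
  {X : Type v} [Group X] {e0 : X →* ↥(D.group k)} {d : ℕ} (S : Setup hp cs p e σ g e0 d)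

section R

variable {w : W} {R : Module.End ℤ (Fin l → ℤ)} {ε : ℤ}

theorem theta_iterR (h : ∀ x, theta hp cs w g x = ε • R x) (j : ℕ)
    (x : Fin l → ℤ) : (theta hp cs w g)^[j] x = ε ^ j • (R ^ j) x := by
  induction j with
  | zero => rw [Function.iterate_zero_apply, pow_zero, one_smul, pow_zero, Module.End.one_apply]
  | succ j ih => rw [Function.iterate_succ_apply', ih, map_zsmul, h, smul_smul, pow_succ, pow_succ',
      Module.End.mul_apply]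

theorem theta_powR (hε : ε = 1 ∨ ε = -1) (h : ∀ x, theta hp cs w g x = ε • R x) {N : ℕ} (hR : R ^ N = 1)
    (x : Fin l → ℤ) : (theta hp cs w g)^[2 * N] x = x := by
  rw [theta_iterR hp cs h, eps_pow_two hε, one_smul, mul_comm, pow_mul, hR, one_pow, Module.End.one_apply]

theorem Lq_eqR (hε : ε = 1 ∨ ε = -1) (h : ∀ x, theta hp cs w g x = ε • R x)
    {N : ℕ} (hR : R ^ N = 1) (q : ℕ) {Q : ℤ} (hQ : Q = ε * q) (L : (Fin l → ℤ) →+ ℤ) (a : Fin l → ℤ) :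
    Lq L (theta hp cs w g) q (2 * N) a =
      (Q ^ N + 1) * ∑ j ∈ Finset.range N, Q ^ (N - j) * L ((R ^ j) a) := by
  unfold Lq
  have h1 : ∀ j ∈ Finset.range (2 * N), (q : ℤ) ^ (2 * N - j) * L ((theta hp cs w g)^[j] a) =
      Q ^ (2 * N - j) * L ((R ^ j) a) := by
    intro j hj
    rw [Finset.mem_range] at hj
    rw [theta_iterR hp cs h, map_zsmul, smul_eq_mul, hQ, mul_pow, ← mul_assoc]
    congr 1
    rw [mul_comm]
    congr 1
    have h2 := eps_pow_two hε N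
    have h3 : ε ^ (2 * N) = ε ^ (2 * N - j) * ε ^ j := by rw [← pow_add]; congr 1; omega
    rcases hε with rfl | rfl
    · rw [one_pow, one_pow]
    · rw [h2] at h3
      rcases neg_one_pow_eq_or ℤ j with h4 | h4 <;> rw [h4] at h3 ⊢ <;> linarith
  rw [Finset.sum_congr rfl h1, two_mul, Finset.sum_range_add, add_mul, one_mul, Finset.mul_sum]
  congr 1
  · refine Finset.sum_congr rfl fun j hj => ?_
    rw [Finset.mem_range] at hj
    rw [← mul_assoc, ← pow_add]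
    congr 2
    omega
  · refine Finset.sum_congr rfl fun j hj => ?_
    rw [Finset.mem_range] at hj
    rw [pow_add, hR, one_mul]
    congr 2
    omega

/-- `R` on characters of the twisted torus -/
theorem cX_R (hε : ε = 1 ∨ ε = -1) (h : ∀ x, theta hp cs w g x = ε • R x) {Q : ℤ} (hQ : Q = ε * (p ^ e : ℕ))
    {t : ↥(D.group k)} (ht : t ∈ TT D k) (hθ : ∀ x, cX hp t (theta hp cs w g x) = cX hp t x ^ p ^ e)
    (j : ℕ) (x : Fin l → ℤ) : cX hp t ((R ^ j) x) = cX hp t x ^ (Q ^ j) := by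
  have hmc := isMC_cX hp ht
  have h1 : ∀ x, cX hp t (R x) = cX hp t x ^ Q := by
    intro x
    have h2 := hθ x
    rw [h, hmc.zsmul] at h2
    rw [hQ, mul_comm, zpow_mul, zpow_natCast, ← h2, ← zpow_mul]
    rcases hε with rfl | rfl <;> simp
  induction j with
  | zero => rw [pow_zero, pow_zero, Module.End.one_apply, zpow_one]
  | succ j ih => rw [pow_succ', Module.End.mul_apply, h1, ih, pow_succ, zpow_mul]

/-- The exponent of a twisted torus. -/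
theorem torus_annih (hε : ε = 1 ∨ ε = -1) (h : ∀ x, theta hp cs w g x = ε • R x) {Q : ℤ} (hQ : Q = ε * (p ^ e : ℕ))
    {t : ↥(D.group k)} (ht : t ∈ TT D k) (hθ : ∀ x, cX hp t (theta hp cs w g x) = cX hp t x ^ p ^ e)
    {m : ℕ} {c : Fin m → ℤ} (hc : ∀ x, ∑ j : Fin m, c j • (R ^ (j : ℕ)) x = 0) :
    t ^ (∑ j : Fin m, c j * Q ^ (j : ℕ)).natAbs = 1 := by
  have hmc := isMC_cX hp ht
  refine cX_inj hp (pow_mem ht _) (one_mem _) fun i => ?_
  rw [cX_pow hp ht, cX_one]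
  obtain ⟨x, hx⟩ : ∃ x : Fin l → ℤ, x = sr i := ⟨_, rfl⟩
  rw [← hx]
  have h0 := hmc.ne_zero x
  have h1 : cX hp t x ^ (∑ j : Fin m, c j * Q ^ (j : ℕ)) = 1 := by
    have h2 := hmc.sum Finset.univ (fun j : Fin m => c j • (R ^ (j : ℕ)) x)
    rw [hc, hmc.zero] at h2
    rw [h2]
    have h3 : ∀ (s : Finset (Fin m)), cX hp t x ^ (∑ j ∈ s, c j * Q ^ (j : ℕ)) =
        ∏ j ∈ s, cX hp t (c j • (R ^ (j : ℕ)) x) := by
      intro s
      classical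
      induction s using Finset.induction_on with
      | empty => simp
      | insert a s ha ih =>
        rw [Finset.sum_insert ha, Finset.prod_insert ha, zpow_add₀ h0, ih, hmc.zsmul,
          cX_R hp cs hε h hQ ht hθ, ← zpow_mul, mul_comm (Q ^ _)]
    exact h3 Finset.univ
  rw [← zpow_natCast, Int.natCast_natAbs]
  rcases abs_choice (∑ j : Fin m, c j * Q ^ (j : ℕ)) with h4 | h4 <;> rw [h4]
  · exact h1
  · rw [zpow_neg, h1, inv_one]

include S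

/-- **Theorem A.** -/
theorem Setup.pow_eq_oneR [IsAlgClosed k] [Finite W] [Finite X] {π : Set ℕ} {r s : ℕ} (hrp : r.Prime)
    (hsp : s.Prime) (hr : r ∈ π) (hs : s ∈ π) (hrs : r ≠ s) (hrc : r ≠ p) (hrd : ¬ r ∣ d) (hr2 : r ≠ 2)
    (hε : ε = 1 ∨ ε = -1) (h : ∀ x, theta hp cs w g x = ε • R x) {N : ℕ} (hR : R ^ N = 1) {Q : ℤ}
    (hQ : Q = ε * (p ^ e : ℕ)) (hrQ : (r : ℤ) ∣ Q ^ N - 1)
    (hreg : ∀ a, IsRoot cs hp.isCartan a → ∃ L : (Fin l → ℤ) →+ ℤ,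
      ¬ (r : ℤ) ∣ ∑ j ∈ Finset.range N, Q ^ (N - j) * L ((R ^ j) a))
    {m : ℕ} {c : Fin m → ℤ} (hc' : ∀ x, ∑ j : Fin m, c j • (R ^ (j : ℕ)) x = 0)
    (hc : Cond π X) {y : X} (hy : ∃ m, orderOf y = s ^ m) : y ^ (∑ j : Fin m, c j * Q ^ (j : ℕ)).natAbs = 1 := by
  have hrZ := Nat.prime_iff_prime_int.1 hrp
  refine S.pow_eq_one hp cs hrp hsp hr hs hrs hrc hrd w (n := 2 * N) (theta_powR hp cs hε h hR) ?_ (fun a ha => ?_)
    (fun t ht hθ => torus_annih hp cs hε h hQ ht hθ hc') hc hy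
  · have h1 : ((p ^ e : ℕ) : ℤ) ^ (2 * N) = Q ^ (2 * N) := by rw [hQ, mul_pow, eps_pow_two hε, one_mul]
    rw [h1]
    refine hrQ.trans ⟨Q ^ N + 1, ?_⟩
    ring
  · obtain ⟨L, hL⟩ := hreg a ha
    refine ⟨L, fun h1 => ?_⟩
    rw [Lq_eqR hp cs hε h hR _ hQ] at h1
    rcases hrZ.dvd_mul.1 h1 with h2 | h2
    · have h3 : (r : ℤ) ∣ 2 := by
        have h4 := dvd_sub h2 hrQ
        have h5 : Q ^ N + 1 - (Q ^ N - 1) = 2 := by ring
        rwa [h5] at h4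
      have h4 : r ∣ 2 := by exact_mod_cast h3
      exact hr2 ((Nat.prime_dvd_prime_iff_eq hrp Nat.prime_two).1 h4)
    · exact hL h2

open Polynomial in
/-- **The order of a twisted torus.** -/
theorem Setup.pow_dvd_card_tXR [IsAlgClosed k] [Finite W] [Finite X] {hN : NSys M (TT D k) (nc hp k)}
    (hε : ε = 1 ∨ ε = -1) (h : ∀ x, theta hp cs w g x = ε • R x)
    {n' z : ↥(D.group k)} (hn' : Rp cs hN w n') (hz : n' = z⁻¹ * σ z) {r : ℕ} (hr : r.Prime) (hrp : r ≠ p)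
    (hrd : ¬ r ∣ d) (hr2 : r ≠ 2) {Q : ℤ} (hQ : Q = ε * (p ^ e : ℕ)) {n N : ℕ} (hn : orderOf (Q : ZMod r) = n)
    (hR : R ^ N = 1) (hnN : n ∣ N) (hrN : ¬ r ∣ N)
    {a : ℕ} (x : Fin a → Fin l → ℤ) (y : Fin a → ((Fin l → ℤ) →ₗ[ℤ] ℤ)) (c : ℤ)
    (hc : ¬ (r : ℤ) ∣ c) (hx : ∀ i, aeval R (cyclotomic n ℤ) (x i) = 0)
    (hy : ∀ i i', ∀ j < (cyclotomic n ℤ).natDegree, y i ((R ^ j) (x i')) =
      if i = i' ∧ j + 1 = (cyclotomic n ℤ).natDegree then c else 0)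
    {v : ℕ} (hv : ((r ^ v : ℕ) : ℤ) ∣ (cyclotomic n ℤ).eval Q) : (r ^ v) ^ a ∣ Nat.card (tX D k e0 z) := by
  classical
  have : Fact r.Prime := ⟨hr⟩
  obtain ⟨m, hm⟩ : ∃ m, m = r ^ v := ⟨_, rfl⟩
  rw [← hm] at hv ⊢
  have hrZ := Nat.prime_iff_prime_int.1 hr
  have hpp : p.Prime := Fact.out
  have hcr : ¬ r ∣ p := fun h => hrp ((Nat.prime_dvd_prime_iff_eq hr hpp).1 h)
  have hQr : ¬ (r : ℤ) ∣ Q := by
    intro h2
    apply hcr
    have h3 : r ∣ Q.natAbs := Int.natCast_dvd.1 h2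
    have h4 : Q.natAbs = p ^ e := by
      rw [hQ, Int.natAbs_mul]
      rcases hε with rfl | rfl <;> simp
    rw [h4] at h3
    exact hr.dvd_of_dvd_pow h3
  have hn0 : 0 < n := by rw [← hn]; exact ord_pos hr hQr
  have hrk : (r : k) ≠ 0 := by
    rw [Ne, CharP.cast_eq_zero_iff k p]
    intro h
    exact hrp ((Nat.prime_dvd_prime_iff_eq hpp hr).1 h).symm
  have hmk : (m : k) ≠ 0 := by rw [hm, Nat.cast_pow]; exact pow_ne_zero _ hrk
  have hm0 : 0 < m := by rw [hm]; exact pow_pos hr.pos _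
  have hmQn : (m : ℤ) ∣ Q ^ N - 1 := by
    have h1 : (cyclotomic n ℤ) ∣ Polynomial.X ^ n - 1 := cyclotomic.dvd_X_pow_sub_one n ℤ
    have h2 := eval_dvd (x := Q) h1
    rw [eval_sub, eval_pow, eval_X, eval_one] at h2
    obtain ⟨N', rfl⟩ := hnN
    have h3 : Q ^ n - 1 ∣ Q ^ (n * N') - 1 := by
      rw [pow_mul]
      have := sub_dvd_pow_sub_pow (Q ^ n) 1 N'
      rwa [one_pow] at this
    exact (hv.trans h2).trans h3
  have hmq : (m : ℤ) ∣ ((p ^ e : ℕ) : ℤ) ^ (2 * N) - 1 := by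
    have h1 : ((p ^ e : ℕ) : ℤ) ^ (2 * N) = Q ^ (2 * N) := by rw [hQ, mul_pow, eps_pow_two hε, one_mul]
    rw [h1]
    exact hmQn.trans ⟨Q ^ N + 1, by ring⟩
  have hθ : ∀ x, (theta hp cs w g)^[2 * N] x = x := theta_powR hp cs hε h hR
  obtain ⟨B, d', hd', hB⟩ := S.inv
  obtain ⟨ζ, hζ, hz0, hchar⟩ := exists_char hp hB hd' (q := p ^ e) (n := 2 * N) hθ hmk hmq
  -- the elements of `X`
  have hex : ∀ c' : Fin a → Fin m, ∃ x' : X, x' ∈ tXr hp S.inj z m ∧ ∀ b, cX hp (z⁻¹ * e0 x' * z) b =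
      ζ ^ Lq (∑ i, ((c' i : ℕ) : ℤ) • (y i).toAddMonoidHom) (theta hp cs w g) (p ^ e) (2 * N) b := by
    intro c'
    obtain ⟨t, ht, h1, h2, h3⟩ := hchar (∑ i, ((c' i : ℕ) : ℤ) • (y i).toAddMonoidHom)
    obtain ⟨x', hx'⟩ := S.exists_of_tau hp cs hz ((tau_iff hp cs S.lf S.frob S.fr hn' ht).2 h1) hr hrd ⟨v, by
      rw [← hm]; exact h2⟩
    refine ⟨x', ⟨by rw [mem_tX, hx']; exact ht, ?_⟩, fun b => by rw [hx', h3]⟩
    apply S.inj
    have h4 := S.conj_pow_eq hp cs (y := x') (z := z) m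
    rw [hx', h2] at h4
    rw [map_one]
    have h5 : e0 (x' ^ m) = z * (z⁻¹ * e0 (x' ^ m) * z) * z⁻¹ := by group
    rw [h5, ← h4]; group
  choose F hF1 hF2 using hex
  -- injectivity
  have hPm : (cyclotomic n ℤ).Monic := cyclotomic.monic n ℤ
  have hPd : 0 < (cyclotomic n ℤ).natDegree := by
    rw [natDegree_cyclotomic]
    exact Nat.totient_pos.2 hn0
  have hinj : Function.Injective F := by
    intro c1 c2 he
    funext i
    have h1 : ∀ b, (m : ℤ) ∣ Lq (∑ i, ((c1 i : ℕ) : ℤ) • (y i).toAddMonoidHom) (theta hp cs w g) (p ^ e) (2 * N) b -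
        Lq (∑ i, ((c2 i : ℕ) : ℤ) • (y i).toAddMonoidHom) (theta hp cs w g) (p ^ e) (2 * N) b := by
      intro b
      rw [← hζ.zpow_eq_one_iff_dvd, zpow_sub₀ hz0, div_eq_one_iff_eq (zpow_ne_zero _ hz0), ← hF2, ← hF2, he]
    have h2 : ∀ c' : Fin a → Fin m, ∃ u : ℤ,
        Lq (∑ i, ((c' i : ℕ) : ℤ) • (y i).toAddMonoidHom) (theta hp cs w g) (p ^ e) (2 * N)
          (aeval R (cyclotomic n ℤ /ₘ (Polynomial.X - C Q)) (x i)) =
          ((Q ^ N + 1) * (N * Q ^ N * c)) * ((c' i : ℕ) : ℤ) + m * u := by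
      intro c'
      set L : (Fin l → ℤ) →+ ℤ := ∑ i, ((c' i : ℕ) : ℤ) • (y i).toAddMonoidHom with hL
      set zi := aeval R (cyclotomic n ℤ /ₘ (Polynomial.X - C Q)) (x i) with hzi
      have hLz : L zi = c * ((c' i : ℕ) : ℤ) := by
        rw [hL, AddMonoidHom.finsetSum_apply]
        have h3 : ∀ i', y i' zi = if i' = i then c else 0 := by
          intro i'
          refine H130.Cok.functional hPm hPd Q (y i') (x i) _ fun j hj => ?_
          rw [hy i' i j hj]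
          by_cases h : i' = i
          · simp [h]
          · simp [h]
        rw [Finset.sum_eq_single i]
        · show ((c' i : ℕ) : ℤ) * y i zi = _
          rw [h3, if_pos rfl, mul_comm]
        · intro i' _ hi'
          show ((c' i' : ℕ) : ℤ) * y i' zi = 0
          rw [h3, if_neg hi', mul_zero]
        · intro h; exact absurd (Finset.mem_univ _) h
      have h3 : ∀ j : ℕ, ∃ u : ℤ, L ((R ^ j) zi) = Q ^ j * L zi + m * u := by
        intro j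
        obtain ⟨u, hu⟩ := exists_eig hv (hx i) j
        exact ⟨L u, by rw [hzi, hu, map_add, map_zsmul, map_zsmul, smul_eq_mul, smul_eq_mul]⟩
      choose u hu using h3
      refine ⟨(Q ^ N + 1) * ∑ j ∈ Finset.range N, Q ^ (N - j) * u j, ?_⟩
      rw [Lq_eqR hp cs hε h hR _ hQ]
      have h4 : ∀ j ∈ Finset.range N, Q ^ (N - j) * L ((R ^ j) zi) =
          Q ^ N * L zi + m * (Q ^ (N - j) * u j) := by
        intro j hj
        rw [Finset.mem_range] at hj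
        rw [hu j, mul_add, ← mul_assoc, ← pow_add, Nat.sub_add_cancel hj.le]
        ring
      rw [Finset.sum_congr rfl h4, Finset.sum_add_distrib, Finset.sum_const, Finset.card_range, ← Finset.mul_sum, hLz,
        nsmul_eq_mul]
      ring
    obtain ⟨u1, hu1⟩ := h2 c1
    obtain ⟨u2, hu2⟩ := h2 c2
    have h3 := h1 (aeval R (cyclotomic n ℤ /ₘ (Polynomial.X - C Q)) (x i))
    rw [hu1, hu2] at h3
    have h4 : (m : ℤ) ∣ ((Q ^ N + 1) * (N * Q ^ N * c)) * (((c1 i : ℕ) : ℤ) - ((c2 i : ℕ) : ℤ)) := by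
      have h5 := dvd_sub h3 (dvd_mul_right (m : ℤ) (u1 - u2))
      have h6 : (Q ^ N + 1) * (N * Q ^ N * c) * ((c1 i : ℕ) : ℤ) + m * u1 -
        ((Q ^ N + 1) * (N * Q ^ N * c) * ((c2 i : ℕ) : ℤ) + m * u2) - m * (u1 - u2) =
        ((Q ^ N + 1) * (N * Q ^ N * c)) * (((c1 i : ℕ) : ℤ) - ((c2 i : ℕ) : ℤ)) := by ring
      rwa [h6] at h5
    have hcop : IsCoprime (m : ℤ) ((Q ^ N + 1) * (N * Q ^ N * c)) := by
      rw [hm, Nat.cast_pow]
      apply IsCoprime.pow_left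
      rw [hrZ.irreducible.coprime_iff_not_dvd]
      intro h
      rcases hrZ.dvd_mul.1 h with h | h
      · have h3 : (r : ℤ) ∣ Q ^ N - 1 := (dvd_pow_sub_one_iff N).2 (by rw [hn]; exact hnN)
        have h4 := dvd_sub h h3
        have h5 : Q ^ N + 1 - (Q ^ N - 1) = 2 := by ring
        rw [h5] at h4
        have h6 : r ∣ 2 := by exact_mod_cast h4
        exact hr2 ((Nat.prime_dvd_prime_iff_eq hr Nat.prime_two).1 h6)
      · rcases hrZ.dvd_mul.1 h with h | h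
        · rcases hrZ.dvd_mul.1 h with h | h
          · exact hrN (Int.natCast_dvd_natCast.1 h)
          · exact hQr (hrZ.dvd_of_dvd_pow h)
        · exact hc h
    have h5 := hcop.dvd_of_dvd_mul_left h4
    apply Fin.ext
    have h6 : ((c1 i : ℕ) : ℤ) - ((c2 i : ℕ) : ℤ) = 0 := by
      apply Int.eq_zero_of_abs_lt_dvd h5
      have := (c1 i).2
      have := (c2 i).2
      rw [abs_lt]
      constructor <;> omega
    omega
  -- counting
  have hK : IsPGroup r (tXr hp S.inj z m) := by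
    rintro ⟨x', hx'⟩
    exact ⟨v, Subtype.ext (by rw [← hm]; exact hx'.2)⟩
  obtain ⟨j, hj⟩ := IsPGroup.iff_card.1 hK
  have hle : m ^ a ≤ Nat.card (tXr hp S.inj z m) := by
    have h1 : Nat.card (Fin a → Fin m) = m ^ a := by
      rw [Nat.card_fun, Nat.card_fin, Nat.card_fin]
    rw [← h1]
    exact Nat.card_le_card_of_injective (fun c' => (⟨F c', hF1 c'⟩ : tXr hp S.inj z m)) fun c1 c2 h =>
      hinj (congrArg Subtype.val h)
  have h1 : m ^ a ∣ Nat.card (tXr hp S.inj z m) := by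
    rw [hj] at hle ⊢
    rw [hm, ← pow_mul] at hle ⊢
    exact pow_dvd_pow r ((Nat.pow_le_pow_iff_right hr.one_lt).1 hle)
  exact h1.trans (Subgroup.card_dvd_of_le fun x' hx' => hx'.1)

open Polynomial in
/-- **The abelian subgroup.** -/
theorem Setup.exists_torusR [IsAlgClosed k] [Finite W] [Finite X] (hε : ε = 1 ∨ ε = -1)
    (h : ∀ x, theta hp cs w g x = ε • R x) {Q : ℤ} (hQ : Q = ε * (p ^ e : ℕ)) {n N : ℕ} (hn0 : 0 < n)
    (hR : R ^ N = 1) (hnN : n ∣ N) {a : ℕ} (x : Fin a → Fin l → ℤ) (y : Fin a → ((Fin l → ℤ) →ₗ[ℤ] ℤ)) (c : ℤ)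
    (hx : ∀ i, aeval R (cyclotomic n ℤ) (x i) = 0)
    (hy : ∀ i i', ∀ j < (cyclotomic n ℤ).natDegree, y i ((R ^ j) (x i')) =
      if i = i' ∧ j + 1 = (cyclotomic n ℤ).natDegree then c else 0)
    {fs : ℤ} {N' g' : ℕ} (hcard : g' * Nat.card X = (p ^ e) ^ N' * fs.natAbs) {π : Set ℕ}
    (hπ : ∀ r ∈ π, r.Prime ∧ r ≠ 2 ∧ r ≠ p ∧ ¬ r ∣ d ∧ orderOf (Q : ZMod r) = n ∧ ¬ r ∣ N ∧ ¬ (r : ℤ) ∣ c ∧
      ∃ R', fs = (cyclotomic n ℤ).eval Q ^ a * R' ∧ ¬ (r : ℤ) ∣ R') :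
    ∃ T : Subgroup X, IsMulCommutative T ∧ ∀ r ∈ π, ¬ r ∣ T.index := by
  have hNs := S.nsys hp cs
  obtain ⟨n', hn'⟩ := exists_rp cs hNs w
  obtain ⟨z, hz⟩ := lang_all hp cs S.pos S.frob S.fr 1 n'
  rw [map_one, one_mul] at hz
  refine ⟨tX D k e0 z, ⟨⟨fun a b => Subtype.ext (tX_comm hp S.inj z a.2 b.2)⟩⟩, fun r hr => ?_⟩
  obtain ⟨hrp, hr2, hrc, hrd, hrn, hrN, hcr, hR'⟩ := hπ r hr
  have hQ1 : 1 < Q.natAbs := by
    have h4 : Q.natAbs = p ^ e := by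
      rw [hQ, Int.natAbs_mul]
      rcases hε with rfl | rfl <;> simp
    rw [h4]
    exact Nat.one_lt_pow S.pos.ne' (Fact.out : p.Prime).one_lt
  obtain ⟨v, b, hv, hb⟩ := exists_part hrp (cyclotomic_eval_ne_zero hn0 hQ1)
  refine not_dvd_index _ hrp hR' (fun h => ?_) hcard hv hb
    (S.pow_dvd_card_tXR hp cs hε h hn' hz hrp hrc hrd hr2 hQ hrn hR hnN hrN x y c hcr hx hy (v := v) ⟨b, hv⟩)
  exact hrc ((Nat.prime_dvd_prime_iff_eq hrp (Fact.out : p.Prime)).1 (hrp.dvd_of_dvd_pow h))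

end R

end Cfsg.Agent.H630.Exc
end

-- part: H630/ExcRowsD
section
set_option linter.all false
open scoped Cfsg.Agent.FastGrp

-- part: H630/ExcK
section
/-!
# Torsion of twisted tori given by eigenvectors; polynomials on lists (helper630)

* `exists_torsionL` : the element `ζ ^ L` for `L (θ x) ≡ q L(x)`;
* `RegT`, `Setup.pow_eq_oneT`, `Setup.not_cond_BT` : theorems A and B for general torsion elements;
* `polyL`, `itL` : polynomials in an endomorphism on lists; `regR_of_ck`.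
-/

set_option autoImplicit false
set_option linter.unusedSectionVars false

namespace Cfsg.Agent.H630.Exc

open CoxeterSystem Cfsg Cfsg.Lie Cfsg.Lie.ChevalleyDatum
open Cfsg.Agent.ChevalleyStructure Cfsg.Agent.ChevalleyStructure.Elts Cfsg.Agent.ChevalleyStructure.CoxeterGeom
  Cfsg.Agent.ChevalleyStructure.CoxeterGeomTypes Cfsg.Agent.ChevalleyStructure.NPerm
open Cfsg.Agent.Tits.Roots Cfsg.Agent.Tits.Core Cfsg.Agent.Nodes Cfsg.Agent.Nodes.Reps Cfsg.Agent.Nodes.BNOf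
  Cfsg.Agent.Nodes.RGDChev Cfsg.Agent.Nodes.Bruhat Cfsg.Agent.Nodes.SubComb Cfsg.Agent.Nodes.Coroot
open Cfsg.Agent.KFacts.RgdField Cfsg.Agent.KFacts.RgdChevCoord Cfsg.Agent.BpExc.TorCent Cfsg.Agent.BpExc.TorChev
open Cfsg.Agent.GpExc.Field Cfsg.Agent.BpExc.Tow Cfsg.Agent.BpExc.TowChev Cfsg.Agent.BpExc.Fr
  Cfsg.Agent.BpExc.LangFr Cfsg.Agent.LangThm Cfsg.Agent.BpExc Cfsg.Agent.H129.TorusChar Cfsg.Agent.H129.TorusMain
open Cfsg.Agent.H129.TorAct (cX_tau tau_mem exists_theta)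
open Cfsg.Agent.H630.NH Cfsg.Agent.H130.WeylCk Cfsg.Agent.H130.PolyL

universe u v

section T

variable {D : ChevalleyDatum} {l : ℕ} {M : CoxeterMatrix (Fin l)} (hp : IsType D l M) {k : Type u} [Field k]
  {W : Type*} [Group W] (cs : CoxeterSystem M W)

/-- **Torsion elements from eigenvectors.** -/
theorem exists_torsionL [IsAlgClosed k] {d' : ℕ} {B' : Fin l → Fin l → ℤ} (hB : InvC D l d' B') (hd' : d' ≠ 0)
    {θ : (Fin l → ℤ) →+ (Fin l → ℤ)} {q : ℕ} {r : ℕ} (hr : (r : k) ≠ 0) (L : (Fin l → ℤ) →+ ℤ)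
    (hL : ∀ x, (r : ℤ) ∣ L (θ x) - q * L x) :
    ∃ t ∈ TT D k, (∀ x, cX hp t (θ x) = cX hp t x ^ q) ∧ t ^ r = 1 ∧ ∀ x, cX hp t x = 1 ↔ (r : ℤ) ∣ L x := by
  have hr0 : NeZero (r : k) := ⟨hr⟩
  obtain ⟨ζ, hζ⟩ := HasEnoughRootsOfUnity.exists_primitiveRoot k r
  have hz0 : ζ ≠ 0 := by
    rintro rfl
    have h1 := hζ.pow_eq_one
    have h2 : r ≠ 0 := by rintro rfl; exact hr Nat.cast_zero
    rw [zero_pow h2] at h1
    exact zero_ne_one h1
  have hφ : IsMC (fun x : Fin l → ℤ => ζ ^ L x) := by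
    refine ⟨?_, fun x y => ?_⟩
    · show ζ ^ L 0 = 1
      rw [map_zero, zpow_zero]
    · show ζ ^ L (x + y) = _
      rw [map_add, zpow_add₀ hz0]
  obtain ⟨t, ht, hc⟩ := exists_cX hp hB hd' hφ (fun i => IsAlgClosed.exists_pow_nat_eq _ (Nat.pos_of_ne_zero hd'))
  refine ⟨t, ht, fun x => ?_, ?_, fun x => ?_⟩
  · rw [hc, hc, ← zpow_natCast, ← zpow_mul]
    have h2 : ζ ^ (L (θ x) - q * L x) = 1 := (hζ.zpow_eq_one_iff_dvd _).2 (hL x)
    rw [zpow_sub₀ hz0, div_eq_one_iff_eq (zpow_ne_zero _ hz0)] at h2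
    rw [h2, mul_comm]
  · refine cX_inj hp (pow_mem ht r) (one_mem _) fun i => ?_
    rw [cX_pow hp ht, cX_one, hc, ← zpow_natCast, ← zpow_mul, mul_comm, zpow_mul, zpow_natCast, hζ.pow_eq_one, one_zpow]
  · rw [hc]
    exact hζ.zpow_eq_one_iff_dvd _

/-- every root is nontrivial on the elements of exponent `r` of the torus -/
def RegT (k : Type u) [Field k] (hp : IsType D l M) (cs : CoxeterSystem M W) (w : W)
    (g : (Fin l → ℤ) ≃+ (Fin l → ℤ)) (q r : ℕ) : Prop :=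
  ∀ a, IsRoot cs hp.isCartan a → ∃ t ∈ TT D k, (∀ x, cX hp t (theta hp cs w g x) = cX hp t x ^ q) ∧
    t ^ r = 1 ∧ cX hp t a ≠ 1

variable {p e : ℕ} [Fact p.Prime] [CharP k p] {σ : MulAut ↥(D.group k)} {g : (Fin l → ℤ) ≃+ (Fin l → ℤ)}
  {X : Type v} [Group X] {e0 : X →* ↥(D.group k)} {d : ℕ} (S : Setup hp cs p e σ g e0 d)

include S

/-- the elements of `X` -/
theorem Setup.exists_of_torsion [IsAlgClosed k] [Finite W] {hN : NSys M (TT D k) (nc hp k)} {w : W} {n' z : ↥(D.group k)}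
    (hn' : Rp cs hN w n') (hz : n' = z⁻¹ * σ z) {r : ℕ} (hr : r.Prime) (hrd : ¬ r ∣ d) {t : ↥(D.group k)}
    (ht : t ∈ TT D k) (h1 : ∀ x, cX hp t (theta hp cs w g x) = cX hp t x ^ p ^ e) {j : ℕ} (h2 : t ^ r ^ j = 1) :
    ∃ x : X, z⁻¹ * e0 x * z = t ∧ x ^ r ^ j = 1 := by
  obtain ⟨x, hx⟩ := S.exists_of_tau hp cs hz ((tau_iff hp cs S.lf S.frob S.fr hn' ht).2 h1) hr hrd ⟨j, h2⟩
  refine ⟨x, hx, ?_⟩
  apply S.inj
  rw [map_pow, map_one]
  have h1 : e0 x = z * t * z⁻¹ := by rw [← hx]; group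
  rw [h1, conj_pow, h2]; group

/-- **Theorem A.** -/
theorem Setup.pow_eq_oneT [IsAlgClosed k] [Finite W] [Finite X] {π : Set ℕ} {r s : ℕ} (hrp : r.Prime) (hsp : s.Prime)
    (hr : r ∈ π) (hs : s ∈ π) (hrs : r ≠ s) (hrd : ¬ r ∣ d) (w : W) (hreg : RegT k hp cs w g (p ^ e) r)
    {N : ℕ} (hN : ∀ t ∈ TT D k, (∀ x, cX hp t (theta hp cs w g x) = cX hp t x ^ p ^ e) → t ^ N = 1)
    (hc : Cond π X) {y : X} (hy : ∃ m, orderOf y = s ^ m) : y ^ N = 1 := by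
  have : Fact r.Prime := ⟨hrp⟩
  have hNs := S.nsys hp cs
  obtain ⟨n', hn'⟩ := exists_rp cs hNs w
  obtain ⟨z, hz⟩ := lang_all hp cs S.pos S.frob S.fr 1 n'
  rw [map_one, one_mul] at hz
  refine S.pow_eq_one_of hp cs hrp hsp hr hs hrs hn' hz (tXr hp S.inj z r) ?_ (fun x hx => hx.1) ?_ hN hc hy
  · rintro ⟨x, hx⟩
    exact ⟨1, Subtype.ext (by rw [pow_one]; exact hx.2)⟩
  · intro a ha
    obtain ⟨t, ht, h1, h2, h3⟩ := hreg a ha
    obtain ⟨x, hx, hx1⟩ := S.exists_of_torsion hp cs hn' hz hrp hrd ht h1 (j := 1) (by rw [pow_one]; exact h2)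
    rw [pow_one] at hx1
    exact ⟨x, ⟨by rw [mem_tX, hx]; exact ht, hx1⟩, by rw [hx]; exact h3⟩

/-- **Theorem B.** -/
theorem Setup.not_cond_BT [IsAlgClosed k] [Finite W] [Finite X] {π : Set ℕ} {r s' : ℕ} (hrp : r.Prime)
    (hsp : s'.Prime) (hr : r ∈ π) (hs' : s' ∈ π) (hrs : r ≠ s') (hrd : ¬ r ∣ d) (hsX : s' ∣ Nat.card X) (w : W)
    {n : ℕ} (hn0 : 0 < n) (hθ : ∀ x, (theta hp cs w g)^[n] x = x) (hreg : RegT k hp cs w g (p ^ e) r)
    {s : W} (hs : ∀ x, rep cs hp.isCartan s (theta hp cs w g x) = theta hp cs w g (rep cs hp.isCartan s x))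
    {j : ℕ} (hsr : s ^ r ^ j = 1)
    (hfree : ∀ t ∈ TT D k, (∀ x, cX hp t (theta hp cs w g x) = cX hp t x ^ p ^ e) → t ^ s' = 1 →
      (∀ x, cX hp t (rep cs hp.isCartan s x) = cX hp t x) → t = 1) : ¬ Cond π X := by
  have : Fact r.Prime := ⟨hrp⟩
  have : Fact s'.Prime := ⟨hsp⟩
  have hNs := S.nsys hp cs
  obtain ⟨n', hn'⟩ := exists_rp cs hNs w
  obtain ⟨z, hz⟩ := lang_all hp cs S.pos S.frob S.fr 1 n'
  rw [map_one, one_mul] at hz
  obtain ⟨x, hx, hxs⟩ := S.exists_rep hp cs hn0 hθ hn' hz hs hrp hrd hsr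
  refine not_cond_of_centralizer hr hs' hrs hsX _ (isPGroup_E hp cs S.inj hx hxs) ?_
  intro y hy hyc
  have hcs : (z⁻¹ * e0 y * z) ^ s' = 1 := by
    rw [S.conj_pow_eq hp cs, ← hy, pow_orderOf_eq_one, map_one]
    group
  have hyT : z⁻¹ * e0 y * z ∈ TT D k := by
    refine mem_TT_of_pow hp cs S.lf p hNs (A := (fun x : X => z⁻¹ * e0 x * z) '' (tXr hp S.inj z r : Set X))
      ((Set.toFinite _).image _) ?_ ?_ (r := r) ?_ hsp.pos ((Nat.coprime_primes hsp hrp).2 (Ne.symm hrs)) ?_ hcs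
    · rintro _ ⟨x, hx, rfl⟩
      exact hx.1
    · intro a ha
      obtain ⟨t, ht, h1, h2, h3⟩ := hreg a ha
      obtain ⟨x, hx, hx1⟩ := S.exists_of_torsion hp cs hn' hz hrp hrd ht h1 (j := 1) (by rw [pow_one]; exact h2)
      rw [pow_one] at hx1
      refine ⟨_, ⟨x, ⟨by rw [mem_tX, hx]; exact ht, hx1⟩, rfl⟩, ?_⟩
      show cX hp (z⁻¹ * e0 x * z) a ≠ 1
      rw [hx]; exact h3
    · rintro _ ⟨x, hx, rfl⟩
      show (z⁻¹ * e0 x * z) ^ r = 1
      rw [S.conj_pow_eq hp cs, hx.2, map_one]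
      group
    · rintro _ ⟨x, hx, rfl⟩
      have h2 := hyc x (Subgroup.mem_sup_right hx)
      calc z⁻¹ * e0 y * z * (z⁻¹ * e0 x * z) = z⁻¹ * (e0 (y * x)) * z := by rw [map_mul]; group
        _ = z⁻¹ * (e0 (x * y)) * z := by rw [h2]
        _ = _ := by rw [map_mul]; group
  have h1 : z⁻¹ * e0 y * z = 1 := by
    refine hfree _ hyT ((tau_iff hp cs S.lf S.frob S.fr hn' hyT).1 (S.tau hp cs hz y)) hcs ?_
    refine fix_of_rp hp cs S.lf p hxs hyT ?_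
    have h2 := hyc x (Subgroup.mem_sup_left (Subgroup.mem_zpowers x))
    calc z⁻¹ * e0 x * z * (z⁻¹ * e0 y * z) = z⁻¹ * (e0 (x * y)) * z := by rw [map_mul]; group
      _ = z⁻¹ * (e0 (y * x)) * z := by rw [h2]
      _ = _ := by rw [map_mul]; group
  have h4 : e0 y = 1 := by
    have : e0 y = z * (z⁻¹ * e0 y * z) * z⁻¹ := by group
    rw [this, h1]; group
  have h5 : y = 1 := S.inj (by rw [h4, map_one])
  rw [h5, orderOf_one] at hy
  exact hsp.one_lt.ne hy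

end T

/-! ### polynomials on lists -/

section Lists

variable {l : ℕ}

/-- polynomials in an endomorphism, on lists -/
def polyL (l : ℕ) (m : List (List ℤ)) : List ℤ → List ℤ → List ℤ
  | [], _ => List.replicate l 0
  | c :: cs, v => addV (v.map (fun x => c * x)) (polyL l m cs (lc l v m))

/-- iterates, on lists -/
def itL (l : ℕ) (m : List (List ℤ)) : ℕ → List ℤ → List ℤ
  | 0, v => v
  | n + 1, v => itL l m n (lc l v m)

theorem length_polyL {m : List (List ℤ)} (hb : ∀ b ∈ m, b.length = l) : ∀ (cs v : List ℤ), v.length = l →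
    (polyL l m cs v).length = l
  | [], v, _ => by rw [polyL, List.length_replicate]
  | c :: cs, v, hv => by
    have h1 := length_polyL hb cs (lc l v m) (length_lc _ _ hb)
    rw [polyL, length_addV _ _ (by rw [List.length_map, hv, h1]), h1]

open Polynomial in
theorem toFn_polyL {R : Module.End ℤ (Fin l → ℤ)} {m : List (List ℤ)} (hm : m.length = l) (hb : ∀ b ∈ m, b.length = l)
    (h : ∀ i : Fin l, R (Pi.single i 1) = _root_.Cfsg.Agent.H130.WeylCk.toFn l (m.getD i [])) : ∀ (cs v : List ℤ), v.length = l →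
    _root_.Cfsg.Agent.H130.WeylCk.toFn l (polyL l m cs v) = aeval R (ofL cs) (_root_.Cfsg.Agent.H130.WeylCk.toFn l v)
  | [], v, _ => by rw [polyL, toFn_replicate, ofL, map_zero, LinearMap.zero_apply]
  | c :: cs, v, hv => by
    have h1 := length_polyL hb cs (lc l v m) (length_lc _ _ hb)
    rw [polyL, toFn_addV _ _ (by rw [List.length_map, hv]) h1, toFn_smul,
      toFn_polyL hm hb h cs _ (length_lc _ _ hb), toFn_lin hm hb h hv, ofL, map_add, mul_comm X, map_mul, aeval_X,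
      LinearMap.add_apply, Module.End.mul_apply, aeval_C]
    rfl

theorem toFn_itL {R : Module.End ℤ (Fin l → ℤ)} {m : List (List ℤ)} (hm : m.length = l) (hb : ∀ b ∈ m, b.length = l)
    (h : ∀ i : Fin l, R (Pi.single i 1) = toFn l (m.getD i [])) : ∀ (n : ℕ) (v : List ℤ), v.length = l →
    (itL l m n v).length = l ∧ toFn l (itL l m n v) = (R ^ n) (toFn l v)
  | 0, v, hv => ⟨hv, by rw [itL, pow_zero, Module.End.one_apply]⟩
  | n + 1, v, hv => by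
    obtain ⟨h1, h2⟩ := toFn_itL hm hb h n (lc l v m) (length_lc _ _ hb)
    exact ⟨h1, by rw [itL, h2, toFn_lin hm hb h hv, pow_succ, Module.End.mul_apply]⟩

theorem end_ext {R R' : Module.End ℤ (Fin l → ℤ)} (h : ∀ i : Fin l, R (toFn l (bas l i)) = R' (toFn l (bas l i))) :
    R = R' := by
  apply LinearMap.pi_ext'
  intro i
  apply LinearMap.ext_ring
  have := h i
  rw [toFn_bas] at this
  exact this

/-- the check: `R` with the matrix `m` is regular modulo the primes not dividing `N0` -/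
def RegRCk (D : ChevalleyDatum) (l : ℕ) (Bl : List (List ℤ)) (n : ℕ) (m : List (List ℤ))
    (K : List (List ℤ × List ℤ × List ℤ × ℤ)) (N0 : ℤ) : Prop :=
  (m.length = l ∧ Bl.length = l ∧ (∀ b ∈ m, b.length = l) ∧ (∀ b ∈ Bl, b.length = l)) ∧
  (∀ v ∈ rootL D l, gl l m (lc l v Bl) n v [] ∈ K.map Prod.fst) ∧
  (∀ t ∈ K, eqL (addL (mulL t.2.1 t.1) (mulL t.2.2.1 (cycL n))) [t.2.2.2] = true ∧ t.2.2.2 ∣ N0)

instance decRegRCk (D : ChevalleyDatum) (l : ℕ) (Bl : List (List ℤ)) (n : ℕ)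
    (m : List (List ℤ)) (K : List (List ℤ × List ℤ × List ℤ × ℤ)) (N0 : ℤ) :
    Decidable (RegRCk D l Bl n m K N0) := by
  unfold RegRCk
  infer_instance

/-- **Regularity from a table.** -/
theorem regR_of_ck {D : ChevalleyDatum} {M : CoxeterMatrix (Fin l)} (hp : IsType D l M)
    {W : Type*} [Group W] (cs : CoxeterSystem M W) {R : Module.End ℤ (Fin l → ℤ)} {Bl : List (List ℤ)} {n : ℕ}
    {m : List (List ℤ)} (hm : ∀ i : Fin l, R (Pi.single i 1) = toFn l (m.getD i []))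
    {K : List (List ℤ × List ℤ × List ℤ × ℤ)} {N0 : ℤ} (H : RegRCk D l Bl n m K N0)
    (hn : n ∈ H130.PolyL.idx) {r : ℕ} (hr : r.Prime) {Q : ℤ} (hQ : ¬ (r : ℤ) ∣ Q) (hrn : orderOf (Q : ZMod r) = n)
    (hrN : ¬ (r : ℤ) ∣ N0) (a : Fin l → ℤ) (ha : IsRoot cs hp.isCartan a) : ∃ L : (Fin l → ℤ) →+ ℤ,
      ¬ (r : ℤ) ∣ ∑ j ∈ Finset.range n, Q ^ (n - j) * L ((R ^ j) a) := by
  obtain ⟨⟨h1, h2, h3, h4⟩, h6, h7⟩ := H
  have hrZ := Nat.prime_iff_prime_int.1 hr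
  obtain ⟨v, hv, hvl, rfl⟩ := exists_rootL hp cs ha
  have hbl : (lc l v Bl).length = l := length_lc _ _ h4
  refine ⟨(_root_.Cfsg.Agent.H130.WeylCk.fn l (lc l v Bl)).toAddMonoidHom, fun h => ?_⟩
  have h8 := eval_gl h1 h3 hm hbl Q n v [] hvl
  rw [ofL, Polynomial.eval_zero, mul_zero, add_zero] at h8
  have hn0 : 0 < n := by rw [← hrn]; exact ord_pos hr hQ
  have h9 : ∑ j ∈ Finset.range n, Q ^ (n - j) *
      (_root_.Cfsg.Agent.H130.WeylCk.fn l (lc l v Bl)).toAddMonoidHom ((R ^ j) (toFn l v)) =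
      Q * (ofL (gl l m (lc l v Bl) n v [])).eval Q := by
    rw [h8, Finset.mul_sum]
    refine Finset.sum_congr rfl fun j hj => ?_
    rw [Finset.mem_range] at hj
    have h10 : Q ^ (n - j) = Q * Q ^ (n - 1 - j) := by
      rw [← pow_succ']
      congr 1
      omega
    rw [h10, mul_assoc]
    rfl
  rw [h9] at h
  have h10 := (hrZ.dvd_mul.1 h).resolve_left hQ
  obtain ⟨t, ht, hte⟩ := List.mem_map.1 (h6 v hv)
  obtain ⟨h11, h12⟩ := h7 t ht
  have h13 := congrArg (fun f => f.eval Q) (ofL_eq_of_eqL h11)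
  rw [← hte] at h10
  simp only [ofL_addL, ofL_mulL, Polynomial.eval_add, Polynomial.eval_mul, ofL, Polynomial.eval_C,
    mul_zero, add_zero, ← cyclotomic_eq n hn] at h13
  have h14 := dvd_cyclotomic hr hQ
  rw [hrn] at h14
  apply hrN
  refine dvd_trans ?_ h12
  rw [← h13]
  exact dvd_add (h10.mul_left _) (h14.mul_left _)

end Lists

end Cfsg.Agent.H630.Exc
end

-- part: H630/ExcRowsD
section
/-!
# The row of `³D₄` in cross characteristic (helper630)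
-/

set_option autoImplicit false
set_option linter.unusedSectionVars false
set_option linter.unusedVariables false

namespace Cfsg.Agent.H630.Exc

open CoxeterSystem Cfsg Cfsg.Lie Cfsg.Lie.ChevalleyDatum
open Cfsg.Agent.ChevalleyStructure Cfsg.Agent.ChevalleyStructure.Elts Cfsg.Agent.ChevalleyStructure.CoxeterGeom
  Cfsg.Agent.ChevalleyStructure.CoxeterGeomTypes Cfsg.Agent.ChevalleyStructure.NPerm
open Cfsg.Agent.Tits.Roots Cfsg.Agent.Tits.Core Cfsg.Agent.Nodes Cfsg.Agent.Nodes.Reps Cfsg.Agent.Nodes.BNOf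
  Cfsg.Agent.Nodes.RGDChev Cfsg.Agent.Nodes.Bruhat Cfsg.Agent.Nodes.SubComb Cfsg.Agent.Nodes.Coroot
open Cfsg.Agent.KFacts.RgdField Cfsg.Agent.KFacts.RgdChevCoord Cfsg.Agent.BpExc.TorCent Cfsg.Agent.BpExc.TorChev
open Cfsg.Agent.GpExc.Field Cfsg.Agent.BpExc.Tow Cfsg.Agent.BpExc.TowChev Cfsg.Agent.BpExc.Fr
  Cfsg.Agent.BpExc.LangFr Cfsg.Agent.LangThm Cfsg.Agent.BpExc Cfsg.Agent.H129.TorusChar Cfsg.Agent.H129.TorusMain
open Cfsg.Agent.H129.TriD4 (tau isFrob_tau fr_tau embT embT_injective tau_embT tau_range tri tri_apply tri_sr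
  tri_three)
open Cfsg.Agent.H630.NH Cfsg.Agent.H130.WeylCk Cfsg.Agent.H130.PolyL Cfsg.Agent.H130.WeylTab

universe u v

/-! ### polynomials -/

section Poly

open Polynomial

theorem sum_ofL {l : ℕ} (R : Module.End ℤ (Fin l → ℤ)) : ∀ (cs : List ℤ) (x : Fin l → ℤ),
    ∑ j : Fin cs.length, cs.get j • (R ^ (j : ℕ)) x = aeval R (ofL cs) x
  | [], x => by
    rw [ofL, map_zero, LinearMap.zero_apply]
    exact Finset.sum_empty
  | c :: cs, x => by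
    have ih := sum_ofL R cs (R x)
    have h1 : ∑ j : Fin (c :: cs).length, (c :: cs).get j • (R ^ (j : ℕ)) x =
        c • x + ∑ j : Fin cs.length, cs.get j • (R ^ (j : ℕ)) (R x) := Fin.sum_univ_succ _
    rw [h1, ih, ofL, map_add, mul_comm X, map_mul, aeval_X, LinearMap.add_apply, Module.End.mul_apply, aeval_C]
    rfl

theorem sum_evalL (Q : ℤ) : ∀ cs : List ℤ, ∑ j : Fin cs.length, cs.get j * Q ^ (j : ℕ) = (ofL cs).eval Q
  | [] => by
    rw [ofL, eval_zero]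
    exact Finset.sum_empty
  | c :: cs => by
    have ih := sum_evalL Q cs
    have h1 : ∑ j : Fin (c :: cs).length, (c :: cs).get j * Q ^ (j : ℕ) =
        c * Q ^ 0 + ∑ j : Fin cs.length, cs.get j * Q ^ ((j : ℕ) + 1) := Fin.sum_univ_succ _
    rw [h1, ofL, eval_add, eval_C, eval_mul, eval_X, ← ih, Finset.mul_sum, pow_zero, mul_one]
    congr 1
    exact Finset.sum_congr rfl fun j _ => by rw [pow_succ]; ring

theorem eval_cyc3 (Q : ℤ) : (cyclotomic 3 ℤ).eval Q = Q ^ 2 + Q + 1 := by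
  rw [cyclotomic_eq 3 (by decide)]
  simp only [cycL, ofL, eval_add, eval_C, eval_mul, eval_X, eval_zero]
  ring

theorem eval_cyc12 (Q : ℤ) : (cyclotomic 12 ℤ).eval Q = Q ^ 4 - Q ^ 2 + 1 := by
  rw [cyclotomic_eq 12 (by decide)]
  simp only [cycL, ofL, eval_add, eval_C, eval_mul, eval_X, eval_zero]
  ring

theorem eval_cyc1 (Q : ℤ) : (cyclotomic 1 ℤ).eval Q = Q - 1 := by
  rw [cyclotomic_one, eval_sub, eval_X, eval_one]

end Poly

theorem not_nine_dvd (Q : ℤ) : ¬ (9 : ℤ) ∣ Q ^ 2 + Q + 1 := by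
  have h : ∀ x : ZMod 9, x ^ 2 + x + 1 ≠ 0 := by decide
  intro h1
  apply h (Q : ZMod 9)
  have h2 := (ZMod.intCast_zmod_eq_zero_iff_dvd (Q ^ 2 + Q + 1) 9).2 (by exact_mod_cast h1)
  push_cast at h2
  exact h2

theorem not_nine_dvd' (Q : ℤ) : ¬ (9 : ℤ) ∣ Q ^ 4 - Q ^ 2 + 1 := by
  have h : ∀ x : ZMod 9, x ^ 4 - x ^ 2 + 1 ≠ 0 := by decide
  intro h1
  apply h (Q : ZMod 9)
  have h2 := (ZMod.intCast_zmod_eq_zero_iff_dvd (Q ^ 4 - Q ^ 2 + 1) 9).2 (by exact_mod_cast h1)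
  push_cast at h2
  exact h2

/-! ### the endomorphisms -/

/-- the triality as a linear map -/
def triE : Module.End ℤ (Fin 4 → ℤ) := tri.toAddMonoidHom.toIntLinearMap

theorem triE_apply (x : Fin 4 → ℤ) : triE x = tri x := rfl

theorem triE_pow : triE ^ 3 = 1 := by
  apply LinearMap.ext
  intro x
  exact tri_three x

/-- the matrices -/
def m3 : List (List ℤ) := [[0, 1, 0, 1], [0, 0, 1, 0], [0, -1, -1, 0], [-1, -1, -1, -1]]
def m12 : List (List ℤ) := [[1, 1, 1, 0], [-1, -1, 0, 0], [1, 1, 0, 1], [0, 1, 0, 0]]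
def mT : List (List ℤ) := [[0, 0, 1, 0], [0, 1, 0, 0], [0, 0, 0, 1], [1, 0, 0, 0]]
def mS : List (List ℤ) := [[0, -1, -1, -1], [1, 1, 1, 1], [-1, -1, 0, -1], [-1, -1, -1, 0]]

/-- the permutation of the simple roots -/
def tp : Fin 4 → Fin 4 := ![2, 1, 3, 0]

theorem tri_single (i : Fin 4) : tri (Pi.single i 1) = Pi.single (tp i) 1 := funext (tri_sr i)

theorem triE_single (i : Fin 4) : triE (Pi.single i 1) = toFn 4 (mT.getD i []) := by
  rw [triE_apply, tri_single]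
  have h : ∀ i : Fin 4, mT.getD i [] = bas 4 (tp i).1 := by decide +kernel
  rw [h, toFn_bas]

theorem lenT : mT.length = 4 ∧ ∀ b ∈ mT, b.length = 4 := by decide
theorem lenS : mS.length = 4 ∧ ∀ b ∈ mS, b.length = 4 := by decide
theorem len3 : m3.length = 4 ∧ ∀ b ∈ m3, b.length = 4 := by decide
theorem len12 : m12.length = 4 ∧ ∀ b ∈ m12, b.length = 4 := by decide

theorem cy3 : ∀ i : Fin 4, polyL 4 m3 (cycL 3) (bas 4 i) = List.replicate 4 0 := by decide +kernel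
theorem cy12 : ∀ i : Fin 4, polyL 4 m12 (cycL 12) (bas 4 i) = List.replicate 4 0 := by decide +kernel
theorem it3 : ∀ i : Fin 4, itL 4 m3 3 (bas 4 i) = bas 4 i := by decide +kernel
theorem it12 : ∀ i : Fin 4, itL 4 m12 12 (bas 4 i) = bas 4 i := by decide +kernel
theorem itS : ∀ i : Fin 4, itL 4 mS 3 (bas 4 i) = bas 4 i := by decide +kernel
theorem cyS : ∀ i : Fin 4, polyL 4 mS [1, 1, 1] (polyL 4 mT [1, 1, 1] (bas 4 i)) = List.replicate 4 0 := by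
  decide +kernel
theorem commS : ∀ i : Fin 4, lc 4 (lc 4 (bas 4 i) mT) mS = lc 4 (lc 4 (bas 4 i) mS) mT := by decide +kernel

theorem ck3 : RegRCk chevD4 4 alD4 3 m3 [([-1, -1, 2], [0, 1], [3, -2], 3)] 3 := by decide +kernel
theorem ck12 : RegRCk chevD4 4 alD4 12 m12
    [([1, 1, 0, -1, -1, -2, -1, -1, 0, 1, 1, 2], [-1, 3, -1, 0], [13, -2, 11, -2, 0, 0, -7, 2, -5, 2, 0], 12),
      ([-1, 1, 0, -1, 1, -2, 1, -1, 0, 1, -1, 2], [1, 3, 1, 0], [13, 2, 11, 2, 0, 0, -7, -2, -5, -2, 0], 12)] 12 := by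
  decide +kernel

theorem ckT : ∀ v ∈ rootL chevD4 4, v.length = 4 ∧
    ((v.getD 1 0 = 1 ∨ v.getD 1 0 = -1 ∨ v.getD 1 0 = 2 ∨ v.getD 1 0 = -2) ∨
      (v.getD 0 0 + v.getD 2 0 + v.getD 3 0 = 1 ∨ v.getD 0 0 + v.getD 2 0 + v.getD 3 0 = -1)) := by decide +kernel

section D4

variable {W : Type*} [Group W] (cs : CoxeterSystem coxeterD4 W)

/-- `rep w₁ ∘ tri` -/
noncomputable def RR (w1 : W) : Module.End ℤ (Fin 4 → ℤ) := rep cs RGDTwD4.hp.isCartan w1 * triE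

theorem RR_single {word : List (Fin 4)} {m : List (List ℤ)}
    (h : ∀ i : Fin 4, acn alD4 word 1 (bas 4 (tp i)) = m.getD i []) (i : Fin 4) :
    RR cs (cs.wordProd word) (Pi.single i 1) = toFn 4 (m.getD i []) := by
  show rep cs RGDTwD4.hp.isCartan (cs.wordProd word) (tri (Pi.single i 1)) = _
  rw [tri_single, ← toFn_bas, ← h i, toFn_acn cs RGDTwD4.hp.isCartan lists_D4 word _ _ (length_bas (tp i).1), pow_one]

theorem RR3 (i : Fin 4) : RR cs (cs.wordProd [0, 1, 0, 2, 1, 3, 1, 0]) (Pi.single i 1) = toFn 4 (m3.getD i []) :=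
  RR_single cs (by decide +kernel) i

theorem RR12 (i : Fin 4) : RR cs (cs.wordProd [0, 1]) (Pi.single i 1) = toFn 4 (m12.getD i []) :=
  RR_single cs (by decide +kernel) i

theorem RR1 : RR cs 1 = triE := by rw [RR, map_one, one_mul]

/-- the element of order 3 commuting with `tri` -/
theorem repS (i : Fin 4) : rep cs RGDTwD4.hp.isCartan (cs.wordProd [1, 0, 2, 3] ^ 2) (Pi.single i 1) =
    toFn 4 (mS.getD i []) :=
  rep_single RGDTwD4.hp cs lists_D4 [1, 0, 2, 3] 2 (by decide +kernel) i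

theorem has_R (w1 : W) {ε : ℤ} (hε : ε = 1 ∨ ε = -1) :
    ∃ w, ∀ x, theta RGDTwD4.hp cs w tri x = ε • RR cs w1 x := by
  rcases hε with rfl | rfl
  · exact ⟨w1, fun x => by rw [one_smul]; rfl⟩
  · refine ⟨w1 * (cs.wordProd [0, 1, 2, 3] ^ 3), fun x => ?_⟩
    show rep cs RGDTwD4.hp.isCartan (w1 * (cs.wordProd [0, 1, 2, 3] ^ 3)) (tri x) = _
    rw [map_mul, Module.End.mul_apply, rep_neg_of RGDTwD4.hp cs lists_D4 [0, 1, 2, 3] 3 (by decide +kernel), map_neg,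
      neg_smul, one_smul]
    rfl

theorem aeval_zero_of {R : Module.End ℤ (Fin 4 → ℤ)} {m : List (List ℤ)} (hm : m.length = 4 ∧ ∀ b ∈ m, b.length = 4)
    (h : ∀ i : Fin 4, R (Pi.single i 1) = toFn 4 (m.getD i [])) {c : List ℤ}
    (hc : ∀ i : Fin 4, polyL 4 m c (bas 4 i) = List.replicate 4 0) : Polynomial.aeval R (ofL c) = 0 := by
  refine end_ext fun i => ?_
  rw [← toFn_polyL hm.1 hm.2 h c _ (length_bas i.1), hc, toFn_replicate, LinearMap.zero_apply]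

theorem pow_one_of {R : Module.End ℤ (Fin 4 → ℤ)} {m : List (List ℤ)} (hm : m.length = 4 ∧ ∀ b ∈ m, b.length = 4)
    (h : ∀ i : Fin 4, R (Pi.single i 1) = toFn 4 (m.getD i [])) {n : ℕ}
    (hc : ∀ i : Fin 4, itL 4 m n (bas 4 i) = bas 4 i) : R ^ n = 1 := by
  refine end_ext fun i => ?_
  rw [← (toFn_itL hm.1 hm.2 h n _ (length_bas i.1)).2, hc, Module.End.one_apply]

variable {k : Type u} [Field k] {p e : ℕ} [hpF : Fact p.Prime] [CharP k p] {σ : MulAut ↥(chevD4.group k)}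
  {X : Type v} [Group X] {e0 : X →* ↥(chevD4.group k)} (S : Setup RGDTwD4.hp cs p e σ tri e0 1)

include S

/-- order 3 -/
theorem D4_three [IsAlgClosed k] [Finite W] [Finite X] {π : Set ℕ} {r s : ℕ} (hrp : r.Prime) (hsp : s.Prime)
    (hr : r ∈ π) (hs : s ∈ π) (hrs : r ≠ s) (hrc : r ≠ p) (hr2 : r ≠ 2) {ε Q : ℤ} (hε : ε = 1 ∨ ε = -1)
    (hQ : Q = ε * (p ^ e : ℕ)) (hrn : orderOf (Q : ZMod r) = 3) (hc : Cond π X) {y : X}
    (hy : ∃ m, orderOf y = s ^ m) : y ^ (Q ^ 2 + Q + 1).natAbs = 1 := by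
  have hrd : ¬ r ∣ 1 := fun h => hrp.one_lt.ne' (Nat.dvd_one.1 h)
  have hQr := not_dvd_Q (p := p) (e := e) Fact.out hrp hrc hε hQ
  obtain ⟨w, hw⟩ := has_R cs (cs.wordProd [0, 1, 0, 2, 1, 3, 1, 0]) hε
  have h1 := S.pow_eq_oneR RGDTwD4.hp cs hrp hsp hr hs hrs hrc hrd hr2 hε hw (N := 3)
    (pow_one_of len3 (RR3 cs) it3) hQ ((dvd_pow_sub_one_iff 3).2 (by rw [hrn]))
    (regR_of_ck RGDTwD4.hp cs (RR3 cs) ck3 (by decide) hrp hQr hrn (by
      intro h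
      have h2 : r ∣ 3 := by exact_mod_cast h
      obtain rfl := (Nat.prime_dvd_prime_iff_eq hrp Nat.prime_three).1 h2
      have := ord_dvd hrp hQr
      rw [hrn] at this
      revert this
      decide)) (c := fun j => (cycL 3).get j) (fun x => by
      rw [sum_ofL, aeval_zero_of len3 (RR3 cs) cy3, LinearMap.zero_apply]) hc hy
  have h2 := sum_evalL Q (cycL 3)
  rw [← cyclotomic_eq 3 (by decide), eval_cyc3] at h2
  rwa [h2] at h1

/-- order 12 -/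
theorem D4_twelve [IsAlgClosed k] [Finite W] [Finite X] {π : Set ℕ} {r s : ℕ} (hrp : r.Prime) (hsp : s.Prime)
    (hr : r ∈ π) (hs : s ∈ π) (hrs : r ≠ s) (hrc : r ≠ p) (hr2 : r ≠ 2) {ε Q : ℤ} (hε : ε = 1 ∨ ε = -1)
    (hQ : Q = ε * (p ^ e : ℕ)) (hrn : orderOf (Q : ZMod r) = 12) (hc : Cond π X) {y : X}
    (hy : ∃ m, orderOf y = s ^ m) : y ^ (Q ^ 4 - Q ^ 2 + 1).natAbs = 1 := by
  have hrd : ¬ r ∣ 1 := fun h => hrp.one_lt.ne' (Nat.dvd_one.1 h)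
  have hQr := not_dvd_Q (p := p) (e := e) Fact.out hrp hrc hε hQ
  obtain ⟨w, hw⟩ := has_R cs (cs.wordProd [0, 1]) hε
  have h1 := S.pow_eq_oneR RGDTwD4.hp cs hrp hsp hr hs hrs hrc hrd hr2 hε hw (N := 12)
    (pow_one_of len12 (RR12 cs) it12) hQ ((dvd_pow_sub_one_iff 12).2 (by rw [hrn]))
    (regR_of_ck RGDTwD4.hp cs (RR12 cs) ck12 (by decide) hrp hQr hrn (by
      intro h
      have h2 : r ∣ 12 := by exact_mod_cast h
      have h3 := ord_dvd hrp hQr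
      rw [hrn] at h3
      have h4 := Nat.le_of_dvd (by norm_num) h2
      have h5 := Nat.le_of_dvd (by have := hrp.two_le; omega) h3
      omega)) (c := fun j => (cycL 12).get j) (fun x => by
      rw [sum_ofL, aeval_zero_of len12 (RR12 cs) cy12, LinearMap.zero_apply]) hc hy
  have h2 := sum_evalL Q (cycL 12)
  rw [← cyclotomic_eq 12 (by decide), eval_cyc12] at h2
  rwa [h2] at h1

omit S in
/-- regularity of the torus of `tri` -/
theorem regT_one [IsAlgClosed k] {r : ℕ} (hrp : r.Prime) (hrc : r ≠ p) (hr2 : r ≠ 2) {ε Q : ℤ}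
    (hε : ε = 1 ∨ ε = -1) (hQ : Q = ε * (p ^ e : ℕ)) (hrQ : (r : ℤ) ∣ Q - 1) {w : W}
    (hw : ∀ x, theta RGDTwD4.hp cs w tri x = ε • triE x) : RegT k RGDTwD4.hp cs w tri (p ^ e) r := by
  have hrZ := Nat.prime_iff_prime_int.1 hrp
  have hrk : (r : k) ≠ 0 := by
    rw [Ne, CharP.cast_eq_zero_iff k p]
    intro h
    exact hrc ((Nat.prime_dvd_prime_iff_eq (Fact.out : p.Prime) hrp).1 h).symm
  have hkey : ∀ L : (Fin 4 → ℤ) →+ ℤ, (∀ x, L (tri x) = L x) → ∀ x,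
      (r : ℤ) ∣ L (theta RGDTwD4.hp cs w tri x) - ((p ^ e : ℕ) : ℤ) * L x := by
    intro L hL x
    have h1 : L (theta RGDTwD4.hp cs w tri x) - ((p ^ e : ℕ) : ℤ) * L x = (Q - 1) * (-ε * L x) := by
      rw [hw, map_zsmul, triE_apply, hL, smul_eq_mul, hQ]
      rcases hε with rfl | rfl <;> ring
    rw [h1]
    exact hrQ.mul_right _
  have h1 : ∀ n : ℤ, n = 1 ∨ n = -1 ∨ n = 2 ∨ n = -2 → ¬ (r : ℤ) ∣ n := by
    intro n hn h
    have h2 : r ∣ n.natAbs := Int.natCast_dvd.1 h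
    have h3 : n.natAbs ∣ 2 := by rcases hn with rfl | rfl | rfl | rfl <;> decide
    exact hr2 ((Nat.prime_dvd_prime_iff_eq hrp Nat.prime_two).1 (h2.trans h3))
  intro a ha
  obtain ⟨v, hv, -, rfl⟩ := exists_rootL RGDTwD4.hp cs ha
  obtain ⟨-, hck⟩ := ckT v hv
  rcases hck with h2 | h2
  · obtain ⟨t, ht, h3, h4, h5⟩ := exists_torsionL RGDTwD4.hp invC_D4 two_ne_zero (θ := theta RGDTwD4.hp cs w tri)
      (q := p ^ e) hrk (coordF 4 1) (hkey _ fun x => rfl)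
    refine ⟨t, ht, h3, h4, fun h6 => ?_⟩
    exact h1 _ h2 ((h5 _).1 h6)
  · obtain ⟨t, ht, h3, h4, h5⟩ := exists_torsionL RGDTwD4.hp invC_D4 two_ne_zero (θ := theta RGDTwD4.hp cs w tri)
      (q := p ^ e) hrk (coordF 4 0 + coordF 4 2 + coordF 4 3) (hkey _ fun x => by
        show x 3 + x 0 + x 2 = x 0 + x 2 + x 3
        ring)
    refine ⟨t, ht, h3, h4, fun h6 => ?_⟩
    exact h1 _ (by (clear * - h2; tauto)) ((h5 _).1 h6)

/-- order 1 -/
theorem D4_one [IsAlgClosed k] [Finite W] [Finite X] {π : Set ℕ} {r s : ℕ} (hrp : r.Prime) (hsp : s.Prime)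
    (hr : r ∈ π) (hs : s ∈ π) (hrs : r ≠ s) (hrc : r ≠ p) (hr2 : r ≠ 2) {ε Q : ℤ} (hε : ε = 1 ∨ ε = -1)
    (hQ : Q = ε * (p ^ e : ℕ)) (hrQ : (r : ℤ) ∣ Q - 1) (hc : Cond π X) {y : X}
    (hy : ∃ m, orderOf y = s ^ m) : y ^ (Q ^ 3 - 1).natAbs = 1 := by
  have hrd : ¬ r ∣ 1 := fun h => hrp.one_lt.ne' (Nat.dvd_one.1 h)
  obtain ⟨w, hw⟩ := has_R cs 1 hε
  rw [RR1] at hw
  refine S.pow_eq_oneT RGDTwD4.hp cs hrp hsp hr hs hrs hrd w (regT_one cs hrp hrc hr2 hε hQ hrQ hw) ?_ hc hy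
  intro t ht hθ
  have h1 := torus_annih RGDTwD4.hp cs hε hw hQ ht hθ (m := 4) (c := ![-1, 0, 0, 1]) (fun x => by
    rw [Fin.sum_univ_four]
    show (-1 : ℤ) • (triE ^ 0) x + (0 : ℤ) • (triE ^ 1) x + (0 : ℤ) • (triE ^ 2) x + (1 : ℤ) • (triE ^ 3) x = 0
    rw [triE_pow, pow_zero]
    simp)
  rw [Fin.sum_univ_four] at h1
  have h2 : (![-1, 0, 0, 1] : Fin 4 → ℤ) 0 * Q ^ ((0 : Fin 4) : ℕ) + (![-1, 0, 0, 1] : Fin 4 → ℤ) 1 * Q ^ ((1 : Fin 4) : ℕ) +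
      (![-1, 0, 0, 1] : Fin 4 → ℤ) 2 * Q ^ ((2 : Fin 4) : ℕ) + (![-1, 0, 0, 1] : Fin 4 → ℤ) 3 * Q ^ ((3 : Fin 4) : ℕ) =
      Q ^ 3 - 1 := by
    show -1 * Q ^ 0 + 0 * Q ^ 1 + 0 * Q ^ 2 + 1 * Q ^ 3 = Q ^ 3 - 1
    ring
  rwa [h2] at h1

/-- an element of order 9 -/
theorem exists_nine [IsAlgClosed k] [Finite W] [Finite X] (h3 : 3 ≠ p) : ∃ x : X, orderOf x = 9 := by
  have hpp : p.Prime := Fact.out
  have h3k : ((9 : ℕ) : k) ≠ 0 := by
    rw [Ne, CharP.cast_eq_zero_iff k p]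
    intro h
    exact h3 ((Nat.prime_dvd_prime_iff_eq hpp Nat.prime_three).1 (hpp.dvd_of_dvd_pow (show p ∣ 3 ^ 2 from h))).symm
  obtain ⟨ε, Q, hε, hQ, h3Q⟩ : ∃ ε Q : ℤ, (ε = 1 ∨ ε = -1) ∧ Q = ε * (p ^ e : ℕ) ∧ (3 : ℤ) ∣ Q - 1 := by
    have hn : ¬ 3 ∣ p ^ e := fun h =>
      h3 ((Nat.prime_dvd_prime_iff_eq Nat.prime_three hpp).1 (Nat.prime_three.dvd_of_dvd_pow h))
    rcases (by omega : p ^ e % 3 = 1 ∨ p ^ e % 3 = 2) with h | h
    · exact ⟨1, 1 * (p ^ e : ℕ), Or.inl rfl, rfl, by omega⟩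
    · exact ⟨-1, -1 * (p ^ e : ℕ), Or.inr rfl, rfl, by omega⟩
  obtain ⟨w, hw⟩ := has_R cs 1 hε
  rw [RR1] at hw
  have hNs := S.nsys RGDTwD4.hp cs
  obtain ⟨n', hn'⟩ := exists_rp cs hNs w
  obtain ⟨z, hz⟩ := lang_all RGDTwD4.hp cs S.pos S.frob S.fr 1 n'
  rw [map_one, one_mul] at hz
  obtain ⟨m, hm⟩ := h3Q
  have hQm : Q = 1 + 3 * m := by linarith only [hm]
  have h9 : (9 : ℤ) ∣ Q ^ 3 - 1 := ⟨m + 3 * m ^ 2 + 3 * m ^ 3, by rw [hQm]; ring⟩
  have h9' : ((9 : ℕ) : ℤ) ∣ ((p ^ e : ℕ) : ℤ) ^ (2 * 3) - 1 := by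
    have h1 : ((p ^ e : ℕ) : ℤ) ^ (2 * 3) = Q ^ (2 * 3) := by rw [hQ, mul_pow, eps_pow_two hε, one_mul]
    rw [h1]
    exact h9.trans ⟨Q ^ 3 + 1, by ring⟩
  obtain ⟨t, ht, h1, h2, h4⟩ := exists_torsion' RGDTwD4.hp invC_D4 two_ne_zero
    (theta_powR RGDTwD4.hp cs hε hw triE_pow) h3k h9' (coordF 4 0)
  have hLq : ∀ x, Lq (coordF 4 0) (theta RGDTwD4.hp cs w tri) (p ^ e) (2 * 3) x =
      (Q ^ 3 + 1) * (Q ^ 3 * x 0 + Q ^ 2 * x 3 + Q * x 2) := by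
    intro x
    rw [Lq_eqR RGDTwD4.hp cs hε hw triE_pow _ hQ]
    congr 1
    rw [Finset.sum_range_succ, Finset.sum_range_succ, Finset.sum_range_one]
    show Q ^ (3 - 0) * x 0 + Q ^ (3 - 1) * x 3 + Q ^ (3 - 2) * x 2 = _
    norm_num
  have h5 : t ^ 3 ≠ 1 := by
    intro h
    have h6 : cX RGDTwD4.hp t ((3 : ℤ) • sr 0) = 1 := by
      have hmc := isMC_cX RGDTwD4.hp ht
      rw [hmc.zsmul]
      have h7 := cX_pow RGDTwD4.hp ht 3 (sr 0)
      rw [h, cX_one] at h7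
      have h8 : cX RGDTwD4.hp t (sr 0) ^ (3 : ℤ) = cX RGDTwD4.hp t (sr 0) ^ 3 := by
        rw [show (3 : ℤ) = ((3 : ℕ) : ℤ) by norm_num, zpow_natCast]
      rw [h8, ← h7]
    rw [h4, hLq] at h6
    have h8 : (Q ^ 3 + 1) * (Q ^ 3 * ((3 : ℤ) • (sr 0 : Fin 4 → ℤ)) 0 + Q ^ 2 * ((3 : ℤ) • (sr 0 : Fin 4 → ℤ)) 3 +
        Q * ((3 : ℤ) • (sr 0 : Fin 4 → ℤ)) 2) = (Q ^ 3 + 1) * (Q ^ 3 * 3) := by
      have e0 : (sr 0 : Fin 4 → ℤ) 0 = 1 := rfl
      have e3 : (sr 0 : Fin 4 → ℤ) 3 = 0 := rfl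
      have e2 : (sr 0 : Fin 4 → ℤ) 2 = 0 := rfl
      simp only [Pi.smul_apply, smul_eq_mul, e0, e3, e2]
      ring
    rw [h8] at h6
    have h10 : (9 : ℤ) ∣ (Q ^ 3 + 1) * (Q ^ 3 * 3) - 3 * (2 * 1) := by
      obtain ⟨c, hc⟩ := h9
      have : Q ^ 3 = 1 + 9 * c := by linarith only [hc]
      rw [this]
      exact ⟨(9 * c + 3) * 3 * c, by ring⟩
    have h11 := dvd_sub h6 h10
    have h12 : (Q ^ 3 + 1) * (Q ^ 3 * 3) - ((Q ^ 3 + 1) * (Q ^ 3 * 3) - 3 * (2 * 1)) = 6 := by ring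
    have h13 : ((9 : ℕ) : ℤ) ∣ 6 := by rw [← h12]; exact h11
    norm_num at h13
  have h7 : orderOf t = 3 ^ (1 + 1) :=
    orderOf_eq_prime_pow (by rw [pow_one]; exact h5) (show t ^ 3 ^ (1 + 1) = 1 from h2)
  obtain ⟨x, hx, -⟩ := S.exists_of_torsion RGDTwD4.hp cs hn' hz Nat.prime_three (by norm_num) ht h1 (j := 2) h2
  refine ⟨x, ?_⟩
  have h8 := orderOf_injective (MulAut.conj z⁻¹).toMonoidHom (MulAut.conj z⁻¹).injective (e0 x)
  have h10 : (MulAut.conj z⁻¹).toMonoidHom (e0 x) = t := by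
    rw [← hx]
    show z⁻¹ * e0 x * z⁻¹⁻¹ = _
    rw [inv_inv]
  rw [h10, orderOf_injective e0 S.inj] at h8
  rw [← h8, h7]
  norm_num

/-- the bad prime 3 -/
theorem D4_bad [IsAlgClosed k] [Finite W] [Finite X] {π : Set ℕ} {s : ℕ} (hsp : s.Prime)
    (hr : 3 ∈ π) (hs : s ∈ π) (hrs : 3 ≠ s) (hrc : 3 ≠ p) (hsX : s ∣ Nat.card X) {ε Q : ℤ} (hε : ε = 1 ∨ ε = -1)
    (hQ : Q = ε * (p ^ e : ℕ)) (hrQ : ((3 : ℕ) : ℤ) ∣ Q - 1) (hsQ : (s : ℤ) ∣ Q - 1) : ¬ Cond π X := by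
  obtain ⟨w, hw⟩ := has_R cs 1 hε
  rw [RR1] at hw
  obtain ⟨sW, hsW⟩ : ∃ sW, sW = cs.wordProd [1, 0, 2, 3] ^ 2 := ⟨_, rfl⟩
  have hS := repS cs
  rw [← hsW] at hS
  have hcomm : rep cs RGDTwD4.hp.isCartan sW * triE = triE * rep cs RGDTwD4.hp.isCartan sW := by
    refine end_ext fun i => ?_
    rw [Module.End.mul_apply, Module.End.mul_apply, ← toFn_lin lenT.1 lenT.2 triE_single (length_bas i.1),
      ← toFn_lin lenS.1 lenS.2 hS (length_lc _ _ lenT.2), ← toFn_lin lenS.1 lenS.2 hS (length_bas i.1),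
      ← toFn_lin lenT.1 lenT.2 triE_single (length_lc _ _ lenS.2), commS]
  have hS3 : rep cs RGDTwD4.hp.isCartan sW ^ 3 = 1 := pow_one_of lenS hS itS
  have hsum : Polynomial.aeval (rep cs RGDTwD4.hp.isCartan sW) (ofL [1, 1, 1]) *
      Polynomial.aeval triE (ofL [1, 1, 1]) = 0 := by
    refine end_ext fun i => ?_
    rw [Module.End.mul_apply, ← toFn_polyL lenT.1 lenT.2 triE_single _ _ (length_bas i.1),
      ← toFn_polyL lenS.1 lenS.2 hS _ _ (length_polyL lenT.2 _ _ (length_bas i.1)), cyS, toFn_replicate,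
      LinearMap.zero_apply]
  refine S.not_cond_BT RGDTwD4.hp cs Nat.prime_three hsp hr hs hrs (by norm_num) hsX w (n := 2 * 3) (by norm_num)
    (theta_powR RGDTwD4.hp cs hε hw triE_pow) (regT_one cs Nat.prime_three hrc (by norm_num) hε hQ hrQ hw)
    (s := sW) (fun x => ?_) (j := 1) ?_ ?_
  · rw [hw, hw, map_zsmul, ← Module.End.mul_apply, hcomm, Module.End.mul_apply]
  · apply rep_injective cs RGDTwD4.hp.isCartan
    rw [map_pow, map_one]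
    exact hS3
  · intro t ht hθ hts hfix
    have hmc := isMC_cX RGDTwD4.hp ht
    have hts' : ∀ x, cX RGDTwD4.hp t x ^ s = 1 := fun x => by rw [← cX_pow RGDTwD4.hp ht, hts, cX_one]
    have h1 : ∀ x, cX RGDTwD4.hp t (triE x) = cX RGDTwD4.hp t x := by
      intro x
      have h2 := cX_R RGDTwD4.hp cs hε hw hQ ht hθ 1 x
      rw [pow_one, pow_one] at h2
      obtain ⟨m, hm⟩ := hsQ
      have h3 : Q = 1 + s * m := by linarith only [hm]
      rw [h2, h3, zpow_add₀ (hmc.ne_zero x), zpow_one, zpow_mul, zpow_natCast, hts', one_zpow, mul_one]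
    refine cX_inj RGDTwD4.hp ht (one_mem _) fun i => ?_
    rw [cX_one]
    obtain ⟨x, hx⟩ : ∃ x : Fin 4 → ℤ, x = sr i := ⟨_, rfl⟩
    rw [← hx]
    have key : ∀ (R : Module.End ℤ (Fin 4 → ℤ)), (∀ x, cX RGDTwD4.hp t (R x) = cX RGDTwD4.hp t x) → ∀ x,
        cX RGDTwD4.hp t (Polynomial.aeval R (ofL [1, 1, 1]) x) = cX RGDTwD4.hp t x ^ 3 := by
      intro R hR x
      rw [← sum_ofL]
      have h2 : ∑ j : Fin ([1, 1, 1] : List ℤ).length, ([1, 1, 1] : List ℤ).get j • (R ^ (j : ℕ)) x =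
          x + R x + R (R x) := by
        show ∑ j : Fin 3, ([1, 1, 1] : List ℤ).get j • (R ^ (j : ℕ)) x = x + R x + R (R x)
        rw [Fin.sum_univ_three]
        show (1 : ℤ) • (R ^ 0) x + (1 : ℤ) • (R ^ 1) x + (1 : ℤ) • (R ^ 2) x = x + R x + R (R x)
        rw [one_smul, one_smul, one_smul, pow_zero, pow_one, sq]
        rfl
      rw [h2, hmc.add, hmc.add, hR, hR, hR]
      ring
    have h4 := key _ hfix (Polynomial.aeval triE (ofL [1, 1, 1]) x)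
    rw [key _ h1, ← Module.End.mul_apply, hsum, LinearMap.zero_apply, hmc.zero, ← pow_mul] at h4
    have h10 : orderOf (cX RGDTwD4.hp t x) ∣ 1 := by
      have h11 := Nat.dvd_gcd (orderOf_dvd_of_pow_eq_one h4.symm) (orderOf_dvd_of_pow_eq_one (hts' x))
      have h12 : Nat.gcd (3 * 3) s = 1 := Nat.Coprime.mul_left ((Nat.coprime_primes Nat.prime_three hsp).2 hrs)
        ((Nat.coprime_primes Nat.prime_three hsp).2 hrs)
      rwa [h12] at h11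
    exact orderOf_eq_one_iff.1 (Nat.dvd_one.1 h10)

/-- the polynomial -/
def fsD4 (Q : ℤ) : ℤ := (Q ^ 2 - 1) * (Q ^ 6 - 1) * (Q ^ 8 + Q ^ 4 + 1)

/-- the abelian subgroup, order 3 -/
theorem D4_pos3 [IsAlgClosed k] [Finite W] [Finite X] {ε Q : ℤ} (hε : ε = 1 ∨ ε = -1) (hQ : Q = ε * (p ^ e : ℕ))
    {g' N' : ℕ} (hcard : g' * Nat.card X = (p ^ e) ^ N' * (fsD4 Q).natAbs) {π : Set ℕ}
    (hπ : ∀ r ∈ π, r.Prime ∧ r ≠ 2 ∧ r ≠ p ∧ orderOf (Q : ZMod r) = 3) :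
    ∃ T : Subgroup X, IsMulCommutative T ∧ ∀ r ∈ π, ¬ r ∣ T.index := by
  obtain ⟨w, hw⟩ := has_R cs (cs.wordProd [0, 1, 0, 2, 1, 3, 1, 0]) hε
  have hdeg := natDegree_cyclotomic_eq (n := 3) (by decide)
  refine S.exists_torusR RGDTwD4.hp cs hε hw hQ (n := 3) (N := 3) (by norm_num)
    (pow_one_of len3 (RR3 cs) it3) dvd_rfl (a := 2)
    (fun i => toFn 4 (([[0, 0, 0, 1], [0, 0, 1, 0]] : List (List ℤ)).getD i []))
    (fun i => _root_.Cfsg.Agent.H130.WeylCk.fn 4 (([[-1, 0, 0, 0], [1, -1, 0, 0]] : List (List ℤ)).getD i [])) 1 ?_ ?_ hcard fun r hr => ?_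
  · intro i
    rw [cyclotomic_eq 3 (by decide), aeval_zero_of len3 (RR3 cs) cy3, LinearMap.zero_apply]
  · intro i i' j hj
    have hck : ∀ i i' : Fin 2, ∀ j < 2, dot (([[-1, 0, 0, 0], [1, -1, 0, 0]] : List (List ℤ)).getD i [])
        (itL 4 m3 j (([[0, 0, 0, 1], [0, 0, 1, 0]] : List (List ℤ)).getD i' [])) =
        if i = i' ∧ j + 1 = 2 then 1 else 0 := by decide +kernel
    have hlen : ∀ i : Fin 2, (([[-1, 0, 0, 0], [1, -1, 0, 0]] : List (List ℤ)).getD i []).length = 4 ∧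
      (([[0, 0, 0, 1], [0, 0, 1, 0]] : List (List ℤ)).getD i []).length = 4 := by decide
    have hd : (Polynomial.cyclotomic 3 ℤ).natDegree = 2 := by
      have : (cycL 3).length = 3 := rfl
      omega
    rw [hd] at hj ⊢
    obtain ⟨h1, h2⟩ := toFn_itL len3.1 len3.2 (RR3 cs) j _ (hlen i').2
    rw [← h2, ← hck i i' j hj, dot_eq _ _ (hlen i).1 h1]
    rfl
  · obtain ⟨hrp, hr2, hrc, hrn⟩ := hπ r hr
    have hrZ := Nat.prime_iff_prime_int.1 hrp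
    have hQr := not_dvd_Q (p := p) (e := e) Fact.out hrp hrc hε hQ
    have hno : ∀ n : ℕ, ¬ 3 ∣ n → ¬ (r : ℤ) ∣ Q ^ n - 1 := fun n hn h => hn (by
      have := (dvd_pow_sub_one_iff n).1 h
      rwa [hrn] at this)
    have h3 : (r : ℤ) ∣ Q ^ 3 - 1 := (dvd_pow_sub_one_iff 3).2 (by rw [hrn])
    have hr2' : ¬ (r : ℤ) ∣ 2 := fun h => hr2 ((Nat.prime_dvd_prime_iff_eq hrp Nat.prime_two).1 (by exact_mod_cast h))
    have hr3 : r ≠ 3 := by
      rintro rfl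
      have := ord_dvd hrp hQr
      rw [hrn] at this
      revert this
      decide
    have hp3 : ¬ (r : ℤ) ∣ Q ^ 3 + 1 := fun h => hr2' (by
      have := dvd_sub h h3
      rwa [show Q ^ 3 + 1 - (Q ^ 3 - 1) = 2 by ring] at this)
    have hp6 : ¬ (r : ℤ) ∣ Q ^ 6 + 1 := fun h => hr2' (by
      have := dvd_sub h (h3.trans (show Q ^ 3 - 1 ∣ Q ^ 6 - 1 from ⟨Q ^ 3 + 1, by ring⟩))
      rwa [show Q ^ 6 + 1 - (Q ^ 6 - 1) = 2 by ring] at this)
    refine ⟨hrp, hr2, hrc, fun h => hrp.one_lt.ne' (Nat.dvd_one.1 h), hrn, fun h =>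
      hr3 ((Nat.prime_dvd_prime_iff_eq hrp Nat.prime_three).1 h), fun h => hrp.one_lt.ne' (Nat.dvd_one.1 (by
        exact_mod_cast h)), (Q ^ 2 - 1) * ((Q ^ 2 - 1) * (Q ^ 2 - Q + 1)) * ((Q ^ 2 - Q + 1) * (Q ^ 4 - Q ^ 2 + 1)), ?_,
      ?_⟩
    · rw [eval_cyc3, fsD4]
      ring
    · intro h
      have e2 := hno 2 (by norm_num)
      have e6 : ¬ (r : ℤ) ∣ Q ^ 2 - Q + 1 := fun h => hp3 (h.trans ⟨Q + 1, by ring⟩)
      have e12 : ¬ (r : ℤ) ∣ Q ^ 4 - Q ^ 2 + 1 := fun h => hp6 (h.trans ⟨Q ^ 2 + 1, by ring⟩)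
      rcases hrZ.dvd_mul.1 h with h | h
      · rcases hrZ.dvd_mul.1 h with h | h
        · exact e2 h
        · rcases hrZ.dvd_mul.1 h with h | h
          · exact e2 h
          · exact e6 h
      · rcases hrZ.dvd_mul.1 h with h | h
        · exact e6 h
        · exact e12 h

/-- the abelian subgroup, order 12 -/
theorem D4_pos12 [IsAlgClosed k] [Finite W] [Finite X] {ε Q : ℤ} (hε : ε = 1 ∨ ε = -1) (hQ : Q = ε * (p ^ e : ℕ))
    {g' N' : ℕ} (hcard : g' * Nat.card X = (p ^ e) ^ N' * (fsD4 Q).natAbs) {π : Set ℕ}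
    (hπ : ∀ r ∈ π, r.Prime ∧ r ≠ 2 ∧ r ≠ p ∧ orderOf (Q : ZMod r) = 12) :
    ∃ T : Subgroup X, IsMulCommutative T ∧ ∀ r ∈ π, ¬ r ∣ T.index := by
  obtain ⟨w, hw⟩ := has_R cs (cs.wordProd [0, 1]) hε
  have hdeg := natDegree_cyclotomic_eq (n := 12) (by decide)
  refine S.exists_torusR RGDTwD4.hp cs hε hw hQ (n := 12) (N := 12) (by norm_num)
    (pow_one_of len12 (RR12 cs) it12) dvd_rfl (a := 1)
    (fun i => toFn 4 (([[0, 0, 0, 1]] : List (List ℤ)).getD i []))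
    (fun i => _root_.Cfsg.Agent.H130.WeylCk.fn 4 (([[0, 0, -1, 0]] : List (List ℤ)).getD i [])) 1 ?_ ?_ hcard fun r hr => ?_
  · intro i
    rw [cyclotomic_eq 12 (by decide), aeval_zero_of len12 (RR12 cs) cy12, LinearMap.zero_apply]
  · intro i i' j hj
    have hck : ∀ i i' : Fin 1, ∀ j < 4, dot (([[0, 0, -1, 0]] : List (List ℤ)).getD i [])
        (itL 4 m12 j (([[0, 0, 0, 1]] : List (List ℤ)).getD i' [])) =
        if i = i' ∧ j + 1 = 4 then 1 else 0 := by decide +kernel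
    have hlen : ∀ i : Fin 1, (([[0, 0, -1, 0]] : List (List ℤ)).getD i []).length = 4 ∧
      (([[0, 0, 0, 1]] : List (List ℤ)).getD i []).length = 4 := by decide
    have hd : (Polynomial.cyclotomic 12 ℤ).natDegree = 4 := by
      have : (cycL 12).length = 5 := rfl
      omega
    rw [hd] at hj ⊢
    obtain ⟨h1, h2⟩ := toFn_itL len12.1 len12.2 (RR12 cs) j _ (hlen i').2
    rw [← h2, ← hck i i' j hj, dot_eq _ _ (hlen i).1 h1]
    rfl
  · obtain ⟨hrp, hr2, hrc, hrn⟩ := hπ r hr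
    have hrZ := Nat.prime_iff_prime_int.1 hrp
    have hQr := not_dvd_Q (p := p) (e := e) Fact.out hrp hrc hε hQ
    have hno : ∀ n : ℕ, ¬ 12 ∣ n → ¬ (r : ℤ) ∣ Q ^ n - 1 := fun n hn h => hn (by
      have := (dvd_pow_sub_one_iff n).1 h
      rwa [hrn] at this)
    have hr12 : 13 ≤ r := by
      have h1 := ord_dvd hrp hQr
      rw [hrn] at h1
      have := Nat.le_of_dvd (by have := hrp.two_le; omega) h1
      omega
    refine ⟨hrp, hr2, hrc, fun h => hrp.one_lt.ne' (Nat.dvd_one.1 h), hrn, fun h => by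
      have := Nat.le_of_dvd (by norm_num) h
      omega, fun h => hrp.one_lt.ne' (Nat.dvd_one.1 (by
        exact_mod_cast h)), (Q ^ 2 - 1) * (Q ^ 6 - 1) * ((Q ^ 2 - Q + 1) * (Q ^ 2 + Q + 1)), ?_, ?_⟩
    · rw [eval_cyc12, fsD4]
      ring
    · intro h
      have e2 := hno 2 (by norm_num)
      have e6 := hno 6 (by norm_num)
      rcases hrZ.dvd_mul.1 h with h | h
      · rcases hrZ.dvd_mul.1 h with h | h
        · exact e2 h
        · exact e6 h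
      · exact e6 (h.trans ⟨Q ^ 2 - 1, by ring⟩)

/-- the abelian subgroup, order 1 -/
theorem D4_pos1 [IsAlgClosed k] [Finite W] [Finite X] {ε Q : ℤ} (hε : ε = 1 ∨ ε = -1) (hQ : Q = ε * (p ^ e : ℕ))
    {g' N' : ℕ} (hcard : g' * Nat.card X = (p ^ e) ^ N' * (fsD4 Q).natAbs) {π : Set ℕ}
    (hπ : ∀ r ∈ π, r.Prime ∧ r ≠ 2 ∧ r ≠ 3 ∧ r ≠ p ∧ orderOf (Q : ZMod r) = 1) :
    ∃ T : Subgroup X, IsMulCommutative T ∧ ∀ r ∈ π, ¬ r ∣ T.index := by
  obtain ⟨w, hw⟩ := has_R cs 1 hε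
  rw [RR1] at hw
  refine S.exists_torusR RGDTwD4.hp cs hε hw hQ (n := 1) (N := 3) (by norm_num)
    triE_pow (by norm_num) (a := 2)
    (fun i => toFn 4 (([[0, 1, 0, 0], [1, 0, 1, 1]] : List (List ℤ)).getD i []))
    (fun i => _root_.Cfsg.Agent.H130.WeylCk.fn 4 (([[0, 1, 0, 0], [1, 0, 0, 0]] : List (List ℤ)).getD i [])) 1 ?_ ?_ hcard fun r hr => ?_
  · intro i
    rw [cyclotomic_eq 1 (by decide)]
    have h1 : ∀ i : Fin 2, polyL 4 mT (cycL 1) (([[0, 1, 0, 0], [1, 0, 1, 1]] : List (List ℤ)).getD i []) =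
      List.replicate 4 0 := by decide +kernel
    have hlen : ∀ i : Fin 2, (([[0, 1, 0, 0], [1, 0, 1, 1]] : List (List ℤ)).getD i []).length = 4 := by decide
    rw [← toFn_polyL lenT.1 lenT.2 triE_single _ _ (hlen i), h1, toFn_replicate]
  · intro i i' j hj
    have hd : (Polynomial.cyclotomic 1 ℤ).natDegree = 1 := by
      rw [Polynomial.natDegree_cyclotomic, Nat.totient_one]
    rw [hd] at hj ⊢
    obtain rfl : j = 0 := by omega
    rw [pow_zero, Module.End.one_apply]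
    have hck : ∀ i i' : Fin 2, dot (([[0, 1, 0, 0], [1, 0, 0, 0]] : List (List ℤ)).getD i [])
        (([[0, 1, 0, 0], [1, 0, 1, 1]] : List (List ℤ)).getD i' []) =
        if i = i' ∧ 0 + 1 = 1 then 1 else 0 := by decide +kernel
    have hlen : ∀ i : Fin 2, (([[0, 1, 0, 0], [1, 0, 0, 0]] : List (List ℤ)).getD i []).length = 4 ∧
      (([[0, 1, 0, 0], [1, 0, 1, 1]] : List (List ℤ)).getD i []).length = 4 := by decide
    rw [← hck i i', dot_eq _ _ (hlen i).1 (hlen i').2]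
    rfl
  · obtain ⟨hrp, hr2, hr3, hrc, hrn⟩ := hπ r hr
    have hrZ := Nat.prime_iff_prime_int.1 hrp
    have hr1 : (r : ℤ) ∣ Q - 1 := by
      have := (dvd_pow_sub_one_iff (r := r) (Q := Q) 1).2 (by rw [hrn])
      rwa [pow_one] at this
    refine ⟨hrp, hr2, hrc, fun h => hrp.one_lt.ne' (Nat.dvd_one.1 h), hrn, fun h =>
      hr3 ((Nat.prime_dvd_prime_iff_eq hrp Nat.prime_three).1 h), fun h => hrp.one_lt.ne' (Nat.dvd_one.1 (by
        exact_mod_cast h)), (Q + 1) * (Q ^ 5 + Q ^ 4 + Q ^ 3 + Q ^ 2 + Q + 1) * (Q ^ 8 + Q ^ 4 + 1), ?_, ?_⟩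
    · rw [eval_cyc1, fsD4]
      ring
    · intro h
      have h1 : (r : ℤ) ∣ (Q + 1) * (Q ^ 5 + Q ^ 4 + Q ^ 3 + Q ^ 2 + Q + 1) * (Q ^ 8 + Q ^ 4 + 1) - 36 := by
        obtain ⟨m, hm⟩ := hr1
        have h2 : ∃ c, (Q + 1) * (Q ^ 5 + Q ^ 4 + Q ^ 3 + Q ^ 2 + Q + 1) * (Q ^ 8 + Q ^ 4 + 1) - 36 = (Q - 1) * c := by
          have h3 : Polynomial.IsRoot ((Polynomial.X + 1) * (Polynomial.X ^ 5 + Polynomial.X ^ 4 + Polynomial.X ^ 3 +
            Polynomial.X ^ 2 + Polynomial.X + 1) * (Polynomial.X ^ 8 + Polynomial.X ^ 4 + 1) - 36 :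
              Polynomial ℤ) 1 := by
            simp only [Polynomial.IsRoot, Polynomial.eval_sub, Polynomial.eval_mul, Polynomial.eval_add,
              Polynomial.eval_pow, Polynomial.eval_X, Polynomial.eval_one, Polynomial.eval_ofNat]
            norm_num
          obtain ⟨P, hP⟩ := Polynomial.dvd_iff_isRoot.2 h3
          refine ⟨P.eval Q, ?_⟩
          have h4 := congrArg (fun f => f.eval Q) hP
          simp only [Polynomial.eval_sub, Polynomial.eval_mul, Polynomial.eval_add,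
              Polynomial.eval_pow, Polynomial.eval_X, Polynomial.eval_one, Polynomial.eval_ofNat,
              Polynomial.eval_C] at h4
          exact h4
        obtain ⟨c, hc⟩ := h2
        rw [hc, hm]
        exact (dvd_mul_right _ _).mul_right _
      have h2 := dvd_sub h h1
      rw [sub_sub_cancel] at h2
      have h3 : r ∣ 2 ^ 2 * 3 ^ 2 := by exact_mod_cast h2
      rcases hrp.dvd_mul.1 h3 with h4 | h4
      · exact hr2 ((Nat.prime_dvd_prime_iff_eq hrp Nat.prime_two).1 (hrp.dvd_of_dvd_pow h4))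
      · exact hr3 ((Nat.prime_dvd_prime_iff_eq hrp Nat.prime_three).1 (hrp.dvd_of_dvd_pow h4))

/-- all orders are 3 if one is -/
theorem D4_all3 [IsAlgClosed k] [Finite W] [Finite X] {π : Set ℕ}
    (hπ : ∀ r ∈ π, r.Prime ∧ r ≠ 2 ∧ r ≠ p ∧ r ∣ Nat.card X) (hc : Cond π X) {ε Q : ℤ} (hε : ε = 1 ∨ ε = -1)
    (hQ : Q = ε * (p ^ e : ℕ)) {r s : ℕ} (hr : r ∈ π) (hs : s ∈ π) (hrn : orderOf (Q : ZMod r) = 3) :
    orderOf (Q : ZMod s) = 3 := by
  by_cases hrs : r = s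
  · rw [← hrs]; exact hrn
  obtain ⟨h1, h2, h3, h4⟩ := hπ r hr
  obtain ⟨g1, g2, g3, g4⟩ := hπ s hs
  have : Fact s.Prime := ⟨g1⟩
  have key : ∀ y : X, (∃ m, orderOf y = s ^ m) → ((orderOf y : ℕ) : ℤ) ∣ Q ^ 2 + Q + 1 := fun y hy =>
    Int.natCast_dvd.2 (orderOf_dvd_of_pow_eq_one (D4_three cs S h1 g1 hr hs hrs h3 h2 hε hQ hrn hc hy))
  by_cases hs3 : s = 3
  · exfalso
    subst hs3
    obtain ⟨y, hy⟩ := exists_nine cs S g3
    have h5 := key y ⟨2, by rw [hy]; norm_num⟩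
    rw [hy] at h5
    exact not_nine_dvd Q h5
  · obtain ⟨y, hy⟩ := exists_prime_orderOf_dvd_card' s g4
    have h5 := key y ⟨1, by rw [hy, pow_one]⟩
    rw [hy] at h5
    have h6 := (dvd_pow_sub_one_iff 3).1 (h5.trans (show Q ^ 2 + Q + 1 ∣ Q ^ 3 - 1 from ⟨Q - 1, by ring⟩))
    rcases (Nat.dvd_prime Nat.prime_three).1 h6 with h7 | h7
    · exfalso
      have h8 := (dvd_pow_sub_one_iff (r := s) (Q := Q) 1).2 (by rw [h7])
      rw [pow_one] at h8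
      have h9 := dvd_sub h5 (h8.mul_right (Q + 2))
      rw [show Q ^ 2 + Q + 1 - (Q - 1) * (Q + 2) = 3 by ring] at h9
      exact hs3 ((Nat.prime_dvd_prime_iff_eq g1 Nat.prime_three).1 (by exact_mod_cast h9))
    · exact h7

/-- all orders are 12 if one is -/
theorem D4_all12 [IsAlgClosed k] [Finite W] [Finite X] {π : Set ℕ}
    (hπ : ∀ r ∈ π, r.Prime ∧ r ≠ 2 ∧ r ≠ p ∧ r ∣ Nat.card X) (hc : Cond π X) {ε Q : ℤ} (hε : ε = 1 ∨ ε = -1)
    (hQ : Q = ε * (p ^ e : ℕ)) {r s : ℕ} (hr : r ∈ π) (hs : s ∈ π) (hrn : orderOf (Q : ZMod r) = 12) :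
    orderOf (Q : ZMod s) = 12 := by
  by_cases hrs : r = s
  · rw [← hrs]; exact hrn
  obtain ⟨h1, h2, h3, h4⟩ := hπ r hr
  obtain ⟨g1, g2, g3, g4⟩ := hπ s hs
  have : Fact s.Prime := ⟨g1⟩
  have key : ∀ y : X, (∃ m, orderOf y = s ^ m) → ((orderOf y : ℕ) : ℤ) ∣ Q ^ 4 - Q ^ 2 + 1 := fun y hy =>
    Int.natCast_dvd.2 (orderOf_dvd_of_pow_eq_one (D4_twelve cs S h1 g1 hr hs hrs h3 h2 hε hQ hrn hc hy))
  by_cases hs3 : s = 3
  · exfalso
    subst hs3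
    obtain ⟨y, hy⟩ := exists_nine cs S g3
    have h5 := key y ⟨2, by rw [hy]; norm_num⟩
    rw [hy] at h5
    exact not_nine_dvd' Q h5
  · obtain ⟨y, hy⟩ := exists_prime_orderOf_dvd_card' s g4
    have h5 := key y ⟨1, by rw [hy, pow_one]⟩
    rw [hy] at h5
    have h6 := (dvd_pow_sub_one_iff 12).1 (h5.trans (show Q ^ 4 - Q ^ 2 + 1 ∣ Q ^ 12 - 1 from
      ⟨Q ^ 8 + Q ^ 6 - Q ^ 2 - 1, by ring⟩))
    have h7 : ∀ n < 13, n ∣ 12 → n ∣ 6 ∨ n ∣ 4 ∨ n = 12 := by decide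
    rcases h7 _ (Nat.lt_succ_of_le (Nat.le_of_dvd (by norm_num) h6)) h6 with h8 | h8 | h8
    · exfalso
      have h9 := (dvd_pow_sub_one_iff (r := s) (Q := Q) 6).2 h8
      have h10 := dvd_sub (h5.trans (show Q ^ 4 - Q ^ 2 + 1 ∣ Q ^ 6 + 1 from ⟨Q ^ 2 + 1, by ring⟩)) h9
      rw [show Q ^ 6 + 1 - (Q ^ 6 - 1) = 2 by ring] at h10
      exact g2 ((Nat.prime_dvd_prime_iff_eq g1 Nat.prime_two).1 (by exact_mod_cast h10))
    · exfalso
      have h9 := (dvd_pow_sub_one_iff (r := s) (Q := Q) 4).2 h8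
      -- `Q^2 ≡ 2`, `Q^4 ≡ 4`
      have h10 : (s : ℤ) ∣ 3 := by
        have e1 := (h5.mul_right (Q ^ 2 + 2))
        have e2 := (h9.mul_right (Q ^ 2 + 1))
        have e3 := dvd_sub e1 e2
        have e4 : (Q ^ 4 - Q ^ 2 + 1) * (Q ^ 2 + 2) - (Q ^ 4 - 1) * (Q ^ 2 + 1) = 3 := by ring
        rwa [e4] at e3
      exact hs3 ((Nat.prime_dvd_prime_iff_eq g1 Nat.prime_three).1 (by exact_mod_cast h10))
    · exact h8

/-- **The row of `³D₄`.** -/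
theorem crossRow_D4_gen [IsAlgClosed k] [Finite W] [Finite X]
    {g' N' : ℕ} (hcard : g' * Nat.card X = (p ^ e) ^ N' * (fsD4 (p ^ e : ℕ)).natAbs) : CrossRow p X := by
  have hpp : p.Prime := Fact.out
  intro π hπ hnt hc
  obtain ⟨q, hq⟩ : ∃ q : ℤ, q = ((p ^ e : ℕ) : ℤ) := ⟨_, rfl⟩
  rw [← hq] at hcard
  have h1 : (1 : ℤ) = 1 ∨ (1 : ℤ) = -1 := Or.inl rfl
  have hQ1 : q = 1 * (p ^ e : ℕ) := by rw [hq, one_mul]
  have hev : ∀ {ε : ℤ}, (ε = 1 ∨ ε = -1) → fsD4 (ε * q) = fsD4 q := by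
    rintro ε (rfl | rfl) <;> unfold fsD4 <;> ring
  have hcardε : ∀ {ε : ℤ}, (ε = 1 ∨ ε = -1) → g' * Nat.card X = (p ^ e) ^ N' * (fsD4 (ε * q)).natAbs := by
    intro ε hε
    rw [hev hε]; exact hcard
  -- the orders
  have hord : ∀ r ∈ π, orderOf (q : ZMod r) ∈ [1, 2, 3, 6, 12] := by
    intro r hr
    obtain ⟨g1, g2, g3, g4⟩ := hπ r hr
    have hrZ := Nat.prime_iff_prime_int.1 g1
    have hQr := not_dvd_Q (p := p) (e := e) Fact.out g1 g3 h1 hQ1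
    have h5 : r ∣ (p ^ e) ^ N' * (fsD4 q).natAbs := by
      rw [← hcard]; exact g4.mul_left _
    rcases g1.dvd_mul.1 h5 with h6 | h6
    · exact absurd ((Nat.prime_dvd_prime_iff_eq g1 hpp).1 (g1.dvd_of_dvd_pow (g1.dvd_of_dvd_pow h6))) g3
    · have h7 : (r : ℤ) ∣ fsD4 q := Int.natCast_dvd.2 h6
      have h12 : orderOf (q : ZMod r) ∣ 12 ∧ orderOf (q : ZMod r) ≠ 4 := by
        rcases hrZ.dvd_mul.1 h7 with h8 | h8
        · rcases hrZ.dvd_mul.1 h8 with h9 | h9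
          · have h10 := (dvd_pow_sub_one_iff 2).1 h9
            exact ⟨h10.trans (by norm_num), fun h11 => by rw [h11] at h10; revert h10; decide⟩
          · have h10 := (dvd_pow_sub_one_iff 6).1 h9
            exact ⟨h10.trans (by norm_num), fun h11 => by rw [h11] at h10; revert h10; decide⟩
        · refine ⟨(dvd_pow_sub_one_iff 12).1 (h8.trans ⟨q ^ 4 - 1, by ring⟩), fun h11 => ?_⟩
          have h9 := (dvd_pow_sub_one_iff (r := r) (Q := q) 4).2 (by rw [h11])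
          have h10 := dvd_sub h8 (h9.mul_right (q ^ 4 + 2))
          rw [show q ^ 8 + q ^ 4 + 1 - (q ^ 4 - 1) * (q ^ 4 + 2) = 3 by ring] at h10
          obtain rfl := (Nat.prime_dvd_prime_iff_eq g1 Nat.prime_three).1 (by exact_mod_cast h10)
          have h12 := ord_dvd g1 hQr
          rw [h11] at h12
          revert h12
          decide
      have h13 : ∀ n < 13, n ∣ 12 ∧ n ≠ 4 → n ∈ [1, 2, 3, 6, 12] := by decide
      exact h13 _ (Nat.lt_succ_of_le (Nat.le_of_dvd (by norm_num) h12.1)) h12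
  have hp3 : ∀ r ∈ π, r.Prime ∧ r ≠ 2 ∧ r ≠ p := fun r hr => ⟨(hπ r hr).1, (hπ r hr).2.1, (hπ r hr).2.2.1⟩
  by_cases h12 : ∃ r ∈ π, orderOf (q : ZMod r) = 12
  · obtain ⟨r, hr, hrn⟩ := h12
    exact D4_pos12 cs S h1 hQ1 hcard fun s hs => ⟨(hp3 s hs).1, (hp3 s hs).2.1, (hp3 s hs).2.2,
      D4_all12 cs S hπ hc h1 hQ1 hr hs hrn⟩
  by_cases h3 : ∃ ε : ℤ, (ε = 1 ∨ ε = -1) ∧ ∃ r ∈ π, orderOf ((ε * q : ℤ) : ZMod r) = 3
  · obtain ⟨ε, hε, r, hr, hrn⟩ := h3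
    have hQε : ε * q = ε * (p ^ e : ℕ) := by rw [hq]
    exact D4_pos3 cs S hε hQε (hcardε hε) fun s hs => ⟨(hp3 s hs).1, (hp3 s hs).2.1, (hp3 s hs).2.2,
      D4_all3 cs S hπ hc hε hQε hr hs hrn⟩
  -- orders at most two
  obtain ⟨r0, hr0⟩ := hnt.nonempty
  have hε0 : ∃ ε : ℤ, (ε = 1 ∨ ε = -1) ∧ orderOf ((ε * q : ℤ) : ZMod r0) = 1 := by
    have h4 := hord r0 hr0
    simp only [List.mem_cons, List.not_mem_nil, or_false] at h4
    rcases h4 with h4 | h4 | h4 | h4 | h4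
    · exact ⟨1, h1, by rw [one_mul]; exact h4⟩
    · refine ⟨-1, Or.inr rfl, ?_⟩
      rw [neg_one_mul]
      exact order_neg (hπ r0 hr0).1 (n := 1) h4 (by norm_num) one_pos
    · exact absurd ⟨1, h1, r0, hr0, by rw [one_mul]; exact h4⟩ h3
    · refine absurd ⟨-1, Or.inr rfl, r0, hr0, ?_⟩ h3
      rw [neg_one_mul]
      exact order_neg (hπ r0 hr0).1 (n := 3) h4 (by norm_num) (by norm_num)
    · exact absurd ⟨r0, hr0, h4⟩ h12
  obtain ⟨ε, hε, h5⟩ := hε0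
  have hQε : ε * q = ε * (p ^ e : ℕ) := by rw [hq]
  have hd0 : (r0 : ℤ) ∣ ε * q - 1 := by
    have := (dvd_pow_sub_one_iff (r := r0) (Q := ε * q) 1).2 (by rw [h5])
    rwa [pow_one] at this
  have hall : ∀ s ∈ π, orderOf ((ε * q : ℤ) : ZMod s) = 1 := by
    intro s hs
    by_cases hrs : r0 = s
    · rw [← hrs]; exact h5
    obtain ⟨g1, g2, g3, g4⟩ := hπ s hs
    have : Fact s.Prime := ⟨g1⟩
    obtain ⟨y, hy⟩ := exists_prime_orderOf_dvd_card' s g4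
    have h6 := D4_one cs S (hπ r0 hr0).1 g1 hr0 hs hrs (hπ r0 hr0).2.2.1 (hπ r0 hr0).2.1 hε hQε hd0 hc (y := y)
      ⟨1, by rw [hy, pow_one]⟩
    have h7 := orderOf_dvd_of_pow_eq_one h6
    rw [hy] at h7
    have h8 := (dvd_pow_sub_one_iff 3).1 (Int.natCast_dvd.2 h7)
    rcases (Nat.dvd_prime Nat.prime_three).1 h8 with h9 | h9
    · exact h9
    · exact absurd ⟨ε, hε, s, hs, h9⟩ h3
  by_cases h3π : 3 ∈ π
  · exfalso
    obtain ⟨s, hs, hs3⟩ := hnt.exists_ne 3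
    have hd : ∀ s ∈ π, (s : ℤ) ∣ ε * q - 1 := fun s hs => by
      have := (dvd_pow_sub_one_iff (r := s) (Q := ε * q) 1).2 (by rw [hall s hs])
      rwa [pow_one] at this
    exact D4_bad cs S (hπ s hs).1 h3π hs hs3.symm (hπ 3 h3π).2.2.1 (hπ s hs).2.2.2 hε hQε (hd 3 h3π) (hd s hs) hc
  · exact D4_pos1 cs S hε hQε (hcardε hε) fun s hs => ⟨(hp3 s hs).1, (hp3 s hs).2.1,
      fun h => h3π (by rw [← h]; exact hs), (hp3 s hs).2.2, hall s hs⟩

end D4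

/-- the setup of `³D₄(q)` -/
theorem setup_twD4 {W : Type*} [Group W] (cs : CoxeterSystem coxeterD4 W) {k : Type u} [Field k]
    [IsAlgClosed k] {p e : ℕ} [Fact p.Prime] [CharP k p] (hk : LocFin k) {F : Type u} [Field F] [Fintype F]
    (f : F →+* k) {q : ℕ} (he0 : 0 < e) (hqe : q = p ^ e) (hq : IsPrimePow q) (hF : Fintype.card F = q ^ 3) :
    Setup RGDTwD4.hp cs p e (tau k p e) tri (embT f hq hF) 1 where
  lf := hk
  pos := he0
  frob := isFrob_tau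
  fr := fr_tau cs
  inv := ⟨_, 2, two_ne_zero, invC_D4⟩
  inj := embT_injective f hq hF
  fix := tau_embT f hqe hq hF
  range := fun _ _ _ _ hy _ => tau_range f hqe hq hF hy

/-- **Type `³D₄`.** -/
theorem crossRow_twD4 (r : ℕ) [Fact r.Prime] (F : Type u) [Field F] [Fintype F] [CharP F r] {q : ℕ}
    (hq : IsPrimePow q) (hF : Fintype.card F = q ^ 3) : CrossRow r ↥(twistedD4 F q) := by
  obtain ⟨k, _, _, f, p, hpp, hkp, e', hk, hka, he0', hcF⟩ := H378.TorFin.exists_closure F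
  have hkr : CharP k r := charP_of_injective_ringHom f.injective r
  obtain rfl : r = p := CharP.eq k hkr hkp
  obtain ⟨e, he0, hqe⟩ : ∃ e, 0 < e ∧ q = r ^ e := by
    obtain ⟨r', e, hr', he, rfl⟩ := hq
    have h1 : r' ∣ r ^ e' := by
      rw [← hcF, Nat.card_eq_fintype_card, hF]
      exact (dvd_pow_self r' he.ne').trans (dvd_pow_self _ three_ne_zero)
    have h2 : r' = r := (Nat.prime_dvd_prime_iff_eq hr'.nat_prime hpp.out).1 (hr'.nat_prime.dvd_of_dvd_pow h1)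
    exact ⟨e, he, by rw [h2]⟩
  have cs := coxeterD4.toCoxeterSystem
  have hW := finite_W RGDTwD4.hp cs
  have S := setup_twD4 cs hk f he0 hqe hq hF
  refine crossRow_D4_gen cs S (g' := 1) (N' := 12) ?_
  rw [S1067.result hq hF, ← hqe, one_mul, fsD4, Int.natAbs_mul, Int.natAbs_mul]
  have ev : ∀ i : ℕ, ((q : ℤ) ^ i - 1).natAbs = q ^ i - 1 := by
    intro i
    have h1 : 1 ≤ q ^ i := Nat.one_le_pow _ _ hq.pos
    have h2 : ((q : ℕ) : ℤ) ^ i - 1 = ((q ^ i - 1 : ℕ) : ℤ) := by push_cast [Nat.cast_sub h1]; ring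
    rw [h2, Int.natAbs_natCast]
  have e8 : ((q : ℤ) ^ 8 + (q : ℤ) ^ 4 + 1).natAbs = q ^ 8 + q ^ 4 + 1 := by
    have : (q : ℤ) ^ 8 + (q : ℤ) ^ 4 + 1 = ((q ^ 8 + q ^ 4 + 1 : ℕ) : ℤ) := by push_cast; ring
    rw [this, Int.natAbs_natCast]
  rw [ev, ev, e8]
  ring

end Cfsg.Agent.H630.Exc
end

private theorem dce_fcd3b40394ed : _root_.True := by
  try have : _root_.True := by simp only [_root_.Cfsg.Agent.H630.Exc.fsD4.eq_1]
  try have : _root_.True := by simp only [_root_.Cfsg.Agent.H630.Exc.itL.eq_1]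
  try have : _root_.True := by simp only [_root_.Cfsg.Agent.H630.Exc.RR.eq_1]
  try have : _root_.True := by simp only [_root_.Cfsg.Agent.H630.Exc.polyL.eq_1]
  try have : _root_.True := by simp only [_root_.Cfsg.Agent.H630.Exc.polyL.eq_2]
  try have : _root_.True := by simp only [_root_.Cfsg.Agent.H630.Exc.itL.eq_2]
  try have : _root_.True := by simp only [_root_.Cfsg.Agent.H630.Exc.polyL.eq_def]
  try have : _root_.True := by simp only [_root_.Cfsg.Agent.H630.Exc.itL.eq_def]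
  exact _root_.True.intro
end
end
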