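import Mathlib
import Cfsg.Agent.Lib.PSolvable
import Cfsg.Agent.Lib.Cores
import Cfsg.Prelude.Def_HallClasses
import Cfsg.Prelude.Def_OddOrderLocal
import Cfsg.Agent.S0581
import Cfsg.Agent.OddOrderLocal.HallPi
import Cfsg.Agent.FastGrp
import Cfsg.Agent.Prune
set_option linter.all false
prune_inst 0x7f00000000000000000000000000000000000000000000000000000000000000000000000000000000000000000000000000000000000000000000000000000000000000000000000000000000000000003fffffffffffffffffffffffffffbeffbdffffffff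
open scoped Cfsg.Agent.FastGrp

-- part: H630/CLib
section
/-!
# Class sizes of `q`-elements: basic facts (helper630)
-/

set_option autoImplicit false
open Pointwise
open Cfsg

namespace Cfsg.Agent.H630.CLib

open Cfsg.Agent.Lib

/-- `q`-elements of `G` have class sizes prime to `p`. -/
def Cond (p q : ℕ) (G : Type*) [Group G] : Prop :=
  ∀ y : G, (∃ k : ℕ, orderOf y = q ^ k) → ¬ p ∣ (Subgroup.centralizer ({y} : Set G)).index

/-- Elements of `q`-power order lift along surjective homomorphisms of finite groups. -/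
theorem exists_lift {G H : Type*} [Group G] [Finite G] [Group H] (q : ℕ) [Fact q.Prime]
    (f : G →* H) (hf : Function.Surjective f) (y : H) (hy : ∃ k : ℕ, orderOf y = q ^ k) :
    ∃ x : G, (∃ k : ℕ, orderOf x = q ^ k) ∧ f x = y := by
  have hH : Finite H := Finite.of_surjective f hf
  obtain ⟨k, hk⟩ := hy
  have h1 : IsPGroup q (Subgroup.zpowers y) := by
    apply IsPGroup.of_card (n := k)
    rw [Nat.card_zpowers, hk]
  obtain ⟨Q, hQ⟩ := h1.exists_le_sylow
  obtain ⟨R, hR⟩ := Sylow.mapSurjective_surjective hf q Q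
  have hy1 : y ∈ (Q : Subgroup H) := hQ (Subgroup.mem_zpowers y)
  rw [← hR, Sylow.coe_mapSurjective] at hy1
  obtain ⟨x, hx, hxy⟩ := Subgroup.mem_map.mp hy1
  refine ⟨x, ?_, hxy⟩
  have hx2 := (IsPGroup.iff_orderOf.mp R.isPGroup') ⟨x, hx⟩
  obtain ⟨m, hm⟩ := hx2
  exact ⟨m, by rw [← hm, Subgroup.orderOf_mk]⟩

/-- The condition passes to epimorphic images. -/
theorem Cond.of_surjective {G H : Type*} [Group G] [Finite G] [Group H] (p q : ℕ) [Fact q.Prime]
    (h : Cond p q G) (f : G →* H) (hf : Function.Surjective f) : Cond p q H := by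
  intro y hy hd
  obtain ⟨x, hx, rfl⟩ := exists_lift q f hf y hy
  apply h x hx
  refine hd.trans ((Subgroup.index_dvd_of_le ?_).trans (Subgroup.index_map_dvd _ hf))
  rintro _ ⟨c, hc, rfl⟩
  rw [Subgroup.mem_centralizer_singleton_iff]
  rw [SetLike.mem_coe, Subgroup.mem_centralizer_singleton_iff] at hc
  rw [← map_mul, ← map_mul, hc]

/-- The relative index in a normal subgroup. -/
theorem relIndex_normal {G : Type*} [Group G] [Finite G] (S K : Subgroup G) [K.Normal] :
    S.relIndex (S ⊔ K) = S.relIndex K := by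
  have h1 : Nat.card S * S.relIndex (S ⊔ K) = Nat.card (S ⊔ K : Subgroup G) := by
    rw [← Subgroup.relIndex_bot_left, ← Subgroup.relIndex_bot_left,
      Subgroup.relIndex_mul_relIndex _ _ _ bot_le le_sup_left]
  have h2 : Nat.card K * K.relIndex S = Nat.card (S ⊔ K : Subgroup G) := by
    rw [← Subgroup.relIndex_sup_right S K, ← Subgroup.relIndex_bot_left, ← Subgroup.relIndex_bot_left,
      Subgroup.relIndex_mul_relIndex _ _ _ bot_le le_sup_right]
  have h3 : Nat.card (K ⊓ S : Subgroup G) * K.relIndex S = Nat.card S := by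
    rw [← Subgroup.inf_relIndex_right, ← Subgroup.relIndex_bot_left, ← Subgroup.relIndex_bot_left,
      Subgroup.relIndex_mul_relIndex _ _ _ bot_le inf_le_right]
  have h4 : Nat.card (K ⊓ S : Subgroup G) * S.relIndex K = Nat.card K := by
    rw [inf_comm, ← Subgroup.inf_relIndex_right, ← Subgroup.relIndex_bot_left,
      ← Subgroup.relIndex_bot_left, Subgroup.relIndex_mul_relIndex _ _ _ bot_le inf_le_right]
  have hpos : 0 < Nat.card S := Nat.card_pos
  apply Nat.eq_of_mul_eq_mul_left hpos
  rw [h1, ← h2, ← h4, ← h3]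
  ring

/-- A subgroup of index prime to `p` contains a Sylow `p`-subgroup of the group. -/
theorem exists_sylow_le {G : Type*} [Group G] [Finite G] (p : ℕ) [Fact p.Prime] (C : Subgroup G)
    (hC : ¬ p ∣ C.index) : ∃ S : Sylow p G, (S : Subgroup G) ≤ C := by
  obtain ⟨S⟩ : Nonempty (Sylow p C) := inferInstance
  have hSi : ¬ p ∣ ((S : Subgroup C).map C.subtype).index := by
    rw [Subgroup.index_map_subtype]
    intro hd
    rcases (Fact.out : p.Prime).dvd_mul.mp hd with h1 | h1
    · exact S.not_dvd_index h1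
    · exact hC h1
  exact ⟨(S.isPGroup'.map C.subtype).toSylow hSi, Subgroup.map_subtype_le _⟩

/-- The intersection of a Sylow subgroup with a normal subgroup. -/
theorem exists_sylow_inf {G : Type*} [Group G] [Finite G] (p : ℕ) [Fact p.Prime] (S : Sylow p G)
    (K : Subgroup G) [K.Normal] : ∃ T : Sylow p K, (T : Subgroup K).map K.subtype ≤ (S : Subgroup G) := by
  have h1 : IsPGroup p ((S : Subgroup G).subgroupOf K) := S.isPGroup'.comap_of_injective _ K.subtype_injective
  have h2 : ¬ p ∣ ((S : Subgroup G).subgroupOf K).index := by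
    intro hd
    have h3 : ((S : Subgroup G).subgroupOf K).index = (S : Subgroup G).relIndex K := rfl
    rw [h3, ← relIndex_normal] at hd
    exact S.not_dvd_index (hd.trans (Subgroup.relIndex_dvd_index_of_le le_sup_left))
  refine ⟨h1.toSylow h2, ?_⟩
  show ((S : Subgroup G).subgroupOf K).map K.subtype ≤ (S : Subgroup G)
  rw [Subgroup.subgroupOf_map_subtype]
  exact inf_le_left

theorem card_map_mk {G : Type*} [Group G] (N L : Subgroup G) [N.Normal] :
    Nat.card (L.map (QuotientGroup.mk' N)) = N.relIndex L := by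
  rw [← Subgroup.relIndex_ker, QuotientGroup.ker_mk']

end Cfsg.Agent.H630.CLib
end

-- part: H630/NH
section
/-!
# Nilpotent Hall subgroups and class sizes: reduction to simple groups

`Cond π G`: for different primes `p, q ∈ π` no `p`-element of `G` has class size divisible by `q`.
`Row X`: the statement needed for a (simple) group `X`.
-/

set_option autoImplicit false
open Cfsg
open scoped Pointwise

namespace Cfsg.Agent.H630.NH

universe u v

/-- For different primes `p, q ∈ π`, every `p`-element of `G` has class size prime to `q`. -/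
def Cond (π : Set ℕ) (G : Type u) [Group G] : Prop :=
  ∀ p ∈ π, ∀ q ∈ π, p ≠ q → ∀ x : G, (∃ k : ℕ, orderOf x = p ^ k) →
    ¬ q ∣ (Subgroup.centralizer ({x} : Set G)).index

/-- The statement needed for simple groups `X`. -/
def Row (X : Type u) [Group X] : Prop :=
  ∀ π : Set ℕ, (∀ p ∈ π, p.Prime ∧ p ≠ 2 ∧ p ∣ Nat.card X) → π.Nontrivial → Cond π X →
    ∃ T : Subgroup X, IsMulCommutative T ∧ ∀ p ∈ π, ¬ p ∣ T.index

theorem centralizer_map_equiv {X : Type u} {Y : Type v} [Group X] [Group Y] (e : X ≃* Y) (y : X) :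
    Subgroup.centralizer ({e y} : Set Y) = (Subgroup.centralizer ({y} : Set X)).map (e : X →* Y) := by
  ext z
  rw [Subgroup.mem_centralizer_singleton_iff, Subgroup.mem_map]
  constructor
  · intro hz
    refine ⟨e.symm z, ?_, by simp⟩
    rw [Subgroup.mem_centralizer_singleton_iff]
    apply e.injective
    simp [hz]
  · rintro ⟨w, hw, rfl⟩
    rw [Subgroup.mem_centralizer_singleton_iff] at hw
    show e w * e y = e y * e w
    rw [← map_mul, ← map_mul, hw]

theorem Cond.congr {π : Set ℕ} {X : Type u} {Y : Type v} [Group X] [Group Y] (e : X ≃* Y) (h : Cond π X) :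
    Cond π Y := by
  intro p hp q hq hpq y hy hd
  obtain ⟨x, rfl⟩ := e.surjective y
  refine h p hp q hq hpq x ?_ ?_
  · obtain ⟨k, hk⟩ := hy
    exact ⟨k, by rw [← hk, MulEquiv.orderOf_eq]⟩
  · rwa [centralizer_map_equiv, Subgroup.index_map_equiv] at hd

theorem Cond.mono {π π' : Set ℕ} {X : Type u} [Group X] (h : Cond π X) (hs : π' ⊆ π) : Cond π' X :=
  fun p hp q hq hpq => h p (hs hp) q (hs hq) hpq

theorem Row.congr {X : Type u} {Y : Type v} [Group X] [Group Y] (e : X ≃* Y) (h : Row X) : Row Y := by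
  intro π hπ hnt hc
  obtain ⟨T, hT, hi⟩ := h π (fun p hp => ⟨(hπ p hp).1, (hπ p hp).2.1, by
    rw [Nat.card_congr e.toEquiv]; exact (hπ p hp).2.2⟩) hnt (hc.congr e.symm)
  refine ⟨T.map (e : X →* Y), ?_, ?_⟩
  · constructor
    constructor
    rintro ⟨_, a, ha, rfl⟩ ⟨_, b, hb, rfl⟩
    have := hT.is_comm.comm ⟨a, ha⟩ ⟨b, hb⟩
    apply Subtype.ext
    have h2 : a * b = b * a := congrArg Subtype.val this
    show (e : X →* Y) a * (e : X →* Y) b = (e : X →* Y) b * (e : X →* Y) a
    rw [← map_mul, ← map_mul, h2]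
  · intro p hp
    rw [Subgroup.index_map_equiv]
    exact hi p hp

/-- To prove a row it suffices to treat pairs contradictorily. -/
theorem Row.of_pairs {X : Type u} [Group X]
    (h : ∀ p q : ℕ, p.Prime → q.Prime → p ≠ 2 → q ≠ 2 → p < q → p ∣ Nat.card X → q ∣ Nat.card X →
      (∃ x : X, (∃ k : ℕ, orderOf x = p ^ k) ∧ q ∣ (Subgroup.centralizer ({x} : Set X)).index) ∨
      (∃ x : X, (∃ k : ℕ, orderOf x = q ^ k) ∧ p ∣ (Subgroup.centralizer ({x} : Set X)).index)) : Row X := by
  intro π hπ hnt hc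
  exfalso
  obtain ⟨p, hp, q, hq, hpq⟩ := hnt
  wlog hlt : p < q generalizing p q
  · exact this q hq p hp hpq.symm (by omega)
  · rcases h p q (hπ p hp).1 (hπ q hq).1 (hπ p hp).2.1 (hπ q hq).2.1 hlt (hπ p hp).2.2 (hπ q hq).2.2 with
      ⟨x, hx, hd⟩ | ⟨x, hx, hd⟩
    · exact hc p hp q hq hpq x hx hd
    · exact hc q hq p hp hpq.symm x hx hd

theorem Cond.normal {π : Set ℕ} {G : Type u} [Group G] [Finite G] (h : Cond π G) (N : Subgroup G) [N.Normal] :
    Cond π N := by
  intro p hp q hq hpq y hy hd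
  apply h p hp q hq hpq (y : G) (by obtain ⟨k, hk⟩ := hy; exact ⟨k, by rw [← hk, Subgroup.orderOf_coe]⟩)
  refine hd.trans ?_
  have h1 : (Subgroup.centralizer ({y} : Set N)) = (Subgroup.centralizer ({(y : G)} : Set G)).subgroupOf N := by
    ext z
    rw [Subgroup.mem_subgroupOf, Subgroup.mem_centralizer_singleton_iff, Subgroup.mem_centralizer_singleton_iff]
    constructor
    · intro hz
      exact_mod_cast congrArg (Subtype.val) hz
    · intro hz
      exact Subtype.ext (by exact_mod_cast hz)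
  rw [h1]
  have h2 : ((Subgroup.centralizer ({(y : G)} : Set G)).subgroupOf N).index
      = (Subgroup.centralizer ({(y : G)} : Set G)).relIndex N := rfl
  rw [h2, ← CLib.relIndex_normal]
  exact Subgroup.relIndex_dvd_index_of_le le_sup_left

theorem Cond.of_surjective {π : Set ℕ} (hπ : ∀ p ∈ π, p.Prime) {G : Type u} {H : Type v} [Group G] [Finite G]
    [Group H] (h : Cond π G) (f : G →* H) (hf : Function.Surjective f) : Cond π H := by
  intro p hp q hq hpq
  have : Fact p.Prime := ⟨hπ p hp⟩
  exact CLib.Cond.of_surjective q p (h p hp q hq hpq) f hf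

/-- `x ∈ N(A)` normalizes every normal Sylow subgroup of `A`. -/
theorem normalizes_sylow {G : Type u} [Group G] [Finite G] (A : Subgroup G) (s : ℕ) [Fact s.Prime]
    (B : Sylow s A) (hB : (B : Subgroup A).Normal) (x : G) (hx : x ∈ Subgroup.normalizer (A : Set G)) :
    x ∈ Subgroup.normalizer (((B : Subgroup A).map A.subtype : Subgroup G) : Set G) := by
  have hch : (B : Subgroup A).Characteristic := Sylow.characteristic_of_normal B hB
  have key : ∀ y ∈ Subgroup.normalizer (A : Set G), ∀ b ∈ (B : Subgroup A).map A.subtype,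
      y * b * y⁻¹ ∈ (B : Subgroup A).map A.subtype := by
    rintro y hy _ ⟨b, hb, rfl⟩
    have h1 := hch.fixed (Subgroup.normalizerMonoidHom A ⟨y, hy⟩)
    rw [← h1] at hb
    exact ⟨_, hb, rfl⟩
  rw [Subgroup.mem_normalizer_iff]
  intro b
  refine ⟨fun hb => key x hx b hb, fun hb => ?_⟩
  have := key x⁻¹ (Subgroup.inv_mem _ hx) _ hb
  have h2 : x⁻¹ * (x * b * x⁻¹) * x⁻¹⁻¹ = b := by group
  rwa [h2] at this

/-- The main point: a `p`-element whose class size is prime to `s`, and which normalizes a Sylow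
`s`-subgroup `B` of the normal subgroup `N` centralized by a Sylow `p`-subgroup of `N`, centralizes `B`. -/
theorem centralizes {G : Type u} [Group G] [Finite G] (p s : ℕ) [Fact p.Prime] [Fact s.Prime]
    (N : Subgroup G) [N.Normal] (B : Sylow s N) (P : Sylow p N)
    (hPB : ∀ y ∈ (P : Subgroup N), ∀ b ∈ (B : Subgroup N), y * b = b * y)
    (x : G) (hx : ∃ k : ℕ, orderOf x = p ^ k)
    (hxc : ¬ s ∣ (Subgroup.centralizer ({x} : Set G)).index)
    (hxB : x ∈ Subgroup.normalizer (((B : Subgroup N).map N.subtype : Subgroup G) : Set G))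
    (b : G) (hb : b ∈ (B : Subgroup N).map N.subtype) : x * b = b * x := by
  obtain ⟨S, hS⟩ := CLib.exists_sylow_le s _ hxc
  obtain ⟨T, hT⟩ := CLib.exists_sylow_inf s S N
  have hTc : ∀ t ∈ (T : Subgroup N).map N.subtype, t * x = x * t := by
    intro t ht
    exact Subgroup.mem_centralizer_singleton_iff.mp (hS (hT ht))
  obtain ⟨n, hn⟩ := MulAction.exists_smul_eq N T B
  set BG := (B : Subgroup N).map N.subtype with hBG
  -- `x' = n x n⁻¹` centralizes `B`
  set x' : G := n * x * (n : G)⁻¹ with hx'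
  have hx'c : ∀ c ∈ BG, x' * c = c * x' := by
    rintro _ ⟨c, hc, rfl⟩
    have hc2 : c ∈ (B : Subgroup N) := hc
    rw [← hn] at hc2
    have hc3 : c ∈ (MulAut.conj n • (T : Subgroup N)) := hc2
    rw [Subgroup.mem_smul_pointwise_iff_exists] at hc3
    obtain ⟨t, ht, rfl⟩ := hc3
    have h1 : (t : G) * x = x * t := hTc _ (Subgroup.mem_map_of_mem N.subtype ht)
    have h2 : (((MulAut.conj n • t : N)) : G) = n * t * (n : G)⁻¹ := by
      simp [MulAut.smul_def, MulAut.conj_apply]
    show x' * ((MulAut.conj n • t : N) : G) = ((MulAut.conj n • t : N) : G) * x'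
    rw [h2, hx']
    calc (n : G) * x * (n : G)⁻¹ * (n * t * (n : G)⁻¹) = n * (x * t) * (n : G)⁻¹ := by group
      _ = n * (t * x) * (n : G)⁻¹ := by rw [h1]
      _ = _ := by group
  have hx'N : x' ∈ Subgroup.centralizer (BG : Set G) := by
    rw [Subgroup.mem_centralizer_iff]
    intro c hc
    exact (hx'c c hc).symm
  have hcn : Subgroup.centralizer (BG : Set G) ≤ Subgroup.normalizer (BG : Set G) :=
    Subgroup.centralizer_le_normalizer _
  set t : G := x' * x⁻¹ with ht
  have htN : t ∈ N := by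
    rw [ht, hx']
    have h1 : x * (n : G)⁻¹ * x⁻¹ ∈ N := (inferInstance : N.Normal).conj_mem _ (Subgroup.inv_mem _ n.2) x
    have h2 : (n : G) * x * (n : G)⁻¹ * x⁻¹ = n * (x * (n : G)⁻¹ * x⁻¹) := by group
    rw [h2]
    exact Subgroup.mul_mem _ n.2 h1
  have htn : t ∈ Subgroup.normalizer (BG : Set G) :=
    Subgroup.mul_mem _ (hcn hx'N) (Subgroup.inv_mem _ hxB)
  -- the automizer of `B` in `N` is a `p'`-group
  set C : Subgroup N := (Subgroup.centralizer ((B : Subgroup N) : Set N)) with hC
  set M : Subgroup N := Subgroup.normalizer ((B : Subgroup N) : Set N) with hM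
  have hCM : C ≤ M := Subgroup.centralizer_le_normalizer _
  have hCi : ¬ p ∣ C.relIndex M := by
    intro hd
    have h1 : (P : Subgroup N) ≤ C := by
      intro y hy
      rw [hC, Subgroup.mem_centralizer_iff]
      intro b hb
      exact (hPB y hy b hb).symm
    exact P.not_dvd_index ((hd.trans (Subgroup.relIndex_dvd_index_of_le hCM)).trans (Subgroup.index_dvd_of_le h1))
  have hCn : (C.subgroupOf M).Normal := by
    rw [← Subgroup.normalizerMonoidHom_ker]
    infer_instance
  have htM : (⟨t, htN⟩ : N) ∈ M := by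
    rw [hM, Subgroup.mem_normalizer_iff]
    intro b
    have h1 := Subgroup.mem_normalizer_iff.mp htn (b : G)
    constructor
    · intro hb
      obtain ⟨c, hc, hc2⟩ := h1.mp ⟨b, hb, rfl⟩
      have : c = ⟨t, htN⟩ * b * (⟨t, htN⟩ : N)⁻¹ := Subtype.ext hc2
      rw [← this]; exact hc
    · intro hb
      obtain ⟨c, hc, hc2⟩ := h1.mpr ⟨_, hb, rfl⟩
      have : c = b := Subtype.ext hc2
      rw [← this]; exact hc
  have htm : t ^ (C.relIndex M) ∈ Subgroup.centralizer (BG : Set G) := by
    have h1 : (⟨⟨t, htN⟩, htM⟩ : M) ^ (C.subgroupOf M).index ∈ C.subgroupOf M := by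
      have := hCn
      exact Subgroup.pow_index_mem _ _
    have h2 : (⟨t, htN⟩ : N) ^ (C.relIndex M) ∈ C := h1
    rw [Subgroup.mem_centralizer_iff]
    rintro _ ⟨c, hc, rfl⟩
    have h3 := Subgroup.mem_centralizer_iff.mp h2 c hc
    exact congrArg Subtype.val h3
  -- conclude in the automorphism group
  set φ := Subgroup.normalizerMonoidHom BG with hφ
  have hker : ∀ y (hy : y ∈ Subgroup.normalizer (BG : Set G)), φ ⟨y, hy⟩ = 1 ↔ y ∈ Subgroup.centralizer (BG : Set G) := by
    intro y hy
    rw [← MonoidHom.mem_ker, hφ, Subgroup.normalizerMonoidHom_ker]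
    exact Subgroup.mem_subgroupOf
  have e1 : φ ⟨x, hxB⟩ = φ ⟨t, htn⟩⁻¹ := by
    have h1 : (⟨x, hxB⟩ : Subgroup.normalizer (BG : Set G)) = ⟨t, htn⟩⁻¹ * ⟨x', hcn hx'N⟩ := by
      apply Subtype.ext
      show x = t⁻¹ * x'
      rw [ht]; group
    rw [h1, map_mul, (hker x' (hcn hx'N)).mpr hx'N, mul_one]
  have e2 : φ ⟨x, hxB⟩ ^ (C.relIndex M) = 1 := by
    rw [e1, ← map_pow, inv_pow, map_inv, inv_eq_one]
    have h1 : (⟨t, htn⟩ : Subgroup.normalizer (BG : Set G)) ^ (C.relIndex M)
        = ⟨t ^ (C.relIndex M), Subgroup.pow_mem _ htn _⟩ := rfl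
    rw [h1]
    exact (hker _ _).mpr htm
  obtain ⟨k, hk⟩ := hx
  have e3 : φ ⟨x, hxB⟩ ^ (p ^ k) = 1 := by
    rw [← map_pow]
    have h1 : (⟨x, hxB⟩ : Subgroup.normalizer (BG : Set G)) ^ (p ^ k) = 1 := by
      apply Subtype.ext
      show x ^ (p ^ k) = 1
      rw [← hk, pow_orderOf_eq_one]
    rw [h1, map_one]
  have e4 : φ ⟨x, hxB⟩ = 1 := by
    have h1 : orderOf (φ ⟨x, hxB⟩) ∣ 1 := by
      have h2 : Nat.Coprime (C.relIndex M) (p ^ k) :=
        (Nat.Coprime.pow_left k (((Fact.out : p.Prime).coprime_iff_not_dvd).mpr hCi)).symm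
      have h3 := Nat.dvd_gcd (orderOf_dvd_of_pow_eq_one e2) (orderOf_dvd_of_pow_eq_one e3)
      rwa [h2.gcd_eq_one] at h3
    exact orderOf_eq_one_iff.mp (Nat.dvd_one.mp h1)
  have e5 := (hker x hxB).mp e4
  exact (Subgroup.mem_centralizer_iff.mp e5 b hb).symm

theorem coprime_of_hall {G : Type u} [Group G] [Finite G] {π : Set ℕ} {H : Subgroup G} (hH : IsPiHall π H) :
    (Nat.card H).Coprime H.index := by
  rw [Nat.coprime_iff_gcd_eq_one]
  by_contra hne
  obtain ⟨p, hp, hd⟩ := Nat.exists_prime_and_dvd hne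
  exact hH.2 p hp (hH.1 p hp (hd.trans (Nat.gcd_dvd_left _ _))) (hd.trans (Nat.gcd_dvd_right _ _))

/-- A Sylow subgroup of a subgroup `A ≤ N` of index prime to `s` is a Sylow subgroup of `N`. -/
theorem exists_sylow_eq {G : Type u} [Group G] [Finite G] (s : ℕ) [Fact s.Prime] {A N : Subgroup G} (hAN : A ≤ N)
    (hi : ¬ s ∣ A.relIndex N) (B : Sylow s A) :
    ∃ B' : Sylow s N, (B' : Subgroup N).map N.subtype = (B : Subgroup A).map A.subtype := by
  set BG := (B : Subgroup A).map A.subtype with hBG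
  have hBA : BG ≤ A := Subgroup.map_subtype_le _
  have hBN : BG ≤ N := hBA.trans hAN
  have h1 : IsPGroup s (BG.subgroupOf N) :=
    (B.isPGroup'.map A.subtype).comap_of_injective _ N.subtype_injective
  have h2 : ¬ s ∣ (BG.subgroupOf N).index := by
    intro hd
    have h3 : (BG.subgroupOf N).index = BG.relIndex N := rfl
    rw [h3, ← Subgroup.relIndex_mul_relIndex BG A N hBA hAN] at hd
    rcases (Fact.out : s.Prime).dvd_mul.mp hd with h4 | h4
    · have h5 : BG.relIndex A = (B : Subgroup A).index := by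
        rw [Subgroup.relIndex, Subgroup.subgroupOf, hBG, Subgroup.comap_map_eq_self_of_injective A.subtype_injective]
      rw [h5] at h4
      exact B.not_dvd_index h4
    · exact hi h4
  refine ⟨h1.toSylow h2, ?_⟩
  show (BG.subgroupOf N).map N.subtype = BG
  rw [Subgroup.subgroupOf_map_subtype, inf_eq_left.mpr hBN]

theorem sylow_normal {A : Type u} [Group A] [Finite A] (hA : Group.IsNilpotent A) (s : ℕ) [Fact s.Prime]
    (B : Sylow s A) : (B : Subgroup A).Normal := by
  have := (Group.isNilpotent_of_finite_tfae (G := A)).out 0 3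
  exact this.mp hA s inferInstance B

/-- Gluing: nilpotent Hall subgroups of `N` and `G ⧸ N`, and the class size condition. -/
theorem extension {G : Type u} [Group G] [Finite G] {π : Set ℕ} (_hπ : ∀ p ∈ π, p.Prime) (h : Cond π G)
    (N : Subgroup G) [N.Normal] (hN : ∃ H : Subgroup N, IsPiHall π H ∧ Group.IsNilpotent H)
    (hQ : ∃ H : Subgroup (G ⧸ N), IsPiHall π H ∧ Group.IsNilpotent H) :
    ∃ H : Subgroup G, IsPiHall π H ∧ Group.IsNilpotent H := by
  obtain ⟨H0, hH0, hn0⟩ := hN
  obtain ⟨K, hK, hnK⟩ := hQ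
  set A : Subgroup G := H0.map N.subtype with hA
  have hAN : A ≤ N := Subgroup.map_subtype_le H0
  have hAc : Nat.card A = Nat.card H0 := Subgroup.card_map_of_injective N.subtype_injective
  have hArel : A.relIndex N = H0.index := by
    rw [Subgroup.relIndex, Subgroup.subgroupOf, hA, Subgroup.comap_map_eq_self_of_injective N.subtype_injective]
  have hAnil : Group.IsNilpotent A := by
    have e : H0 ≃* A := Subgroup.equivMapOfInjective H0 N.subtype N.subtype_injective
    exact (Group.isNilpotent_congr e).mp hn0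
  set M : Subgroup G := Subgroup.normalizer (A : Set G) with hM
  have hAM : A ≤ M := Subgroup.le_normalizer
  -- Frattini
  have hfr : ∀ g : G, ∃ n : N, (n : G) * g ∈ M := by
    intro g
    set φ : MulAut N := MulAut.conjNormal g with hφ
    obtain ⟨n, hn⟩ := S0581.result H0 (H0.map (φ : N →* N)) hn0 (coprime_of_hall hH0) (by
      intro p hp hd
      have : Nat.card (H0.map (φ : N →* N)) = Nat.card H0 :=
        Subgroup.card_map_of_injective φ.injective
      rwa [this] at hd)
    refine ⟨n⁻¹, ?_⟩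
    have key : ∀ a ∈ A, ((n⁻¹ : N) : G) * g * a * (((n⁻¹ : N) : G) * g)⁻¹ ∈ A := by
      rintro _ ⟨a, ha, rfl⟩
      have h1 : φ a ∈ MulAut.conj n • H0 := hn ⟨a, ha, rfl⟩
      rw [Subgroup.mem_smul_pointwise_iff_exists] at h1
      obtain ⟨c, hc, hc2⟩ := h1
      refine ⟨c, hc, ?_⟩
      have h2 : (φ a : G) = g * a * g⁻¹ := MulAut.conjNormal_apply g a
      have h3 : (((MulAut.conj n • c : N)) : G) = n * c * (n : G)⁻¹ := by
        simp [MulAut.smul_def, MulAut.conj_apply]
      rw [← hc2, h3] at h2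
      show (c : G) = _
      have h4 : (c : G) = (n : G)⁻¹ * (n * c * (n : G)⁻¹) * n := by group
      rw [h4, h2]
      simp only [Subgroup.coe_inv, mul_inv_rev, inv_inv]
      show _ = (n : G)⁻¹ * g * a * (g⁻¹ * n)
      group
    exact Subgroup.mem_normalizer_fintype (S := (A : Set G)) key
  set mk := QuotientGroup.mk' N with hmk
  set L : Subgroup G := M ⊓ K.comap mk with hL
  have hAL : A ≤ L := le_inf hAM (by
    rw [← Subgroup.map_le_iff_le_comap]
    have h1 : A.map mk = ⊥ := by
      rw [Subgroup.map_eq_bot_iff, hmk, QuotientGroup.ker_mk']; exact hAN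
    rw [h1]; exact bot_le)
  have hLM : L ≤ M := inf_le_left
  set f : L →* G ⧸ N := mk.comp L.subtype with hf
  have hfker : f.ker = N.subgroupOf L := by
    ext x
    rw [MonoidHom.mem_ker, Subgroup.mem_subgroupOf]
    show (mk (x : G)) = 1 ↔ _
    rw [← MonoidHom.mem_ker, hmk, QuotientGroup.ker_mk']
  have hfrange : f.range = K := by
    apply le_antisymm
    · rintro _ ⟨x, rfl⟩
      exact (Subgroup.mem_inf.mp x.2).2
    · intro k hk
      obtain ⟨g, rfl⟩ := QuotientGroup.mk'_surjective N k
      obtain ⟨n, hn⟩ := hfr g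
      have h1 : mk ((n : G) * g) = mk g := by
        rw [map_mul]
        have : mk (n : G) = 1 := by
          rw [← MonoidHom.mem_ker, hmk, QuotientGroup.ker_mk']; exact n.2
        rw [this, one_mul]
      refine ⟨⟨(n : G) * g, Subgroup.mem_inf.mpr ⟨hn, ?_⟩⟩, h1⟩
      show mk ((n : G) * g) ∈ K
      rw [h1]; exact hk
  have hNind : (N.subgroupOf L).index = Nat.card K := by
    rw [← hfker, Subgroup.index_ker, hfrange]
  have hA'n : (A.subgroupOf L).Normal := by
    apply Subgroup.normal_subgroupOf_of_le_normalizer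
    exact hLM
  set A' := A.subgroupOf L with hA'
  set N' := N.subgroupOf L with hN'
  have hA'N' : A' ≤ N' := Subgroup.comap_mono hAN
  have hN'n : N'.Normal := by rw [← hfker]; infer_instance
  set mk2 := QuotientGroup.mk' A' with hmk2
  have hs2 : Function.Surjective mk2 := QuotientGroup.mk'_surjective A'
  have hker2 : mk2.ker = A' := QuotientGroup.ker_mk' A'
  set N2 := N'.map mk2 with hN2
  have hN2n : N2.Normal := Subgroup.Normal.map hN'n mk2 hs2
  have hN2i : N2.index = Nat.card K := by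
    rw [hN2, Subgroup.index_map_eq _ hs2 (by rw [hker2]; exact hA'N') , hNind]
  have hN2c : Nat.card N2 ∣ H0.index := by
    rw [hN2, ← hArel, CLib.card_map_mk]
    have h1 : A'.relIndex N' = A.relIndex (N ⊓ L) := by
      rw [hA', Subgroup.subgroupOf, Subgroup.relIndex_comap, hN', Subgroup.subgroupOf_map_subtype]
    rw [h1, ← Subgroup.relIndex_mul_relIndex A (N ⊓ L) N (le_inf hAN hAL) inf_le_left]
    exact dvd_mul_right _ _
  have hcop : (Nat.card N2).Coprime N2.index := by
    rw [hN2i]
    refine Nat.Coprime.coprime_dvd_left hN2c ?_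
    rw [Nat.coprime_iff_gcd_eq_one]
    by_contra hne
    obtain ⟨p, hp, hd⟩ := Nat.exists_prime_and_dvd hne
    exact hH0.2 p hp (hK.1 p hp (hd.trans (Nat.gcd_dvd_right _ _))) (hd.trans (Nat.gcd_dvd_left _ _))
  obtain ⟨C2, hC2⟩ := Subgroup.exists_right_complement'_of_coprime hcop
  have hC2c : Nat.card C2 = Nat.card K := by
    rw [← hN2i]; exact hC2.symm.index_eq_card.symm
  set C1 : Subgroup L := C2.comap mk2 with hC1
  have hA'C1 : A' ≤ C1 := by
    intro a ha
    show mk2 a ∈ C2
    have : mk2 a = 1 := by rw [← MonoidHom.mem_ker, hker2]; exact ha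
    rw [this]; exact C2.one_mem
  have hC1c : Nat.card C1 = Nat.card A * Nat.card K := by
    have h1 : Nat.card C1 = Nat.card A' * A'.relIndex C1 := by
      rw [mul_comm, ← Subgroup.relIndex_bot_left, ← Subgroup.relIndex_bot_left, mul_comm,
        Subgroup.relIndex_mul_relIndex _ _ _ bot_le hA'C1]
    have h2 : A'.relIndex C1 = Nat.card C2 := by
      rw [← CLib.card_map_mk, hC1, ← hmk2, Subgroup.map_comap_eq_self_of_surjective hs2]
    have h3 : Nat.card A' = Nat.card A := Nat.card_congr (Subgroup.subgroupOfEquivOfLe hAL).toEquiv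
    rw [h1, h2, h3, hC2c]
  have hC1N : C1 ⊓ N' ≤ A' := by
    intro x hx
    obtain ⟨h1, h2⟩ := Subgroup.mem_inf.mp hx
    have h3 : mk2 x ∈ N2 ⊓ C2 := Subgroup.mem_inf.mpr ⟨⟨x, h2, rfl⟩, h1⟩
    rw [hC2.disjoint.eq_bot, Subgroup.mem_bot, ← MonoidHom.mem_ker, hker2] at h3
    exact h3
  set C : Subgroup G := C1.map L.subtype with hC
  have hCL : C ≤ L := Subgroup.map_subtype_le _
  have hCM : C ≤ M := hCL.trans hLM
  have hCc : Nat.card C = Nat.card A * Nat.card K := by
    rw [hC, Subgroup.card_map_of_injective L.subtype_injective, hC1c]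
  have hAC : A ≤ C := by
    intro a ha
    exact ⟨⟨a, hAL ha⟩, hA'C1 ha, rfl⟩
  have hCN : C ⊓ N ≤ A := by
    rintro x hx
    obtain ⟨⟨y, hy, rfl⟩, h2⟩ := Subgroup.mem_inf.mp hx
    exact hC1N (Subgroup.mem_inf.mpr ⟨hy, h2⟩)
  have hCi : C.index = H0.index * K.index := by
    have h1 : Nat.card C * C.index = Nat.card G := C.card_mul_index
    have h2 : Nat.card G = Nat.card (G ⧸ N) * Nat.card N := Subgroup.card_eq_card_quotient_mul_card_subgroup N
    have h3 : Nat.card H0 * H0.index = Nat.card N := H0.card_mul_index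
    have h4 : Nat.card K * K.index = Nat.card (G ⧸ N) := K.card_mul_index
    have h5 : 0 < Nat.card C := Nat.card_pos
    apply Nat.eq_of_mul_eq_mul_left h5
    rw [h1, h2, ← h3, ← h4, hCc, hAc]
    ring
  refine ⟨C, ⟨?_, ?_⟩, ?_⟩
  · intro p hp hd
    rw [hCc, hAc] at hd
    rcases hp.dvd_mul.mp hd with h1 | h1
    · exact hH0.1 p hp h1
    · exact hK.1 p hp h1
  · intro p hp hpπ hd
    rw [hCi] at hd
    rcases hp.dvd_mul.mp hd with h1 | h1
    · exact hH0.2 p hp hpπ h1
    · exact hK.2 p hp hpπ h1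
  -- nilpotency
  have htfae := (Group.isNilpotent_of_finite_tfae (G := C)).out 0 3
  rw [htfae]
  intro p hp P
  have hAn : (A.subgroupOf C).Normal := Subgroup.normal_subgroupOf_of_le_normalizer hCM
  set AC := A.subgroupOf C with hACdef
  set g : C →* G ⧸ N := mk.comp C.subtype with hg
  have hgker : g.ker = AC := by
    ext x
    rw [MonoidHom.mem_ker]
    show (mk (x : G)) = 1 ↔ (x : G) ∈ A
    rw [← MonoidHom.mem_ker, hmk, QuotientGroup.ker_mk']
    exact ⟨fun hx => hCN (Subgroup.mem_inf.mpr ⟨x.2, hx⟩), fun hx => hAN hx⟩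
  have hgr : g.range ≤ K := by
    rintro _ ⟨x, rfl⟩
    exact (Subgroup.mem_inf.mp (hCL x.2)).2
  have hrn : Group.IsNilpotent g.range := by
    have : Group.IsNilpotent K := hnK
    exact (Group.isNilpotent_congr (Subgroup.subgroupOfEquivOfLe hgr)).mp inferInstance
  have hN1 : ((P : Subgroup C) ⊔ AC).Normal := by
    have h1 : ((P.mapSurjective g.rangeRestrict_surjective : Sylow p g.range) : Subgroup g.range).Normal :=
      sylow_normal hrn p _
    have h2 : (P : Subgroup C) ⊔ AC = (((P.mapSurjective g.rangeRestrict_surjective : Sylow p g.range) :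
        Subgroup g.range)).comap g.rangeRestrict := by
      rw [Sylow.coe_mapSurjective, Subgroup.comap_map_eq, MonoidHom.ker_rangeRestrict, hgker]
    rw [h2]
    exact h1.comap _
  have hAP : AC ≤ Subgroup.normalizer ((P : Subgroup C) : Set C) := by
    have hBp : ∀ (s : ℕ) [Fact s.Prime] (B : Sylow s AC), (B : Subgroup AC) ≤
        (Subgroup.normalizer ((P : Subgroup C) : Set C)).subgroupOf AC := by
      intro s hs B b hb
      rw [Subgroup.mem_subgroupOf]
      have hbA : ((b : C) : G) ∈ A := b.2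
      -- the Sylow `s`-subgroup of `A`
      obtain ⟨BA⟩ : Nonempty (Sylow s A) := inferInstance
      have hBAn := sylow_normal hAnil s BA
      obtain ⟨kb, hkb⟩ : ∃ k : ℕ, orderOf b = s ^ k := by
        obtain ⟨k, hk⟩ := (IsPGroup.iff_orderOf.mp B.isPGroup') ⟨b, hb⟩
        exact ⟨k, hk ▸ Subgroup.orderOf_coe (⟨b, hb⟩ : (B : Subgroup AC))⟩
      have hbBA : (⟨((b : C) : G), hbA⟩ : A) ∈ (BA : Subgroup A) := by
        have h1 : IsPGroup s (Subgroup.zpowers (⟨((b : C) : G), hbA⟩ : A)) := by
          apply IsPGroup.of_card (n := kb)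
          rw [Nat.card_zpowers, ← Subgroup.orderOf_coe, ← hkb, ← Subgroup.orderOf_coe b, ← Subgroup.orderOf_coe (b : C)]
        obtain ⟨Q, hQ⟩ := h1.exists_le_sylow
        have hQn := sylow_normal hAnil s Q
        have h2 : Q = BA := by
          have := Sylow.unique_of_normal Q hQn
          exact Subsingleton.elim _ _
        rw [← h2]
        exact hQ (Subgroup.mem_zpowers _)
      by_cases hsp : s = p
      · subst hsp
        have hn : (((BA : Subgroup A).map A.subtype).subgroupOf C).Normal := by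
          apply Subgroup.normal_subgroupOf_of_le_normalizer
          intro x hx
          exact normalizes_sylow A s BA hBAn x (hCM hx)
        have hpg : IsPGroup s (((BA : Subgroup A).map A.subtype).subgroupOf C) :=
          (BA.isPGroup'.map A.subtype).comap_of_injective _ C.subtype_injective
        have h3 := (Lib.Cores.le_pCore hn hpg).trans (Lib.Cores.pCore_le_sylow P)
        exact Subgroup.le_normalizer (h3 (by
          rw [Subgroup.mem_subgroupOf]
          exact ⟨_, hbBA, rfl⟩))
      · apply Subgroup.centralizer_le_normalizer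
        rw [Subgroup.mem_centralizer_iff]
        intro x hx
        obtain ⟨kx, hkx⟩ := (IsPGroup.iff_orderOf.mp P.isPGroup') ⟨x, hx⟩
        rw [Subgroup.orderOf_mk] at hkx
        by_cases hx1 : x = 1
        · rw [hx1, one_mul, mul_one]
        by_cases hb1 : b = 1
        · rw [hb1]; simp
        have hpC : p ∣ Nat.card C := by
          have h4 : kx ≠ 0 := by
            rintro rfl
            rw [pow_zero, orderOf_eq_one_iff] at hkx
            exact hx1 hkx
          exact (dvd_pow_self p h4).trans (hkx ▸ orderOf_dvd_natCard x)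
        have hsA : s ∣ Nat.card A := by
          have h4 : kb ≠ 0 := by
            rintro rfl
            rw [pow_zero, orderOf_eq_one_iff] at hkb
            exact hb1 hkb
          refine (dvd_pow_self s h4).trans ?_
          rw [← hkb, ← Subgroup.orderOf_coe b, ← Subgroup.orderOf_coe (b : C)]
          exact Subgroup.orderOf_dvd_natCard A hbA
        have hsπ : s ∈ π := hH0.1 s hs.out (hAc ▸ hsA)
        have hpπ : p ∈ π := by
          rw [hCc, hAc] at hpC
          rcases hp.out.dvd_mul.mp hpC with h5 | h5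
          · exact hH0.1 p hp.out h5
          · exact hK.1 p hp.out h5
        obtain ⟨PA⟩ : Nonempty (Sylow p A) := inferInstance
        have hPAn := sylow_normal hAnil p PA
        obtain ⟨BN, hBN⟩ := exists_sylow_eq s hAN (by rw [hArel]; exact hH0.2 s hs.out hsπ) BA
        obtain ⟨PN, hPN⟩ := exists_sylow_eq p hAN (by rw [hArel]; exact hH0.2 p hp.out hpπ) PA
        have hcomm : ∀ y ∈ (PN : Subgroup N), ∀ b ∈ (BN : Subgroup N), y * b = b * y := by
          intro y hy c hc
          have h6 : (y : G) ∈ (PA : Subgroup A).map A.subtype := by rw [← hPN]; exact ⟨y, hy, rfl⟩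
          have h7 : (c : G) ∈ (BA : Subgroup A).map A.subtype := by rw [← hBN]; exact ⟨c, hc, rfl⟩
          obtain ⟨y', hy', hyy⟩ := h6
          obtain ⟨c', hc', hcc⟩ := h7
          have hdis : Disjoint (PA : Subgroup A) (BA : Subgroup A) :=
            IsPGroup.disjoint_of_ne p s (fun h => hsp h.symm) _ _ PA.isPGroup' BA.isPGroup'
          have h8 := Subgroup.commute_of_normal_of_disjoint _ _ hPAn hBAn hdis y' c' hy' hc'
          apply Subtype.ext
          show (y : G) * (c : G) = c * y
          rw [← hyy, ← hcc]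
          exact congrArg Subtype.val h8
        have h9 := centralizes p s N BN PN hcomm (x : G) ⟨kx, by rw [Subgroup.orderOf_coe]; exact hkx⟩
          (h p hpπ s hsπ (fun h => hsp h.symm) (x : G) ⟨kx, by rw [Subgroup.orderOf_coe]; exact hkx⟩)
          (by rw [hBN]; exact normalizes_sylow A s BA hBAn x (hCM x.2)) ((b : C) : G)
          (by rw [hBN]; exact ⟨_, hbBA, rfl⟩)
        exact Subtype.ext h9
    -- conclude
    have h1 : ((Subgroup.normalizer ((P : Subgroup C) : Set C)).subgroupOf AC).index = 1 := by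
      by_contra hne
      obtain ⟨s, hs, hd⟩ := Nat.exists_prime_and_dvd hne
      have : Fact s.Prime := ⟨hs⟩
      obtain ⟨B⟩ : Nonempty (Sylow s AC) := inferInstance
      exact B.not_dvd_index (hd.trans (Subgroup.index_dvd_of_le (hBp s B)))
    exact Subgroup.subgroupOf_eq_top.mp (Subgroup.index_eq_one.mp h1)
  set N1 := (P : Subgroup C) ⊔ AC with hN1def
  have hle : (P : Subgroup C) ≤ N1 := le_sup_left
  have h1 := Sylow.normalizer_sup_eq_top (P.subtype hle)
  have h2 : ((P.subtype hle : Sylow p N1) : Subgroup N1).map N1.subtype = (P : Subgroup C) := by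
    rw [Sylow.coe_subtype, Subgroup.subgroupOf_map_subtype, inf_eq_left.mpr hle]
  rw [h2] at h1
  have h3 : N1 ≤ Subgroup.normalizer ((P : Subgroup C) : Set C) :=
    sup_le Subgroup.le_normalizer hAP
  rw [sup_eq_left.mpr h3] at h1
  exact Subgroup.normalizer_eq_top_iff.mp h1

/-- **Reduction to simple groups**: if simple groups satisfying `Cond π` have nilpotent Hall subgroups then so do
all finite groups satisfying `Cond π`. -/
theorem of_simple {π : Set ℕ} (hπ : ∀ p ∈ π, p.Prime)
    (hS : ∀ (X : Type u) [Group X] [Finite X] [IsSimpleGroup X], ¬ IsMulCommutative X → Cond π X →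
      ∃ H : Subgroup X, IsPiHall π H ∧ Group.IsNilpotent H)
    {G : Type u} [Group G] [Finite G] (h : Cond π G) : ∃ H : Subgroup G, IsPiHall π H ∧ Group.IsNilpotent H := by
  induction hn : Nat.card G using Nat.strong_induction_on generalizing G with
  | _ n ih =>
    subst hn
    by_cases hsimple : IsSimpleGroup G
    · by_cases hab : IsMulCommutative G
      · let _ : CommGroup G := { (inferInstance : Group G) with mul_comm := hab.is_comm.comm }
        have hpr : (Nat.card G).Prime := IsSimpleGroup.prime_card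
        by_cases hm : Nat.card G ∈ π
        · refine ⟨⊤, ⟨?_, ?_⟩, ?_⟩
          · intro p hp hd
            rw [Subgroup.card_top] at hd
            rwa [(Nat.prime_dvd_prime_iff_eq hp hpr).mp hd]
          · intro p hp _ hd
            rw [Subgroup.index_top] at hd
            exact hp.one_lt.ne' (Nat.dvd_one.mp hd)
          · infer_instance
        · refine ⟨⊥, ⟨?_, ?_⟩, ?_⟩
          · intro p hp hd
            rw [Subgroup.card_bot] at hd
            exact absurd (Nat.dvd_one.mp hd) hp.one_lt.ne'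
          · intro p hp hpπ hd
            rw [Subgroup.index_bot] at hd
            rw [(Nat.prime_dvd_prime_iff_eq hp hpr).mp hd] at hpπ
            exact hm hpπ
          · infer_instance
      · exact hS G hab h
    · by_cases hnt : Nontrivial G
      · have h1 : ∃ N : Subgroup G, N.Normal ∧ N ≠ ⊥ ∧ N ≠ ⊤ := by
          by_contra hcon
          push Not at hcon
          exact hsimple ⟨fun N hN => by
            by_cases hb : N = ⊥
            · exact Or.inl hb
            · exact Or.inr (hcon N hN hb)⟩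
        obtain ⟨N, hN, hb, ht⟩ := h1
        have hlt : Nat.card N < Nat.card G := by
          refine lt_of_le_of_ne (Subgroup.card_le_card_group N) ?_
          intro he
          exact ht (Subgroup.eq_top_of_card_eq N he)
        have hlt2 : Nat.card (G ⧸ N) < Nat.card G := by
          have h2 := Subgroup.card_eq_card_quotient_mul_card_subgroup N
          have h3 : 1 < Nat.card N := by
            have h4 : Nat.card N ≠ 1 := fun he => hb (Subgroup.card_eq_one.mp he)
            have h5 : 0 < Nat.card N := Nat.card_pos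
            omega
          have h4 : 0 < Nat.card (G ⧸ N) := Nat.card_pos
          nlinarith
        exact extension hπ h N (ih _ hlt (h.normal N) rfl)
          (ih _ hlt2 (h.of_surjective hπ (QuotientGroup.mk' N) (QuotientGroup.mk'_surjective N)) rfl)
      · rw [not_nontrivial_iff_subsingleton] at hnt
        have hc : Nat.card (⊥ : Subgroup G) = 1 := Subgroup.card_bot
        refine ⟨⊥, ⟨?_, ?_⟩, ?_⟩
        · intro p hp hd
          rw [Subgroup.card_bot] at hd
          exact absurd (Nat.dvd_one.mp hd) hp.one_lt.ne'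
        · intro p hp hpπ hd
          rw [Subgroup.index_bot, Nat.card_of_subsingleton (1 : G)] at hd
          exact absurd (Nat.dvd_one.mp hd) hp.one_lt.ne'
        · infer_instance

/-- From an abelian subgroup of index prime to `π` we get an abelian Hall subgroup. -/
theorem hall_of_abelian {X : Type u} [Group X] [Finite X] {π : Set ℕ} (T : Subgroup X) (hT : IsMulCommutative T)
    (hi : ∀ p ∈ π, ¬ p ∣ T.index) : ∃ H : Subgroup X, IsPiHall π H ∧ IsMulCommutative H := by
  have hs : Group.IsSolvable T := by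
    let _ : CommGroup T := { (inferInstance : Group T) with mul_comm := hT.is_comm.comm }
    exact (inferInstance : Group.IsSolvable T)
  obtain ⟨H, hHT, h1, h2⟩ := OddOrderLocal.HallPi.exists_isPiHallOf hs π
  refine ⟨H, ⟨h1, ?_⟩, ?_⟩
  · intro p hp hpπ hd
    rw [← Subgroup.relIndex_mul_index hHT] at hd
    rcases hp.dvd_mul.mp hd with h3 | h3
    · exact h2 p hp hpπ h3
    · exact hi p hpπ h3
  · constructor
    constructor
    intro a b
    have h3 := hT.is_comm.comm ⟨a, hHT a.2⟩ ⟨b, hHT b.2⟩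
    have h4 : (a : X) * b = b * a := congrArg Subtype.val h3
    exact Subtype.ext h4

/-- The row of the pair `{p, q}` gives an abelian Hall `{p, q}`-subgroup. -/
theorem Row.pair {X : Type u} [Group X] [Finite X] (h : Row X) (p q : ℕ) (hp : p.Prime) (hq : q.Prime)
    (hpq : p ≠ q) (hp2 : p ≠ 2) (hq2 : q ≠ 2) (hpX : p ∣ Nat.card X) (hqX : q ∣ Nat.card X)
    (h1 : ∀ x : X, (∃ k : ℕ, orderOf x = p ^ k) → ¬ q ∣ (Subgroup.centralizer ({x} : Set X)).index)
    (h2 : ∀ y : X, (∃ k : ℕ, orderOf y = q ^ k) → ¬ p ∣ (Subgroup.centralizer ({y} : Set X)).index) :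
    ∃ H : Subgroup X, IsPiHall ({p, q} : Set ℕ) H ∧ IsMulCommutative H := by
  obtain ⟨T, hT, hi⟩ := h {p, q} (by
    rintro r (rfl | rfl)
    · exact ⟨hp, hp2, hpX⟩
    · exact ⟨hq, hq2, hqX⟩) ⟨p, by simp, q, by simp, hpq⟩ (by
    rintro r (rfl | rfl) s (rfl | rfl) hrs
    · exact absurd rfl hrs
    · exact h1
    · exact h2
    · exact absurd rfl hrs)
  exact hall_of_abelian T hT hi

/-- **Main theorem** (from the rows of the simple groups). -/
theorem main (hRow : ∀ (X : Type u) [Group X] [Finite X] [IsSimpleGroup X], ¬ IsMulCommutative X → Row X)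
    (hTwo : ∀ (X : Type u) [Group X] [Finite X] [IsSimpleGroup X], ¬ IsMulCommutative X → ∀ q : ℕ, q.Prime → q ≠ 2 →
      q ∣ Nat.card X → ∃ y : X, (∃ k : ℕ, orderOf y = q ^ k) ∧ 2 ∣ (Subgroup.centralizer ({y} : Set X)).index)
    {π : Set ℕ} (hπ : ∀ p ∈ π, p.Prime) {G : Type u} [Group G] [Finite G] (h : Cond π G) :
    ∃ H : Subgroup G, IsPiHall π H ∧ Group.IsNilpotent H := by
  refine of_simple hπ ?_ h
  intro X _ _ _ hX hc
  set π' : Set ℕ := {p | p ∈ π ∧ p ∣ Nat.card X} with hπ'
  have hnil : ∀ H : Subgroup X, IsPiHall π' H → IsPiHall π H := by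
    intro H hH
    refine ⟨fun p hp hd => (hH.1 p hp hd).1, fun p hp hpπ hd => ?_⟩
    exact hH.2 p hp ⟨hpπ, hd.trans H.index_dvd_card⟩ hd
  by_cases hnt : π'.Nontrivial
  · have h2 : 2 ∉ π' := by
      intro h2
      obtain ⟨q, hq, hq2⟩ := hnt.exists_ne 2
      obtain ⟨y, hy, hd⟩ := hTwo X hX q (hπ q hq.1) hq2 hq.2
      exact hc q hq.1 2 h2.1 hq2 y hy hd
    obtain ⟨T, hT, hi⟩ := hRow X hX π' (fun p hp => ⟨hπ p hp.1, fun he => h2 (he ▸ hp), hp.2⟩) hnt
      (hc.mono (fun p hp => hp.1))
    obtain ⟨H, hH, hab⟩ := hall_of_abelian T hT hi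
    refine ⟨H, hnil H hH, ?_⟩
    let _ : CommGroup H := { (inferInstance : Group H) with mul_comm := hab.is_comm.comm }
    exact (inferInstance : Group.IsNilpotent H)
  · rw [Set.not_nontrivial_iff] at hnt
    rcases hnt.eq_empty_or_singleton with he | ⟨p, he⟩
    · refine ⟨⊥, hnil ⊥ ⟨?_, ?_⟩, inferInstance⟩
      · intro p hp hd
        rw [Subgroup.card_bot] at hd
        exact absurd (Nat.dvd_one.mp hd) hp.one_lt.ne'
      · intro p hp hpπ
        rw [he] at hpπ
        exact absurd hpπ (Set.notMem_empty p)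
    · have hpm : p ∈ π' := by rw [he]; exact Set.mem_singleton p
      have hp : p.Prime := hπ p hpm.1
      have : Fact p.Prime := ⟨hp⟩
      obtain ⟨P⟩ : Nonempty (Sylow p X) := inferInstance
      refine ⟨P, hnil P ⟨?_, ?_⟩, P.isPGroup'.isNilpotent⟩
      · intro q hq hd
        rw [he]
        obtain ⟨n, hn⟩ := IsPGroup.iff_card.mp P.isPGroup'
        rw [hn] at hd
        exact (Nat.prime_dvd_prime_iff_eq hq hp).mp (hq.dvd_of_dvd_pow hd)
      · intro q hq hqπ hd
        rw [he, Set.mem_singleton_iff] at hqπ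
        subst hqπ
        exact P.not_dvd_index hd

/-- The converse: a nilpotent Hall subgroup implies the class size condition. -/
theorem cond_of_hall {π : Set ℕ} (hπ : ∀ p ∈ π, p.Prime) {G : Type u} [Group G] [Finite G] (H : Subgroup G)
    (hH : IsPiHall π H) (hn : Group.IsNilpotent H) : Cond π G := by
  intro p hp q hq hpq x hx hd
  have hpf : Fact p.Prime := ⟨hπ p hp⟩
  have hqf : Fact q.Prime := ⟨hπ q hq⟩
  obtain ⟨P⟩ : Nonempty (Sylow p H) := inferInstance
  obtain ⟨Q⟩ : Nonempty (Sylow q H) := inferInstance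
  have hPn := sylow_normal hn p P
  have hQn := sylow_normal hn q Q
  have hdis : Disjoint (P : Subgroup H) (Q : Subgroup H) :=
    IsPGroup.disjoint_of_ne p q hpq _ _ P.isPGroup' Q.isPGroup'
  have key : ∀ (s : ℕ) [Fact s.Prime] (S : Sylow s H), s ∈ π → ¬ s ∣ ((S : Subgroup H).map H.subtype).index := by
    intro s hs S hsπ hds
    rw [Subgroup.index_map_subtype] at hds
    rcases hs.out.dvd_mul.mp hds with h1 | h1
    · exact S.not_dvd_index h1
    · exact hH.2 s hs.out hsπ h1
  obtain ⟨k, hk⟩ := hx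
  have hxp : IsPGroup p (Subgroup.zpowers x) := by
    apply IsPGroup.of_card (n := k)
    rw [Nat.card_zpowers, hk]
  obtain ⟨R, hR⟩ := hxp.exists_le_sylow
  set P' : Sylow p G := (P.isPGroup'.map H.subtype).toSylow (key p P hp) with hP'
  obtain ⟨g, hg⟩ := MulAction.exists_smul_eq G P' R
  have hxR : x ∈ (R : Subgroup G) := hR (Subgroup.mem_zpowers x)
  rw [← hg, Sylow.coe_subgroup_smul, Subgroup.mem_smul_pointwise_iff_exists] at hxR
  obtain ⟨y, hy, hyx⟩ := hxR
  obtain ⟨y', hy', rfl⟩ : y ∈ (P : Subgroup H).map H.subtype := hy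
  have hle : MulAut.conj g • ((Q : Subgroup H).map H.subtype) ≤ Subgroup.centralizer ({x} : Set G) := by
    intro z hz
    rw [Subgroup.mem_smul_pointwise_iff_exists] at hz
    obtain ⟨w, ⟨w', hw', rfl⟩, rfl⟩ := hz
    rw [Subgroup.mem_centralizer_singleton_iff, ← hyx]
    have h8 := Subgroup.commute_of_normal_of_disjoint _ _ hPn hQn hdis y' w' hy' hw'
    have h9 : ((y' : H) : G) * w' = w' * y' := congrArg Subtype.val h8
    show MulAut.conj g (w' : G) * MulAut.conj g (y' : G) = MulAut.conj g (y' : G) * MulAut.conj g (w' : G)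
    rw [← map_mul, ← map_mul, h9]
  refine key q Q hq ?_
  have h3 := Subgroup.index_dvd_of_le hle
  have h4 : (MulAut.conj g • ((Q : Subgroup H).map H.subtype)).index = ((Q : Subgroup H).map H.subtype).index :=
    Subgroup.index_map_equiv _ (MulAut.conj g)
  rw [h4] at h3
  exact hd.trans h3

/-- Nilpotent Hall subgroups for pairs give the class size condition. -/
theorem cond_of_pairs {π : Set ℕ} (hπ : ∀ p ∈ π, p.Prime) {G : Type u} [Group G] [Finite G]
    (h : ∀ p ∈ π, ∀ q ∈ π, p ≠ q → ∃ H : Subgroup G, IsPiHall ({p, q} : Set ℕ) H ∧ Group.IsNilpotent H) :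
    Cond π G := by
  intro p hp q hq hpq
  obtain ⟨H, hH, hn⟩ := h p hp q hq hpq
  have h1 := cond_of_hall (π := {p, q}) (by
    rintro r (rfl | rfl)
    · exact hπ r hp
    · exact hπ r hq) H hH hn
  exact h1 p (by simp) q (by simp) hpq

end Cfsg.Agent.H630.NH
end

-- part: H630/Cross
section
/-!
# Nilpotent Hall subgroups and class sizes: rows in cross characteristic

* `CrossRow r X` : the statement `Row X` restricted to primes different from `r`;
* `Row.of_cross` : it gives `Row X` if some nontrivial `r`-element has a centralizer of `r`-power order;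
* `not_cond_of_centralizer` : a `p`-subgroup centralized by no element of order `q` contradicts `Cond`;
* `not_cond_of_elem` : so does a `q`-element with class size divisible by `p`;
* `CrossRow.quot` : central quotients; `CrossRow.of_normal` : normal subgroups of `2`-power index.
-/

set_option autoImplicit false
open Cfsg
open scoped Pointwise

namespace Cfsg.Agent.H630.NH

universe u v

/-- The statement `Row X` for primes different from `r`. -/
def CrossRow (r : ℕ) (X : Type u) [Group X] : Prop :=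
  ∀ π : Set ℕ, (∀ p ∈ π, p.Prime ∧ p ≠ 2 ∧ p ≠ r ∧ p ∣ Nat.card X) → π.Nontrivial → Cond π X →
    ∃ T : Subgroup X, IsMulCommutative T ∧ ∀ p ∈ π, ¬ p ∣ T.index

theorem CrossRow.congr {r : ℕ} {X : Type u} {Y : Type v} [Group X] [Group Y] (e : X ≃* Y) (h : CrossRow r X) :
    CrossRow r Y := by
  intro π hπ hnt hc
  obtain ⟨T, hT, hi⟩ := h π (fun p hp => ⟨(hπ p hp).1, (hπ p hp).2.1, (hπ p hp).2.2.1, by
    rw [Nat.card_congr e.toEquiv]; exact (hπ p hp).2.2.2⟩) hnt (hc.congr e.symm)
  refine ⟨T.map (e : X →* Y), ?_, ?_⟩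
  · constructor
    constructor
    rintro ⟨_, a, ha, rfl⟩ ⟨_, b, hb, rfl⟩
    have := hT.is_comm.comm ⟨a, ha⟩ ⟨b, hb⟩
    apply Subtype.ext
    have h2 : a * b = b * a := congrArg Subtype.val this
    show (e : X →* Y) a * (e : X →* Y) b = (e : X →* Y) b * (e : X →* Y) a
    rw [← map_mul, ← map_mul, h2]
  · intro p hp
    rw [Subgroup.index_map_equiv]
    exact hi p hp

/-- To prove a row in cross characteristic by contradiction for every pair. -/
theorem CrossRow.of_pairs {r : ℕ} {X : Type u} [Group X]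
    (h : ∀ p q : ℕ, p.Prime → q.Prime → p ≠ 2 → q ≠ 2 → p ≠ r → q ≠ r → p < q → p ∣ Nat.card X → q ∣ Nat.card X →
      ¬ Cond {p, q} X) : CrossRow r X := by
  intro π hπ hnt hc
  exfalso
  obtain ⟨p, hp, q, hq, hpq⟩ := hnt
  wlog hlt : p < q generalizing p q
  · exact this q hq p hp hpq.symm (by omega)
  · obtain ⟨a1, a2, a3, a4⟩ := hπ p hp
    obtain ⟨b1, b2, b3, b4⟩ := hπ q hq
    refine h p q a1 b1 a2 b2 a3 b3 hlt a4 b4 (hc.mono ?_)
    rintro s (rfl | rfl)
    · exact hp
    · exact hq

theorem exists_conj_le {G : Type u} [Group G] [Finite G] (p : ℕ) [Fact p.Prime] (A : Subgroup G) (hA : IsPGroup p A)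
    (C : Subgroup G) (hC : ¬ p ∣ C.index) : ∃ g : G, ∀ a ∈ A, g * a * g⁻¹ ∈ C := by
  obtain ⟨S, hS⟩ := CLib.exists_sylow_le p C hC
  obtain ⟨T, hT⟩ := hA.exists_le_sylow
  obtain ⟨g, hg⟩ := MulAction.exists_smul_eq G T S
  refine ⟨g, fun a ha => hS ?_⟩
  rw [← hg]
  have h1 : MulAut.conj g • a ∈ MulAut.conj g • (T : Subgroup G) := Subgroup.smul_mem_pointwise_smul _ _ _ (hT ha)
  exact h1

/-- A `q`-element whose class size is divisible by `p` contradicts `Cond`. -/
theorem not_cond_of_elem {G : Type u} [Group G] {π : Set ℕ} {p q : ℕ} (hp : p ∈ π) (hq : q ∈ π) (hpq : p ≠ q)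
    (y : G) (hy : ∃ k : ℕ, orderOf y = q ^ k) (hd : p ∣ (Subgroup.centralizer ({y} : Set G)).index) :
    ¬ Cond π G := fun h => h q hq p hp hpq.symm y hy hd

/-- A `p`-subgroup `A` centralized by no element of order `q`, `q ∣ |G|`, contradicts `Cond`. -/
theorem not_cond_of_centralizer {G : Type u} [Group G] [Finite G] {π : Set ℕ} {p q : ℕ} [Fact p.Prime] [hq' : Fact q.Prime]
    (hp : p ∈ π) (hq : q ∈ π) (hpq : p ≠ q) (hd : q ∣ Nat.card G) (A : Subgroup G) (hA : IsPGroup p A)
    (h : ∀ y : G, orderOf y = q → (∀ a ∈ A, a * y = y * a) → False) : ¬ Cond π G := by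
  intro hc
  obtain ⟨y, hy⟩ := exists_prime_orderOf_dvd_card' q hd
  have hodd : ¬ p ∣ (Subgroup.centralizer ({y} : Set G)).index :=
    hc q hq p hp hpq.symm y ⟨1, by rw [hy, pow_one]⟩
  obtain ⟨g, hg⟩ := exists_conj_le p A hA _ hodd
  refine h (g⁻¹ * y * g) ?_ ?_
  · rw [← hy]
    have := orderOf_injective (MulAut.conj g⁻¹).toMonoidHom (MulAut.conj g⁻¹).injective y
    simpa using this
  · intro a ha
    have h2 := hg a ha
    rw [Subgroup.mem_centralizer_singleton_iff] at h2
    have h3 : a * (g⁻¹ * y * g) = g⁻¹ * (g * a * g⁻¹ * y) * g := by group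
    rw [h3, h2]
    group

/-- `Cond` lifts through central extensions. -/
theorem Cond.of_quot {π : Set ℕ} (hπ : ∀ p ∈ π, p.Prime) {G : Type u} {H : Type v} [Group G] [Finite G] [Group H]
    (f : G →* H) (hf : Function.Surjective f) (hk : f.ker ≤ Subgroup.center G) (h : Cond π H) : Cond π G := by
  intro p hp q hq hpq x hx hd
  have hpp : p.Prime := hπ p hp
  have hqp : Fact q.Prime := ⟨hπ q hq⟩
  obtain ⟨k, hk'⟩ := hx
  have hfx : ∃ k : ℕ, orderOf (f x) = p ^ k := by
    have h1 : orderOf (f x) ∣ p ^ k := by rw [← hk']; exact orderOf_map_dvd f x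
    obtain ⟨j, -, hj⟩ := (Nat.dvd_prime_pow hpp).mp h1
    exact ⟨j, hj⟩
  have h0 := h p hp q hq hpq (f x) hfx
  set K : Subgroup G := (Subgroup.centralizer ({f x} : Set H)).comap f with hK
  have hKi : K.index = (Subgroup.centralizer ({f x} : Set H)).index := Subgroup.index_comap_of_surjective _ hf
  have hCK : Subgroup.centralizer ({x} : Set G) ≤ K := by
    intro c hc
    rw [Subgroup.mem_centralizer_singleton_iff] at hc
    show f c ∈ Subgroup.centralizer ({f x} : Set H)
    rw [Subgroup.mem_centralizer_singleton_iff, ← map_mul, ← map_mul, hc]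
  have h1 : (Subgroup.centralizer ({x} : Set G)).relIndex K * K.index = (Subgroup.centralizer ({x} : Set G)).index :=
    Subgroup.relIndex_mul_index hCK
  rw [← h1] at hd
  rcases hqp.out.dvd_mul.mp hd with h2 | h2
  · -- every `q`-element of `K` centralizes `x`
    have key : ∀ y ∈ K, (∃ j : ℕ, orderOf y = q ^ j) → y * x = x * y := by
      rintro y hy ⟨j, hj⟩
      have hy1 : f y * f x = f x * f y := by
        have := Subgroup.mem_centralizer_singleton_iff.mp (show f y ∈ Subgroup.centralizer ({f x} : Set H) from hy)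
        exact this
      set z : G := y * x * y⁻¹ * x⁻¹ with hz
      have hzk : z ∈ f.ker := by
        rw [MonoidHom.mem_ker, hz, map_mul, map_mul, map_mul, map_inv, map_inv, hy1]
        group
      have hzc := Subgroup.mem_center_iff.mp (hk hzk)
      have e1 : y * x * y⁻¹ = z * x := by rw [hz]; group
      have e2 : x * y⁻¹ * x⁻¹ = y⁻¹ * z := by rw [hz]; group
      -- z^(p^k) = 1
      have h3 : z ^ (p ^ k) = 1 := by
        have h4 : (y * x * y⁻¹) ^ (p ^ k) = 1 := by
          rw [conj_pow, ← hk', pow_orderOf_eq_one]; group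
        rw [e1, (show Commute z x from (hzc x).symm).mul_pow, ← hk', pow_orderOf_eq_one, mul_one] at h4
        rw [← hk']; exact h4
      have h5 : z ^ (q ^ j) = 1 := by
        have h6 : (x * y⁻¹ * x⁻¹) ^ (q ^ j) = 1 := by
          rw [conj_pow, inv_pow, ← hj, pow_orderOf_eq_one]; group
        rw [e2, (show Commute y⁻¹ z from hzc y⁻¹).mul_pow, inv_pow, ← hj, pow_orderOf_eq_one, inv_one,
          one_mul] at h6
        rw [← hj]; exact h6
      have h7 : orderOf z ∣ 1 := by
        have hcop : Nat.Coprime (p ^ k) (q ^ j) := Nat.Coprime.pow _ _ ((Nat.coprime_primes hpp hqp.out).mpr hpq)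
        have h8 := Nat.dvd_gcd (orderOf_dvd_of_pow_eq_one h3) (orderOf_dvd_of_pow_eq_one h5)
        rwa [hcop.gcd_eq_one] at h8
      have h9 : z = 1 := orderOf_eq_one_iff.mp (Nat.dvd_one.mp h7)
      rw [h9, one_mul] at e1
      calc y * x = (y * x * y⁻¹) * y := by group
        _ = x * y := by rw [e1]
    obtain ⟨Q⟩ := (inferInstance : Nonempty (Sylow q K))
    have h3 : (Q : Subgroup K) ≤ (Subgroup.centralizer ({x} : Set G)).subgroupOf K := by
      intro y hy
      rw [Subgroup.mem_subgroupOf, Subgroup.mem_centralizer_singleton_iff]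
      refine key y y.2 ?_
      obtain ⟨j, hj⟩ := (IsPGroup.iff_orderOf.mp Q.isPGroup') ⟨y, hy⟩
      refine ⟨j, ?_⟩
      rw [← hj, Subgroup.orderOf_mk, Subgroup.orderOf_coe]
    exact Q.not_dvd_index (h2.trans (Subgroup.index_dvd_of_le h3))
  · rw [hKi] at h2
    exact h0 h2

/-- Central quotients. -/
theorem CrossRow.quot {r : ℕ} {G : Type u} {H : Type v} [Group G] [Finite G] [Group H]
    (f : G →* H) (hf : Function.Surjective f) (hk : f.ker ≤ Subgroup.center G) (h : CrossRow r G) : CrossRow r H := by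
  intro π hπ hnt hc
  have hd : Nat.card H ∣ Nat.card G := Subgroup.card_dvd_of_surjective f hf
  obtain ⟨T, hT, hi⟩ := h π (fun p hp => ⟨(hπ p hp).1, (hπ p hp).2.1, (hπ p hp).2.2.1, (hπ p hp).2.2.2.trans hd⟩) hnt
    (Cond.of_quot (fun p hp => (hπ p hp).1) f hf hk hc)
  refine ⟨T.map f, ?_, ?_⟩
  · constructor
    constructor
    rintro ⟨_, a, ha, rfl⟩ ⟨_, b, hb, rfl⟩
    have := hT.is_comm.comm ⟨a, ha⟩ ⟨b, hb⟩
    apply Subtype.ext
    have h2 : a * b = b * a := congrArg Subtype.val this
    show f a * f b = f b * f a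
    rw [← map_mul, ← map_mul, h2]
  · intro p hp h1
    exact hi p hp (h1.trans (Subgroup.index_map_dvd T hf))

theorem Cond.of_normal {π : Set ℕ} (hπ : ∀ p ∈ π, p.Prime ∧ p ≠ 2) {G : Type u} [Group G] [Finite G] (N : Subgroup G)
    [N.Normal] (hN : ∃ k : ℕ, N.index = 2 ^ k) (h : Cond π N) : Cond π G := by
  obtain ⟨m, hm⟩ := hN
  intro p hp q hq hpq x hx hd
  obtain ⟨k, hk⟩ := hx
  have hpp := (hπ p hp).1
  have hxN : x ∈ N := by
    have h1 : x ^ N.index ∈ N := Subgroup.pow_index_mem N x
    have h2 : (p ^ k).Coprime N.index := by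
      rw [hm]
      exact Nat.Coprime.pow _ _ ((Nat.coprime_primes hpp Nat.prime_two).mpr (hπ p hp).2)
    have h3 : x ∈ Subgroup.zpowers (x ^ N.index) := by
      have h4 : Nat.Coprime (orderOf x) N.index := by rw [hk]; exact h2
      rw [mem_zpowers_pow_iff]
      exact h4.symm
    exact (Subgroup.zpowers_le.mpr h1) h3
  have h4 := h p hp q hq hpq ⟨x, hxN⟩ ⟨k, by rw [← hk, ← Subgroup.orderOf_coe]⟩
  apply h4
  have h5 : (Subgroup.centralizer ({⟨x, hxN⟩} : Set N)) = (Subgroup.centralizer ({x} : Set G)).subgroupOf N := by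
    ext z
    rw [Subgroup.mem_subgroupOf, Subgroup.mem_centralizer_singleton_iff, Subgroup.mem_centralizer_singleton_iff]
    constructor
    · intro hz
      exact congrArg Subtype.val hz
    · intro hz
      exact Subtype.ext hz
  have h6 : (Subgroup.centralizer ({⟨x, hxN⟩} : Set N)).index = (Subgroup.centralizer ({x} : Set G)).relIndex N := by
    rw [h5]; rfl
  rw [h6]
  have h7 : (Subgroup.centralizer ({x} : Set G)).index ∣ (Subgroup.centralizer ({x} : Set G) ⊓ N).index :=
    Subgroup.index_dvd_of_le inf_le_left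
  have h8 : (Subgroup.centralizer ({x} : Set G) ⊓ N).index
      = (Subgroup.centralizer ({x} : Set G)).relIndex N * N.index := by
    rw [← Subgroup.relIndex_mul_index (inf_le_right : Subgroup.centralizer ({x} : Set G) ⊓ N ≤ N),
      Subgroup.inf_relIndex_right]
  rw [h8, hm] at h7
  have hqp := (hπ q hq).1
  rcases hqp.dvd_mul.mp (hd.trans h7) with h9 | h9
  · exact h9
  · exact absurd ((Nat.prime_dvd_prime_iff_eq hqp Nat.prime_two).mp (hqp.dvd_of_dvd_pow h9)) (hπ q hq).2

/-- Normal subgroups of `2`-power index. -/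
theorem CrossRow.of_normal {r : ℕ} {G : Type u} [Group G] [Finite G] (N : Subgroup G) [N.Normal]
    (hN : ∃ k : ℕ, N.index = 2 ^ k) (h : CrossRow r G) : CrossRow r N := by
  intro π hπ hnt hc
  obtain ⟨T, hT, hi⟩ := h π (fun p hp => ⟨(hπ p hp).1, (hπ p hp).2.1, (hπ p hp).2.2.1,
    (hπ p hp).2.2.2.trans (Subgroup.card_subgroup_dvd_card N)⟩) hnt
    (Cond.of_normal (fun p hp => ⟨(hπ p hp).1, (hπ p hp).2.1⟩) N hN hc)
  refine ⟨T.subgroupOf N, ?_, ?_⟩
  · constructor
    constructor
    rintro ⟨a, ha⟩ ⟨b, hb⟩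
    have h0 := congrArg Subtype.val (hT.is_comm.comm ⟨(a : G), ha⟩ ⟨(b : G), hb⟩)
    apply Subtype.ext
    apply Subtype.ext
    exact h0
  · intro p hp h1
    have h2 : (T.subgroupOf N).index = T.relIndex N := rfl
    rw [h2, ← CLib.relIndex_normal] at h1
    exact hi p hp (h1.trans (Subgroup.relIndex_dvd_index_of_le le_sup_left))

/-- The row from the row in cross characteristic and an element whose centralizer is an `r`-group. -/
theorem Row.of_cross {r : ℕ} {X : Type u} [Group X] [Finite X] (h : CrossRow r X)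
    (u : X) (hu : ∃ k : ℕ, orderOf u = r ^ k) (hC : ∀ s : ℕ, s.Prime → s ≠ r → ¬ s ∣ Nat.card (Subgroup.centralizer ({u} : Set X))) :
    Row X := by
  intro π hπ hnt hc
  by_cases hrπ : r ∈ π
  · exfalso
    obtain ⟨q, hq, hqr⟩ := hnt.exists_ne r
    have h1 := hC q (hπ q hq).1 hqr
    have h2 := hc r hrπ q hq hqr.symm u hu
    have h3 := (hπ q hq).2.2
    rw [← Subgroup.card_mul_index (Subgroup.centralizer ({u} : Set X))] at h3
    rcases (hπ q hq).1.dvd_mul.mp h3 with h4 | h4
    · exact h1 h4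
    · exact h2 h4
  · exact h π (fun p hp => ⟨(hπ p hp).1, (hπ p hp).2.1, fun he => hrπ (he ▸ hp), (hπ p hp).2.2⟩) hnt hc

end Cfsg.Agent.H630.NH
end
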