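import Cfsg.Agent.H630.ExcCent
import Cfsg.Agent.H630.Cross
import Cfsg.Agent.H129.RealT_m3
import Mathlib.Algebra.Category.Grp.Injective
import Cfsg.Agent.FastGrp
import Cfsg.Agent.Prune
set_option linter.all false
prune_inst 0x7ffdfffbbff8bfffffff7e7ffefddffdd9f89fffefdff9fbffe0e1ff2bdf23002fe5fb8feff050ff1ff7e2bc10b87853fb7eefffea6bdc7ffffd5ff45ffbee4fe5f7bf8951de9cb40fbc0fffe3f17f8a7f3fffffffffffffffffffffffffffbeffffffffffff
open scoped Cfsg.Agent.FastGrp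

-- part: H630/ExcA
section
/-!
# Twisted tori and `Cond` (helper630)

`Y = D.group k`, `σ` a Frobenius map of `Y` acting on the root lattice by `g` (and `q = p ^ e`), `X` a finite group
embedded in `Y` and fixed by `σ`.

* `Setup` : these data;
* `not_cond_A` : for `w ∈ W`, `θ = w g`, `θ ^ n = 1`, `r ∣ q ^ n - 1`: if every root is nontrivial on the elements of
  order `r` of the torus `T_w` (`hroot`) and the exponent of `T_w` is prime to `s`, then `Cond {r, s} X` fails.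
-/

set_option autoImplicit false
set_option linter.unusedSectionVars false

namespace Cfsg.Agent.H630.Exc

open CoxeterSystem Cfsg Cfsg.Lie Cfsg.Lie.ChevalleyDatum
open Cfsg.Agent.ChevalleyStructure Cfsg.Agent.ChevalleyStructure.Elts Cfsg.Agent.ChevalleyStructure.CoxeterGeom
  Cfsg.Agent.ChevalleyStructure.CoxeterGeomTypes Cfsg.Agent.ChevalleyStructure.NPerm
open Cfsg.Agent.Tits.Roots Cfsg.Agent.Tits.Core Cfsg.Agent.Nodes Cfsg.Agent.Nodes.Reps Cfsg.Agent.Nodes.BNOf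
  Cfsg.Agent.Nodes.RGDChev Cfsg.Agent.Nodes.Bruhat Cfsg.Agent.Nodes.SubComb Cfsg.Agent.Nodes.Coroot
open Cfsg.Agent.KFacts.RgdField Cfsg.Agent.KFacts.RgdChevCoord Cfsg.Agent.BpExc.TorCent Cfsg.Agent.BpExc.TorChev
open Cfsg.Agent.GpExc.Field Cfsg.Agent.BpExc.Tow Cfsg.Agent.BpExc.TowChev Cfsg.Agent.BpExc.Fr
  Cfsg.Agent.BpExc.LangFr Cfsg.Agent.LangThm Cfsg.Agent.BpExc Cfsg.Agent.H129.TorusChar Cfsg.Agent.H129.TorusMain
open Cfsg.Agent.H630.NH

universe u v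

variable {D : ChevalleyDatum} {l : ℕ} {M : CoxeterMatrix (Fin l)} (hp : IsType D l M) {k : Type u} [Field k]
  {W : Type*} [Group W] (cs : CoxeterSystem M W)

include hp in
/-- The torsion elements of the torus are finitely many. -/
theorem finite_torsion {n : ℕ} (hn : 0 < n) : {t : ↥(D.group k) | t ∈ TT D k ∧ t ^ n = 1}.Finite := by
  classical
  have h1 : {z : k | z ^ n = 1}.Finite := by
    have h2 : {z : k | z ^ n = 1} = ((Polynomial.nthRoots n (1 : k)).toFinset : Set k) := by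
      ext z
      simp [Polynomial.mem_nthRoots hn]
    rw [h2]
    exact Finset.finite_toSet _
  have h3 : (Set.univ.pi fun _ : Fin l => {z : k | z ^ n = 1}).Finite := Set.Finite.pi fun _ => h1
  refine Set.Finite.of_finite_image (f := fun t => fun i => cX hp t (sr i)) (h3.subset ?_) ?_
  · rintro _ ⟨t, ⟨ht, htn⟩, rfl⟩ i -
    show cX hp t (sr i) ^ n = 1
    rw [← cX_pow hp ht, htn, cX_one]
  · rintro s ⟨hs, -⟩ t ⟨ht, -⟩ e
    exact cX_inj hp hs ht fun i => congrFun e i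

/-- Powers of `θ` on a twisted torus. -/
theorem cX_iter {θ : (Fin l → ℤ) →+ (Fin l → ℤ)} {q : ℕ} {t : ↥(D.group k)}
    (h : ∀ x, cX hp t (θ x) = cX hp t x ^ q) (j : ℕ) (x : Fin l → ℤ) : cX hp t (θ^[j] x) = cX hp t x ^ q ^ j := by
  induction j with
  | zero => rw [Function.iterate_zero_apply, pow_zero, pow_one]
  | succ j ih => rw [Function.iterate_succ_apply', h, ih, ← pow_mul, pow_succ]

variable {p e : ℕ} [Fact p.Prime] [CharP k p] {σ : MulAut ↥(D.group k)} {g : (Fin l → ℤ) ≃+ (Fin l → ℤ)}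

/-- The functional `x ↦ ∑_{j<n} q^(n-j) L(θ^j x)`. -/
def Lq (L : (Fin l → ℤ) →+ ℤ) (θ : (Fin l → ℤ) →+ (Fin l → ℤ)) (q n : ℕ) (x : Fin l → ℤ) : ℤ :=
  ∑ j ∈ Finset.range n, (q : ℤ) ^ (n - j) * L (θ^[j] x)

theorem iter_add (θ : (Fin l → ℤ) →+ (Fin l → ℤ)) (j : ℕ) (x y : Fin l → ℤ) :
    θ^[j] (x + y) = θ^[j] x + θ^[j] y := by
  induction j with
  | zero => rfl
  | succ j ih => rw [Function.iterate_succ_apply', ih, map_add, Function.iterate_succ_apply',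
      Function.iterate_succ_apply']

theorem iter_zero (θ : (Fin l → ℤ) →+ (Fin l → ℤ)) (j : ℕ) : θ^[j] 0 = 0 := by
  induction j with
  | zero => rfl
  | succ j ih => rw [Function.iterate_succ_apply', ih, map_zero]

theorem Lq_add (L : (Fin l → ℤ) →+ ℤ) (θ : (Fin l → ℤ) →+ (Fin l → ℤ)) (q n : ℕ) (x y : Fin l → ℤ) :
    Lq L θ q n (x + y) = Lq L θ q n x + Lq L θ q n y := by
  unfold Lq
  rw [← Finset.sum_add_distrib]
  exact Finset.sum_congr rfl fun j _ => by rw [iter_add, map_add, mul_add]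

theorem Lq_zero (L : (Fin l → ℤ) →+ ℤ) (θ : (Fin l → ℤ) →+ (Fin l → ℤ)) (q n : ℕ) : Lq L θ q n 0 = 0 := by
  unfold Lq
  exact Finset.sum_eq_zero fun j _ => by rw [iter_zero, map_zero, mul_zero]

/-- `L(θ x) ≡ q L(x)` modulo `q^n - 1`, if `θ^n = 1`. -/
theorem Lq_theta (L : (Fin l → ℤ) →+ ℤ) {θ : (Fin l → ℤ) →+ (Fin l → ℤ)} {q n : ℕ}
    (hθ : ∀ x, θ^[n] x = x) (x : Fin l → ℤ) : (q : ℤ) ^ n - 1 ∣ Lq L θ q n (θ x) - q * Lq L θ q n x := by
  unfold Lq
  rcases Nat.eq_zero_or_pos n with rfl | hn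
  · simp
  obtain ⟨m, rfl⟩ : ∃ m, n = m + 1 := ⟨n - 1, by omega⟩
  rw [Finset.sum_range_succ, Finset.sum_range_succ', mul_add, Finset.mul_sum]
  have h1 : ∀ j ∈ Finset.range m, (q : ℤ) ^ (m + 1 - j) * L (θ^[j] (θ x)) =
      (q : ℤ) * ((q : ℤ) ^ (m + 1 - (j + 1)) * L (θ^[j + 1] x)) := by
    intro j hj
    rw [Finset.mem_range] at hj
    rw [Function.iterate_succ_apply, ← mul_assoc, ← pow_succ']
    congr 2
    omega
  rw [Finset.sum_congr rfl h1]
  have h2 : θ^[m] (θ x) = x := by rw [← Function.iterate_succ_apply]; exact hθ x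
  rw [h2, Function.iterate_zero_apply]
  have h3 : m + 1 - m = 1 := by omega
  rw [h3, pow_one, Nat.sub_zero]
  refine ⟨-(q * L x), ?_⟩
  ring

/-- **Elements of order `r` of a twisted torus.** -/
theorem exists_torsion' [IsAlgClosed k] {d' : ℕ} {B' : Fin l → Fin l → ℤ} (hB : InvC D l d' B') (hd' : d' ≠ 0)
    {θ : (Fin l → ℤ) →+ (Fin l → ℤ)} {q n : ℕ} (hθ : ∀ x, θ^[n] x = x) {r : ℕ} (hr : (r : k) ≠ 0)
    (hrq : (r : ℤ) ∣ (q : ℤ) ^ n - 1) (L : (Fin l → ℤ) →+ ℤ) :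
    ∃ t ∈ TT D k, (∀ x, cX hp t (θ x) = cX hp t x ^ q) ∧ t ^ r = 1 ∧
      ∀ x, cX hp t x = 1 ↔ (r : ℤ) ∣ Lq L θ q n x := by
  have hr0 : NeZero (r : k) := ⟨hr⟩
  obtain ⟨ζ, hζ⟩ := HasEnoughRootsOfUnity.exists_primitiveRoot k r
  have hz0 : ζ ≠ 0 := by
    rintro rfl
    have h1 := hζ.pow_eq_one
    have h2 : r ≠ 0 := by rintro rfl; exact hr Nat.cast_zero
    rw [zero_pow h2] at h1
    exact zero_ne_one h1
  have hφ : IsMC (fun x : Fin l → ℤ => ζ ^ Lq L θ q n x) := by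
    refine ⟨?_, fun x y => ?_⟩
    · show ζ ^ Lq L θ q n 0 = 1
      rw [Lq_zero, zpow_zero]
    · show ζ ^ Lq L θ q n (x + y) = _
      rw [Lq_add, zpow_add₀ hz0]
  obtain ⟨t, ht, hc⟩ := exists_cX hp hB hd' hφ (fun i => IsAlgClosed.exists_pow_nat_eq _ (Nat.pos_of_ne_zero hd'))
  refine ⟨t, ht, fun x => ?_, ?_, fun x => ?_⟩
  · rw [hc, hc, ← zpow_natCast, ← zpow_mul]
    have h1 := (hrq.trans (Lq_theta L hθ x))
    have h2 : ζ ^ (Lq L θ q n (θ x) - q * Lq L θ q n x) = 1 := (hζ.zpow_eq_one_iff_dvd _).2 h1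
    rw [zpow_sub₀ hz0, div_eq_one_iff_eq (zpow_ne_zero _ hz0)] at h2
    rw [h2, mul_comm]
  · refine cX_inj hp (pow_mem ht r) (one_mem _) fun i => ?_
    rw [cX_pow hp ht, cX_one, hc, ← zpow_natCast, ← zpow_mul, mul_comm, zpow_mul, zpow_natCast, hζ.pow_eq_one, one_zpow]
  · rw [hc]
    exact hζ.zpow_eq_one_iff_dvd _

theorem exists_torsion [IsAlgClosed k] {d' : ℕ} {B' : Fin l → Fin l → ℤ} (hB : InvC D l d' B') (hd' : d' ≠ 0)
    {θ : (Fin l → ℤ) →+ (Fin l → ℤ)} {q n : ℕ} (hθ : ∀ x, θ^[n] x = x) {r : ℕ} (hr : (r : k) ≠ 0)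
    (hrq : (r : ℤ) ∣ (q : ℤ) ^ n - 1) (L : (Fin l → ℤ) →+ ℤ) {a : Fin l → ℤ} (ha : ¬ (r : ℤ) ∣ Lq L θ q n a) :
    ∃ t ∈ TT D k, (∀ x, cX hp t (θ x) = cX hp t x ^ q) ∧ t ^ r = 1 ∧ cX hp t a ≠ 1 := by
  obtain ⟨t, ht, h1, h2, h3⟩ := exists_torsion' hp hB hd' hθ hr hrq L
  exact ⟨t, ht, h1, h2, fun h => ha ((h3 a).1 h)⟩

/-- The data of a finite group `X` of fixed points in `Y = D.group k`. -/
structure Setup (hp : IsType D l M) (cs : CoxeterSystem M W) (p e : ℕ) [Fact p.Prime] [CharP k p]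
    (σ : MulAut ↥(D.group k)) (g : (Fin l → ℤ) ≃+ (Fin l → ℤ)) {X : Type v} [Group X] (e0 : X →* ↥(D.group k))
    (d : ℕ) : Prop where
  lf : LocFin k
  pos : 0 < e
  frob : IsFrob p e σ
  fr : Fr cs hp.isCartan (TT D k) (XX D l k) σ g
  inv : ∃ B : Fin l → Fin l → ℤ, ∃ d' : ℕ, d' ≠ 0 ∧ InvC D l d' B
  inj : Function.Injective e0
  fix : ∀ x, σ (e0 x) = e0 x
  range : ∀ (r : ℕ), r.Prime → ¬ r ∣ d → ∀ y, σ y = y → (∃ m, y ^ r ^ m = 1) → y ∈ e0.range

section Main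

variable {X : Type v} [Group X] {e0 : X →* ↥(D.group k)} {d : ℕ}

/-- the elements of `X` in the twisted torus `z T z⁻¹` -/
def tX (D : ChevalleyDatum) (k : Type u) [Field k] {X : Type v} [Group X] (e0 : X →* ↥(D.group k)) (z : ↥(D.group k)) :
    Subgroup X where
  carrier := {x | z⁻¹ * e0 x * z ∈ TT D k}
  one_mem' := by
    show z⁻¹ * e0 1 * z ∈ TT D k
    rw [map_one, mul_one, inv_mul_cancel]; exact one_mem _
  mul_mem' := by
    intro a b ha hb
    show z⁻¹ * e0 (a * b) * z ∈ TT D k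
    have h : z⁻¹ * e0 (a * b) * z = (z⁻¹ * e0 a * z) * (z⁻¹ * e0 b * z) := by rw [map_mul]; group
    rw [h]; exact mul_mem ha hb
  inv_mem' := by
    intro a ha
    show z⁻¹ * e0 a⁻¹ * z ∈ TT D k
    have h : z⁻¹ * e0 a⁻¹ * z = (z⁻¹ * e0 a * z)⁻¹ := by rw [map_inv]; group
    rw [h]; exact inv_mem ha

theorem mem_tX {z : ↥(D.group k)} {x : X} : x ∈ tX D k e0 z ↔ z⁻¹ * e0 x * z ∈ TT D k := Iff.rfl

include hp in
theorem tX_comm (he0 : Function.Injective e0) (z : ↥(D.group k)) {a b : X} (ha : a ∈ tX D k e0 z)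
    (hb : b ∈ tX D k e0 z) : a * b = b * a := by
  apply he0
  have h1 := TT_comm hp _ (mem_tX.1 ha) _ (mem_tX.1 hb)
  rw [map_mul, map_mul]
  calc e0 a * e0 b = z * ((z⁻¹ * e0 a * z) * (z⁻¹ * e0 b * z)) * z⁻¹ := by group
    _ = z * ((z⁻¹ * e0 b * z) * (z⁻¹ * e0 a * z)) * z⁻¹ := by rw [h1]
    _ = _ := by group

/-- The elements of `X` of exponent `r` in the twisted torus. -/
def tXr (hp : IsType D l M) (he0 : Function.Injective e0) (z : ↥(D.group k)) (r : ℕ) : Subgroup X where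
  carrier := {x | x ∈ tX D k e0 z ∧ x ^ r = 1}
  one_mem' := ⟨one_mem _, one_pow _⟩
  mul_mem' := by
    rintro a b ⟨ha, ha'⟩ ⟨hb, hb'⟩
    refine ⟨mul_mem ha hb, ?_⟩
    rw [(show Commute a b from tX_comm hp he0 z ha hb).mul_pow, ha', hb', one_mul]
  inv_mem' := by
    rintro a ⟨ha, ha'⟩
    exact ⟨inv_mem ha, by rw [inv_pow, ha', inv_one]⟩

variable (S : Setup hp cs p e σ g e0 d)

include S

theorem Setup.nsys : NSys M (TT D k) (nc hp k) := by
  have h := (tow hp cs S.lf p).nsys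
  rwa [TL_eq hp S.lf] at h

/-- `z⁻¹ e0(x) z` is fixed by `t ↦ n σ(t) n⁻¹`. -/
theorem Setup.tau {n z : ↥(D.group k)} (hz : n = z⁻¹ * σ z) (x : X) :
    n * σ (z⁻¹ * e0 x * z) * n⁻¹ = z⁻¹ * e0 x * z := by
  rw [map_mul, map_mul, map_inv, S.fix, hz]
  group

theorem Setup.exists_of_tau {n z : ↥(D.group k)} (hz : n = z⁻¹ * σ z) {t : ↥(D.group k)} (ht : n * σ t * n⁻¹ = t)
    {r : ℕ} (hr : r.Prime) (hrd : ¬ r ∣ d) (htr : ∃ m, t ^ r ^ m = 1) : ∃ x : X, z⁻¹ * e0 x * z = t := by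
  obtain ⟨m, hm⟩ := htr
  have h1 : σ (z * t * z⁻¹) = z * t * z⁻¹ := by
    have h2 : σ z = z * n := by rw [hz]; group
    rw [map_mul, map_mul, map_inv, h2]
    calc z * n * σ t * (z * n)⁻¹ = z * (n * σ t * n⁻¹) * z⁻¹ := by group
      _ = z * t * z⁻¹ := by rw [ht]
  obtain ⟨x, hx⟩ := S.range r hr hrd (z * t * z⁻¹) h1 ⟨m, by rw [conj_pow, hm]; group⟩
  exact ⟨x, by rw [hx]; group⟩

end Main

end Cfsg.Agent.H630.Exc
end

-- part: H630/ExcB
section
/-!
# Normalizers of twisted tori and `Cond` (helper630)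

* `exists_lang_mc` : Lang's theorem for a twisted torus, in terms of characters;
* `mem_TT_of_centralizes` : the torus of `D.group k` is self-centralizing;
* `exists_norm` : an element `s ∈ W` commuting with `θ` is represented by an element fixed by `y ↦ n σ(y) n⁻¹`;
* `Setup.not_cond_B` : the criterion for two primes with the same torus.
-/

set_option autoImplicit false
set_option linter.unusedSectionVars false

namespace Cfsg.Agent.H630.Exc

open CoxeterSystem Cfsg Cfsg.Lie Cfsg.Lie.ChevalleyDatum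
open Cfsg.Agent.ChevalleyStructure Cfsg.Agent.ChevalleyStructure.Elts Cfsg.Agent.ChevalleyStructure.CoxeterGeom
  Cfsg.Agent.ChevalleyStructure.CoxeterGeomTypes Cfsg.Agent.ChevalleyStructure.NPerm
open Cfsg.Agent.Tits.Roots Cfsg.Agent.Tits.Core Cfsg.Agent.Nodes Cfsg.Agent.Nodes.Reps Cfsg.Agent.Nodes.BNOf
  Cfsg.Agent.Nodes.RGDChev Cfsg.Agent.Nodes.Bruhat Cfsg.Agent.Nodes.SubComb Cfsg.Agent.Nodes.Coroot
open Cfsg.Agent.KFacts.RgdField Cfsg.Agent.KFacts.RgdChevCoord Cfsg.Agent.BpExc.TorCent Cfsg.Agent.BpExc.TorChev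
open Cfsg.Agent.GpExc.Field Cfsg.Agent.BpExc.Tow Cfsg.Agent.BpExc.TowChev Cfsg.Agent.BpExc.Fr
  Cfsg.Agent.BpExc.LangFr Cfsg.Agent.LangThm Cfsg.Agent.BpExc Cfsg.Agent.H129.TorusChar Cfsg.Agent.H129.TorusMain
open Cfsg.Agent.H129.TorAct (cX_tau tau_mem exists_theta)
open Cfsg.Agent.H630.NH

universe u v

/-- Extension of characters. -/
theorem exists_lang_mc {l : ℕ} {k : Type u} [Field k] [IsAlgClosed k] {θ : (Fin l → ℤ) →+ (Fin l → ℤ)} {q : ℕ}
    (hinj : ∀ x, θ x = q • x → x = 0) {χ : (Fin l → ℤ) → k} (hχ : IsMC χ) :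
    ∃ φ : (Fin l → ℤ) → k, IsMC φ ∧ ∀ x, φ (θ x) = χ (θ x) * φ x ^ q := by
  classical
  have hdiv : ∀ {n : ℤ}, n ≠ 0 → Function.Surjective (fun a : kˣ => a ^ n) := by
    intro n hn a
    obtain ⟨m, rfl | rfl⟩ := Int.eq_nat_or_neg n
    · have hm : 0 < m := by
        rcases Nat.eq_zero_or_pos m with h | h
        · exact absurd (by rw [h]; rfl) hn
        · exact h
      obtain ⟨z, hz⟩ := IsAlgClosed.exists_pow_nat_eq (a : k) hm
      have hz0 : z ≠ 0 := by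
        rintro rfl
        rw [zero_pow hm.ne'] at hz
        exact a.ne_zero hz.symm
      exact ⟨Units.mk0 z hz0, by
        apply Units.ext
        show ((Units.mk0 z hz0 ^ (m : ℤ) : kˣ) : k) = a
        rw [zpow_natCast, Units.val_pow_eq_pow_val, Units.val_mk0, hz]⟩
    · have hm : 0 < m := by
        rcases Nat.eq_zero_or_pos m with h | h
        · exact absurd (by rw [h]; rfl) hn
        · exact h
      obtain ⟨z, hz⟩ := IsAlgClosed.exists_pow_nat_eq ((a⁻¹ : kˣ) : k) hm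
      have hz0 : z ≠ 0 := by
        rintro rfl
        rw [zero_pow hm.ne'] at hz
        exact (a⁻¹).ne_zero hz.symm
      refine ⟨Units.mk0 z hz0, ?_⟩
      have h1 : (Units.mk0 z hz0) ^ m = a⁻¹ := by
        apply Units.ext
        rw [Units.val_pow_eq_pow_val, Units.val_mk0, hz]
      show Units.mk0 z hz0 ^ (-(m : ℤ)) = a
      rw [zpow_neg, zpow_natCast, h1, inv_inv]
  let _ : DivisibleBy (Additive kˣ) ℤ := divisibleByOfSMulRightSurj (Additive kˣ) ℤ fun {n} hn a => by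
    obtain ⟨b, hb⟩ := hdiv hn a.toMul
    exact ⟨Additive.ofMul b, by
      show n • Additive.ofMul b = a
      rw [← ofMul_zpow]
      exact congrArg Additive.ofMul hb⟩
  let f : (Fin l → ℤ) →+ (Fin l → ℤ) :=
    { toFun := fun x => θ x - q • x
      map_zero' := by rw [map_zero, smul_zero, sub_zero]
      map_add' := fun x y => by rw [map_add, smul_add]; abel }
  have hf : Function.Injective f := by
    rw [injective_iff_map_eq_zero]
    intro x hx
    exact hinj x (sub_eq_zero.1 hx)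
  let ψ : (Fin l → ℤ) →+ Additive kˣ :=
    { toFun := fun x => Additive.ofMul (Units.mk0 (χ (θ x)) (hχ.ne_zero _))
      map_zero' := by
        rw [← ofMul_one]
        congr 1
        apply Units.ext
        rw [Units.val_mk0, map_zero, hχ.zero, Units.val_one]
      map_add' := fun x y => by
        rw [← ofMul_mul]
        congr 1
        apply Units.ext
        rw [Units.val_mk0, Units.val_mul, Units.val_mk0, Units.val_mk0, map_add, hχ.add] }
  obtain ⟨h, hh⟩ := (Module.Baer.of_divisible (Additive kˣ)).extension_property_addMonoidHom f hf ψ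
  have hval : ∀ x y, (((h (x + y)).toMul : kˣ) : k) = ((h x).toMul : kˣ) * ((h y).toMul : kˣ) := fun x y => by
    rw [map_add, toMul_add, Units.val_mul]
  refine ⟨fun x => ((h x).toMul : kˣ), ⟨?_, hval⟩, fun x => ?_⟩
  · show (((h 0).toMul : kˣ) : k) = 1
    rw [map_zero, toMul_zero, Units.val_one]
  · show (((h (θ x)).toMul : kˣ) : k) = χ (θ x) * (((h x).toMul : kˣ) : k) ^ q
    have h1 := DFunLike.congr_fun hh x
    have h2 : h (θ x - q • x) = Additive.ofMul (Units.mk0 (χ (θ x)) (hχ.ne_zero _)) := h1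
    have h3 : h (θ x) = h (θ x - q • x) + q • h x := by
      rw [← map_nsmul, ← map_add, sub_add_cancel]
    rw [h3, h2, toMul_add, Units.val_mul, toMul_nsmul, Units.val_pow_eq_pow_val]
    rfl

variable {D : ChevalleyDatum} {l : ℕ} {M : CoxeterMatrix (Fin l)} (hp : IsType D l M) {k : Type u} [Field k]
  {W : Type*} [Group W] (cs : CoxeterSystem M W)

/-- A root is a primitive vector. -/
theorem exists_coord {a : Fin l → ℤ} (ha : IsRoot cs hp.isCartan a) {r : ℕ} (hr : r.Prime) :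
    ∃ i, ¬ (r : ℤ) ∣ a i := by
  by_contra hcon
  push Not at hcon
  obtain ⟨w, i, rfl⟩ := ha
  choose b hb using hcon
  have h1 : rep cs hp.isCartan w (sr i) = (r : ℤ) • b := by
    funext j
    rw [hb j, Pi.smul_apply, smul_eq_mul]
  have h2 : (sr i : Fin l → ℤ) = (r : ℤ) • rep cs hp.isCartan w⁻¹ b := by
    rw [← map_smul, ← h1, rep_inv_apply]
  have h3 := congrFun h2 i
  rw [sr_self, Pi.smul_apply, smul_eq_mul] at h3
  have h4 : (r : ℤ) ∣ 1 := ⟨_, h3⟩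
  have h5 : (r : ℤ) ≤ 1 := Int.le_of_dvd one_pos h4
  have := hr.two_le
  omega

/-- coordinate functional -/
def coordF (l : ℕ) (i : Fin l) : (Fin l → ℤ) →+ ℤ := Pi.evalAddMonoidHom (fun _ => ℤ) i

theorem exists_tor_ne [IsAlgClosed k] {d' : ℕ} {B' : Fin l → Fin l → ℤ} (hB : InvC D l d' B') (hd' : d' ≠ 0)
    {r : ℕ} (hr : r.Prime) (hrk : (r : k) ≠ 0) {a : Fin l → ℤ} (ha : IsRoot cs hp.isCartan a) :
    ∃ t ∈ TT D k, t ^ r = 1 ∧ cX hp t a ≠ 1 := by
  obtain ⟨i, hi⟩ := exists_coord hp cs ha hr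
  obtain ⟨t, ht, -, h2, h3⟩ := exists_torsion hp hB hd' (θ := AddMonoidHom.id _) (q := 1) (n := 1) (fun x => rfl) hrk
    (by simp) (coordF l i) (a := a) (by
      unfold Lq
      simpa [coordF] using hi)
  exact ⟨t, ht, h2, h3⟩

include hp cs in
/-- **The torus is self-centralizing.** -/
theorem mem_TT_of_centralizes [IsAlgClosed k] [Finite W] (hk : LocFin k) (p : ℕ) [Fact p.Prime] [CharP k p]
    {d' : ℕ} {B' : Fin l → Fin l → ℤ} (hB : InvC D l d' B') (hd' : d' ≠ 0) {c : ↥(D.group k)}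
    (hc : ∀ t ∈ TT D k, c * t = t * c) : c ∈ TT D k := by
  have hN : NSys M (TT D k) (nc hp k) := by
    have h := (tow hp cs hk p).nsys
    rwa [TL_eq hp hk] at h
  -- a prime `r` larger than `p` and `|W|`
  obtain ⟨r, hr1, hr⟩ := Nat.exists_infinite_primes (max p (Nat.card W) + 1)
  have hrp : p < r := lt_of_le_of_lt (le_max_left _ _) hr1
  have hrW : Nat.card W < r := lt_of_le_of_lt (le_max_right _ _) hr1
  have hrk : (r : k) ≠ 0 := by
    rw [Ne, CharP.cast_eq_zero_iff k p]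
    intro h
    exact hrp.ne ((Nat.prime_dvd_prime_iff_eq (Fact.out : p.Prime) hr).1 h)
  set A : Set ↥(D.group k) := {t | t ∈ TT D k ∧ t ^ r = 1}
  have hAf : A.Finite := finite_torsion hp hr.pos
  have hA : ∀ a, IsRoot cs hp.isCartan a → ∃ t ∈ A, cX hp t a ≠ 1 := fun a ha => by
    obtain ⟨t, ht, h1, h2⟩ := exists_tor_ne hp cs hB hd' hr hrk ha
    exact ⟨t, ⟨ht, h1⟩, h2⟩
  obtain ⟨w, hw⟩ := exists_rp_of_comm hp cs hk p hN hAf (fun t ht => ht.1) hA (fun t ht => hc t ht.1)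
  have h1 : w = 1 := by
    refine eq_one_of_fix hp cs (fun t (ht : t ∈ A) => ht.1) hA (fun t ht => ht.2) (m := Nat.card W) Nat.card_pos ?_
      (pow_card_eq_one') (fun t ht a _ => fix_of_rp hp cs hk p hw ht.1 (hc t ht.1) a)
    exact ((Nat.Prime.coprime_iff_not_dvd hr).2 fun h => absurd (Nat.le_of_dvd Nat.card_pos h) (not_le.2 hrW)).symm
  rw [h1] at hw
  exact hw.mem_of_one

/-- Torus elements conjugate in `D.group k` are conjugate under the Weyl group. -/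
theorem exists_weyl_of_conj [Finite W] (hk : LocFin k) (p : ℕ) [Fact p.Prime] [CharP k p] {s t c : ↥(D.group k)}
    (hs : s ∈ TT D k) (ht : t ∈ TT D k) (h : c * s = t * c) :
    ∃ w : W, ∀ x, cX hp t (rep cs hp.isCartan w x) = cX hp s x := by
  have H := tow hp cs hk p
  have C := coordsL hp cs hk p
  rw [← TL_eq hp hk, ← XL_eq hp hk] at C
  have ht' : t ∈ TL (Tj hp (k := k)) := by rw [TL_eq hp hk]; exact ht
  have hs' : s ∈ TL (Tj hp (k := k)) := by rw [TL_eq hp hk]; exact hs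
  have hcG : c ∈ GG cs hp.isCartan (TL (Tj hp (k := k))) (XL (Xj hp)) := by
    rw [GG_eq_top hp cs hk]; exact Subgroup.mem_top c
  obtain ⟨m, -, w, n, hn, hnt, -⟩ := BpExc.Fr.exists_form H C hs' ht' hcG h
  have hN : NSys M (TT D k) (nc hp k) := by
    have h := (tow hp cs hk p).nsys
    rwa [TL_eq hp hk] at h
  have h4 : ∀ (T' : Subgroup ↥(D.group k)) (_ : T' = TT D k) (h : NSys M T' (nc hp k)),
      Rp cs h w n → Rp cs hN w n := by
    rintro _ rfl h h5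
    exact h5
  have hn' := h4 _ (TL_eq hp hk) _ hn
  refine ⟨w, fun x => ?_⟩
  have h5 := cX_rp hp cs hk p hn' hs x
  have h6 : n * s * n⁻¹ = t := by rw [hnt]; group
  rwa [h6] at h5

variable {p e : ℕ} [Fact p.Prime] [CharP k p] {σ : MulAut ↥(D.group k)} {g : (Fin l → ℤ) ≃+ (Fin l → ℤ)}
  {X : Type v} [Group X] {e0 : X →* ↥(D.group k)} {d : ℕ} (S : Setup hp cs p e σ g e0 d)

include S

/-- `θ - q` is injective. -/
theorem Setup.theta_inj [Finite W] (w : W) {n : ℕ} (hn : 0 < n) (hθ : ∀ x, (theta hp cs w g)^[n] x = x)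
    (x : Fin l → ℤ) (hx : theta hp cs w g x = (p ^ e) • x) : x = 0 := by
  have h1 : ∀ j, (theta hp cs w g)^[j] x = ((p ^ e) ^ j) • x := by
    intro j
    induction j with
    | zero => rw [Function.iterate_zero_apply, pow_zero, one_smul]
    | succ j ih => rw [Function.iterate_succ_apply', ih, map_nsmul, hx, smul_smul, pow_succ]
  have h2 := h1 n
  rw [hθ] at h2
  have h3 : 1 < (p ^ e) ^ n := Nat.one_lt_pow hn.ne' (Nat.one_lt_pow S.pos.ne' (Fact.out : p.Prime).one_lt)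
  funext i
  have h4 := congrFun h2 i
  rw [Pi.smul_apply, nsmul_eq_mul] at h4
  have h5 : (((p ^ e) ^ n : ℕ) : ℤ) ≠ 1 := by exact_mod_cast h3.ne'
  have h6 : ((((p ^ e) ^ n : ℕ) : ℤ) - 1) * x i = 0 := by linarith
  rcases mul_eq_zero.1 h6 with h7 | h7
  · exact absurd (sub_eq_zero.1 h7) h5
  · exact h7

/-- **Representatives in the fixed points**: `s ∈ W` commuting with `θ`. -/
theorem Setup.exists_norm [IsAlgClosed k] [Finite W] {hN : NSys M (TT D k) (nc hp k)} {w : W} {m : ℕ} (hm : 0 < m)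
    (hθ : ∀ x, (theta hp cs w g)^[m] x = x) {n : ↥(D.group k)} (hn : Rp cs hN w n) {s : W}
    (hs : ∀ x, rep cs hp.isCartan s (theta hp cs w g x) = theta hp cs w g (rep cs hp.isCartan s x)) :
    ∃ y, Rp cs hN s y ∧ n * σ y * n⁻¹ = y := by
  obtain ⟨B, d', hd', hB⟩ := S.inv
  obtain ⟨y0, hy0⟩ := exists_rp cs hN s
  -- the twisted Frobenius
  set F : MulAut ↥(D.group k) := MulAut.conj n * σ with hF
  have hFx : ∀ x, F x = n * σ x * n⁻¹ := fun x => rfl
  set c : ↥(D.group k) := F y0 * y0⁻¹ with hc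
  have hcT : c ∈ TT D k := by
    refine mem_TT_of_centralizes hp cs S.lf p hB hd' fun t ht => ?_
    -- `t' = y0⁻¹ t y0`, `t' = F u`
    have hy0i : y0⁻¹ * t * y0 ∈ TT D k := by
      have := (Subgroup.mem_normalizer_iff.1 hy0.inv.mem_normalizer t).1 ht
      rwa [inv_inv] at this
    set u : ↥(D.group k) := F⁻¹ (y0⁻¹ * t * y0) with hu
    have hFu : F u = y0⁻¹ * t * y0 := by rw [hu, MulAut.apply_inv_self]
    have huT : u ∈ TT D k := by
      have h1 : n * σ u * n⁻¹ ∈ TT D k := by rw [← hFx, hFu]; exact hy0i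
      have h2 : σ u ∈ TT D k := by
        have := (Subgroup.mem_normalizer_iff.1 hn.inv.mem_normalizer _).1 h1
        have e2 : n⁻¹ * (n * σ u * n⁻¹) * n⁻¹⁻¹ = σ u := by group
        rwa [e2] at this
      exact (S.fr.tor u).1 h2
    have hyu : y0 * u * y0⁻¹ ∈ TT D k := (Subgroup.mem_normalizer_iff.1 hy0.mem_normalizer u).1 huT
    have h3 : F (y0 * u * y0⁻¹) = t := by
      have key : ∀ v, cX hp (F (y0 * u * y0⁻¹)) (rep cs hp.isCartan s (theta hp cs w g v)) =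
          cX hp t (rep cs hp.isCartan s (theta hp cs w g v)) := by
        intro v
        have e1 : cX hp (F (y0 * u * y0⁻¹)) (rep cs hp.isCartan s (theta hp cs w g v)) = cX hp u v ^ p ^ e := by
          rw [hs, hFx, cX_tau hp cs S.lf S.frob S.fr hn hyu, cX_rp hp cs S.lf p hy0 huT]
        have e2 : cX hp t (rep cs hp.isCartan s (theta hp cs w g v)) = cX hp u v ^ p ^ e := by
          have e3 := cX_rp hp cs S.lf p hy0 hy0i (theta hp cs w g v)
          have e4 : y0 * (y0⁻¹ * t * y0) * y0⁻¹ = t := by group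
          rw [e4] at e3
          rw [e3, ← hFu, hFx, cX_tau hp cs S.lf S.frob S.fr hn huT]
        rw [e1, e2]
      refine cX_inj hp (tau_mem hp cs S.fr hn hyu) ht fun i => ?_
      obtain ⟨v, hv⟩ := exists_theta hp cs (g := g) w (rep cs hp.isCartan s⁻¹ (sr i))
      have h5 := key v
      rw [hv, rep_apply_inv] at h5
      exact h5
    have h4 : F y0 * (y0⁻¹ * t * y0) * (F y0)⁻¹ = t := by
      rw [← hFu, ← map_mul, ← map_inv, ← map_mul]; exact h3
    rw [hc]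
    calc F y0 * y0⁻¹ * t = (F y0 * (y0⁻¹ * t * y0) * (F y0)⁻¹) * (F y0 * y0⁻¹) := by group
      _ = t * (F y0 * y0⁻¹) := by rw [h4]
  obtain ⟨φ, hφ, h1⟩ := exists_lang_mc (θ := theta hp cs w g) (q := p ^ e) (S.theta_inj hp cs w hm hθ)
    (isMC_cX hp hcT)
  obtain ⟨t, ht, h2⟩ := exists_cX hp hB hd' hφ (fun i => IsAlgClosed.exists_pow_nat_eq _ (Nat.pos_of_ne_zero hd'))
  have hFt : F t ∈ TT D k := tau_mem hp cs S.fr hn ht
  have h3 : t = c * F t := by
    refine cX_inj hp ht (mul_mem hcT hFt) fun i => ?_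
    obtain ⟨v, hv⟩ := exists_theta hp cs (g := g) w (sr i)
    rw [← hv, cX_mul hp hcT hFt, hFx, cX_tau hp cs S.lf S.frob S.fr hn ht, h2, h2, h1]
  refine ⟨t * y0, ?_, ?_⟩
  · have := (rp_of_mem (cs := cs) (hN := hN) ht).mul hy0
    rwa [one_mul] at this
  · show F (t * y0) = t * y0
    have h4 : F y0 = c * y0 := by rw [hc]; group
    have h5 : F t * c = t := by
      rw [TT_comm hp _ hFt _ hcT]; exact h3.symm
    rw [map_mul, h4, ← mul_assoc, h5]

/-- The exponent of the twisted torus. -/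
theorem Setup.pow_torus {w : W} {m : ℕ} (hθ : ∀ x, (theta hp cs w g)^[m] x = x) {t : ↥(D.group k)}
    (ht : t ∈ TT D k) (h : ∀ x, cX hp t (theta hp cs w g x) = cX hp t x ^ p ^ e) : t ^ ((p ^ e) ^ m - 1) = 1 := by
  refine cX_inj hp (pow_mem ht _) (one_mem _) fun i => ?_
  rw [cX_pow hp ht, cX_one]
  have h1 := cX_iter hp h m (sr i)
  rw [hθ] at h1
  have h0 := (isMC_cX hp ht).ne_zero (sr i)
  have h2 : 1 ≤ (p ^ e) ^ m := Nat.one_le_iff_ne_zero.2 (pow_ne_zero _ (pow_ne_zero _ (Fact.out : p.Prime).ne_zero))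
  have h3 : cX hp t (sr i) ^ ((p ^ e) ^ m - 1) * cX hp t (sr i) = 1 * cX hp t (sr i) := by
    rw [← pow_succ, Nat.sub_add_cancel h2, one_mul]
    exact h1.symm
  exact mul_right_cancel₀ h0 h3

/-- **`r`-elements of `X` representing `s`.** -/
theorem Setup.exists_rep [IsAlgClosed k] [Finite W] {hN : NSys M (TT D k) (nc hp k)} {w : W} {m : ℕ} (hm : 0 < m)
    (hθ : ∀ x, (theta hp cs w g)^[m] x = x) {n z : ↥(D.group k)} (hn : Rp cs hN w n) (hz : n = z⁻¹ * σ z) {s : W}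
    (hs : ∀ x, rep cs hp.isCartan s (theta hp cs w g x) = theta hp cs w g (rep cs hp.isCartan s x))
    {r j : ℕ} (hr : r.Prime) (hrd : ¬ r ∣ d) (hsr : s ^ r ^ j = 1) :
    ∃ x : X, (∃ a, x ^ r ^ a = 1) ∧ Rp cs hN s (z⁻¹ * e0 x * z) := by
  obtain ⟨y, hy, hyF⟩ := S.exists_norm hp cs hm hθ hn hs
  have hfix : ∀ i : ℕ, n * σ (y ^ i) * n⁻¹ = y ^ i := by
    intro i
    have h1 : (MulAut.conj n * σ) y = y := hyF
    have h2 : (MulAut.conj n * σ) (y ^ i) = y ^ i := by rw [map_pow, h1]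
    exact h2
  -- `y` has finite order
  have h1 := rp_pow hp cs hy (r ^ j)
  rw [hsr] at h1
  have h2 : y ^ r ^ j ∈ TT D k := h1.mem_of_one
  have h3 := S.pow_torus hp cs hθ h2 ((tau_iff hp cs S.lf S.frob S.fr hn h2).1 (hfix _))
  set Q : ℕ := (p ^ e) ^ m - 1 with hQ
  have hQ0 : Q ≠ 0 := by
    have : 1 < (p ^ e) ^ m := Nat.one_lt_pow hm.ne' (Nat.one_lt_pow S.pos.ne' (Fact.out : p.Prime).one_lt)
    omega
  rw [← pow_mul] at h3
  -- the `r`-part
  obtain ⟨a, b, hb, hab⟩ := Nat.exists_eq_pow_mul_and_not_dvd (n := r ^ j * Q)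
    (mul_ne_zero (pow_ne_zero _ hr.ne_zero) hQ0) r hr.ne_one
  have hja : j ≤ a := by
    have h4 : r ^ j ∣ r ^ a * b := by rw [← hab]; exact dvd_mul_right _ _
    have h5 : r ^ j ∣ r ^ a := (Nat.Coprime.pow_left _ ((Nat.Prime.coprime_iff_not_dvd hr).2 hb)).dvd_of_dvd_mul_right h4
    exact (Nat.pow_dvd_pow_iff_le_right hr.one_lt).1 h5
  -- `b * c ≡ 1` mod `r ^ a`
  have hbc : ∃ c : ℕ, (b * c) ≡ 1 [MOD r ^ a] := by
    have hco : Nat.Coprime b (r ^ a) := (Nat.Coprime.pow_left _ ((Nat.Prime.coprime_iff_not_dvd hr).2 hb)).symm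
    rcases Nat.lt_or_ge 1 (r ^ a) with h7 | h7
    · obtain ⟨c, -, hc⟩ := Nat.exists_mul_mod_eq_one_of_coprime hco h7
      exact ⟨c, by rw [Nat.ModEq, hc, Nat.mod_eq_of_lt h7]⟩
    · have h8 : r ^ a = 1 := le_antisymm h7 (Nat.one_le_iff_ne_zero.2 (pow_ne_zero _ hr.ne_zero))
      exact ⟨1, by rw [h8]; exact Nat.modEq_one⟩
  obtain ⟨c, hc⟩ := hbc
  have h6 : (y ^ (b * c)) ^ r ^ a = 1 := by
    rw [← pow_mul]
    have h7 : b * c * r ^ a = (r ^ a * b) * c := by ring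
    rw [h7, pow_mul, ← hab, h3, one_pow]
  obtain ⟨x, hx⟩ := S.exists_of_tau hp cs hz (hfix (b * c)) hr hrd ⟨a, h6⟩
  refine ⟨x, ⟨a, ?_⟩, ?_⟩
  · apply S.inj
    have h7 : e0 x = z * y ^ (b * c) * z⁻¹ := by rw [← hx]; group
    rw [map_pow, map_one, h7, conj_pow, h6]
    group
  · rw [hx]
    have h7 := rp_pow hp cs hy (b * c)
    have h8 : s ^ (b * c) = s := by
      have h9 : (b * c) ≡ 1 [MOD r ^ j] := hc.of_dvd (pow_dvd_pow r hja)
      have h10 : (b * c) ≡ 1 [MOD orderOf s] := h9.of_dvd (orderOf_dvd_of_pow_eq_one hsr)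
      have h11 := pow_eq_pow_iff_modEq.2 h10
      rwa [pow_one] at h11
    rwa [h8] at h7

omit S in
/-- The `r`-subgroup generated by the elements of order `r` of the torus and a representative of `s`. -/
theorem isPGroup_E (he0 : Function.Injective e0) {hN : NSys M (TT D k) (nc hp k)} {z : ↥(D.group k)} {r : ℕ} {x : X}
    (hx : ∃ a, x ^ r ^ a = 1) {s : W} (hxs : Rp cs hN s (z⁻¹ * e0 x * z)) :
    IsPGroup r (Subgroup.zpowers x ⊔ tXr hp he0 z r : Subgroup X) := by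
  refine IsPGroup.to_sup_of_normal_right' ?_ ?_ ?_
  · obtain ⟨a, ha⟩ := hx
    rintro ⟨y, hy⟩
    obtain ⟨i, rfl⟩ := Subgroup.mem_zpowers_iff.1 hy
    refine ⟨a, Subtype.ext ?_⟩
    show (x ^ i) ^ r ^ a = 1
    rw [← zpow_natCast, ← zpow_mul, mul_comm, zpow_mul, zpow_natCast, ha, one_zpow]
  · rintro ⟨y, hy⟩
    exact ⟨1, Subtype.ext (by rw [pow_one]; exact hy.2)⟩
  · rw [Subgroup.zpowers_le]
    have key : ∀ (v : W) (x : X), Rp cs hN v (z⁻¹ * e0 x * z) → ∀ y ∈ tXr hp he0 z r, x * y * x⁻¹ ∈ tXr hp he0 z r := by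
      rintro v x hv y ⟨hy, hyr⟩
      refine ⟨?_, ?_⟩
      · rw [mem_tX] at hy ⊢
        have h1 : z⁻¹ * e0 (x * y * x⁻¹) * z = (z⁻¹ * e0 x * z) * (z⁻¹ * e0 y * z) * (z⁻¹ * e0 x * z)⁻¹ := by
          rw [map_mul, map_mul, map_inv]; group
        rw [h1]
        exact (Subgroup.mem_normalizer_iff.1 hv.mem_normalizer _).1 hy
      · rw [conj_pow, hyr]; group
    rw [Subgroup.mem_normalizer_iff]
    intro y
    refine ⟨key s x hxs y, fun hy => ?_⟩
    have h2 : Rp cs hN s⁻¹ (z⁻¹ * e0 x⁻¹ * z) := by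
      have h3 : z⁻¹ * e0 x⁻¹ * z = (z⁻¹ * e0 x * z)⁻¹ := by rw [map_inv]; group
      rw [h3]; exact hxs.inv
    have h4 := key s⁻¹ x⁻¹ h2 _ hy
    have h5 : x⁻¹ * (x * y * x⁻¹) * x⁻¹⁻¹ = y := by group
    rwa [h5] at h4

/-- The elements of order `s'` commuting with the elements of order `r` of the torus lie in the torus. -/
theorem Setup.mem_torus [IsAlgClosed k] [Finite W] {hN : NSys M (TT D k) (nc hp k)} {r s' : ℕ} (hrp : r.Prime)
    (hsp : s'.Prime) (hrs : r ≠ s') (hrc : r ≠ p) (hrd : ¬ r ∣ d) {w : W} {n : ℕ} {n' z : ↥(D.group k)}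
    (hn' : Rp cs hN w n') (hz : n' = z⁻¹ * σ z)
    (hθ : ∀ x, (theta hp cs w g)^[n] x = x) (hq : (r : ℤ) ∣ ((p ^ e : ℕ) : ℤ) ^ n - 1)
    (hroot : ∀ a, IsRoot cs hp.isCartan a → ∃ L : (Fin l → ℤ) →+ ℤ, ¬ (r : ℤ) ∣ Lq L (theta hp cs w g) (p ^ e) n a)
    {y : X} (hy : orderOf y = s') (hyc : ∀ x ∈ tXr hp S.inj z r, x * y = y * x) : z⁻¹ * e0 y * z ∈ TT D k := by
  have hrk : (r : k) ≠ 0 := by
    rw [Ne, CharP.cast_eq_zero_iff k p]
    intro h
    exact hrc ((Nat.prime_dvd_prime_iff_eq (Fact.out : p.Prime) hrp).1 h).symm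
  obtain ⟨B, d', hd', hB⟩ := S.inv
  set A : Set ↥(D.group k) := {t | (t ∈ TT D k ∧ t ^ r = 1) ∧ ∀ x, cX hp t (theta hp cs w g x) = cX hp t x ^ p ^ e}
  have hAf : A.Finite := (finite_torsion hp hrp.pos).subset fun t ht => ht.1
  have hcomm : ∀ t ∈ A, (z⁻¹ * e0 y * z) * t = t * (z⁻¹ * e0 y * z) := by
    rintro t ⟨⟨ht, htr⟩, htθ⟩
    obtain ⟨x, hx⟩ := S.exists_of_tau hp cs hz ((tau_iff hp cs S.lf S.frob S.fr hn' ht).2 htθ) hrp hrd ⟨1, by
      rw [pow_one]; exact htr⟩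
    have hxr : x ^ r = 1 := by
      apply S.inj
      rw [map_pow, map_one]
      have h1 : e0 x = z * t * z⁻¹ := by rw [← hx]; group
      rw [h1, conj_pow, htr]; group
    have h2 := hyc x ⟨by rw [mem_tX, hx]; exact ht, hxr⟩
    rw [← hx]
    calc z⁻¹ * e0 y * z * (z⁻¹ * e0 x * z) = z⁻¹ * (e0 (y * x)) * z := by rw [map_mul]; group
      _ = z⁻¹ * (e0 (x * y)) * z := by rw [h2]
      _ = _ := by rw [map_mul]; group
  have hcs : (z⁻¹ * e0 y * z) ^ s' = 1 := by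
    have h1 : (z⁻¹ * e0 y * z) ^ s' = z⁻¹ * e0 y ^ s' * z := by
      have h2 := conj_pow (i := s') (a := z⁻¹) (b := e0 y)
      rwa [inv_inv] at h2
    rw [h1, ← map_pow, ← hy, pow_orderOf_eq_one, map_one, mul_one, inv_mul_cancel]
  exact mem_TT_of_pow hp cs S.lf p hN hAf (fun t ht => ht.1.1) (fun a ha => by
    obtain ⟨L, hL⟩ := hroot a ha
    obtain ⟨t, ht, h1, h2, h3⟩ := exists_torsion hp hB hd' hθ hrk hq L hL
    exact ⟨t, ⟨⟨ht, h2⟩, h1⟩, h3⟩) (r := r) (fun t ht => ht.1.2) hsp.pos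
    ((Nat.coprime_primes hsp hrp).2 (Ne.symm hrs)) hcomm hcs

/-- **Theorem B, first version**: a product of an elementary abelian group and an `r`-element acting fixed point freely. -/
theorem Setup.not_cond_B [IsAlgClosed k] [Finite W] [Finite X] {π : Set ℕ} {r s' : ℕ} (hrp : r.Prime) (hsp : s'.Prime)
    (hr : r ∈ π) (hs' : s' ∈ π) (hrs : r ≠ s') (hrc : r ≠ p) (hrd : ¬ r ∣ d) (hsX : s' ∣ Nat.card X) (w : W) {n : ℕ}
    (hn0 : 0 < n) (hθ : ∀ x, (theta hp cs w g)^[n] x = x) (hq : (r : ℤ) ∣ ((p ^ e : ℕ) : ℤ) ^ n - 1)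
    (hroot : ∀ a, IsRoot cs hp.isCartan a → ∃ L : (Fin l → ℤ) →+ ℤ, ¬ (r : ℤ) ∣ Lq L (theta hp cs w g) (p ^ e) n a)
    {s : W} (hs : ∀ x, rep cs hp.isCartan s (theta hp cs w g x) = theta hp cs w g (rep cs hp.isCartan s x))
    {j : ℕ} (hsr : s ^ r ^ j = 1)
    (hfree : ∀ t ∈ TT D k, (∀ x, cX hp t (theta hp cs w g x) = cX hp t x ^ p ^ e) → t ^ s' = 1 →
      (∀ x, cX hp t (rep cs hp.isCartan s x) = cX hp t x) → t = 1) : ¬ Cond π X := by
  have : Fact r.Prime := ⟨hrp⟩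
  have : Fact s'.Prime := ⟨hsp⟩
  have hNs := S.nsys hp cs
  obtain ⟨n', hn'⟩ := exists_rp cs hNs w
  obtain ⟨z, hz⟩ := lang_all hp cs S.pos S.frob S.fr 1 n'
  rw [map_one, one_mul] at hz
  obtain ⟨x, hx, hxs⟩ := S.exists_rep hp cs hn0 hθ hn' hz hs hrp hrd hsr
  refine not_cond_of_centralizer hr hs' hrs hsX _ (isPGroup_E hp cs S.inj hx hxs) ?_
  intro y hy hyc
  have hyT := S.mem_torus hp cs hrp hsp hrs hrc hrd hn' hz hθ hq hroot hy
    (fun a ha => hyc a (Subgroup.mem_sup_right ha))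
  have h1 : z⁻¹ * e0 y * z = 1 := by
    refine hfree _ hyT ((tau_iff hp cs S.lf S.frob S.fr hn' hyT).1 (S.tau hp cs hz y)) ?_ ?_
    · have h1 : (z⁻¹ * e0 y * z) ^ s' = z⁻¹ * e0 y ^ s' * z := by
        have h2 := conj_pow (i := s') (a := z⁻¹) (b := e0 y)
        rwa [inv_inv] at h2
      rw [h1, ← map_pow, ← hy, pow_orderOf_eq_one, map_one, mul_one, inv_mul_cancel]
    · refine fix_of_rp hp cs S.lf p hxs hyT ?_
      have h2 := hyc x (Subgroup.mem_sup_left (Subgroup.mem_zpowers x))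
      calc z⁻¹ * e0 x * z * (z⁻¹ * e0 y * z) = z⁻¹ * (e0 (x * y)) * z := by rw [map_mul]; group
        _ = z⁻¹ * (e0 (y * x)) * z := by rw [h2]
        _ = _ := by rw [map_mul]; group
  have h4 : e0 y = 1 := by
    have : e0 y = z * (z⁻¹ * e0 y * z) * z⁻¹ := by group
    rw [this, h1]; group
  have h5 : y = 1 := S.inj (by rw [h4, map_one])
  rw [h5, orderOf_one] at hy
  exact hsp.one_lt.ne hy

/-- The set of roots killed by a torus element. -/
def Kill (hp : IsType D l M) (cs : CoxeterSystem M W) (t : ↥(D.group k)) : Set (Fin l → ℤ) :=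
  {a | IsRoot cs hp.isCartan a ∧ cX hp t a = 1}

omit S in
theorem finite_roots : {a | IsRoot cs hp.isCartan a}.Finite := by
  have h1 : {a | IsRoot cs hp.isCartan a} = Set.range fun r : Fin D.nroots => vec D l r := by
    ext a
    rw [Set.mem_ofPred_eq, isRoot_iff hp cs]
    constructor
    · rintro ⟨r, hr, rfl⟩
      exact ⟨⟨r, hr⟩, rfl⟩
    · rintro ⟨r, rfl⟩
      exact ⟨r, r.2, rfl⟩
  rw [h1]
  exact Set.finite_range _

/-- **Theorem B, second version.** -/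
theorem Setup.ncard_le_of_cond [IsAlgClosed k] [Finite W] [Finite X] {π : Set ℕ} {r s' : ℕ} (hrp : r.Prime)
    (hsp : s'.Prime) (hr : r ∈ π) (hs' : s' ∈ π) (hrs : r ≠ s') (hrc : r ≠ p) (hsc : s' ≠ p) (hrd : ¬ r ∣ d)
    (hsd : ¬ s' ∣ d) (w : W) {n : ℕ}
    (hn0 : 0 < n) (hθ : ∀ x, (theta hp cs w g)^[n] x = x) (hq : (r : ℤ) ∣ ((p ^ e : ℕ) : ℤ) ^ n - 1)
    (hq' : (s' : ℤ) ∣ ((p ^ e : ℕ) : ℤ) ^ n - 1)
    (hroot : ∀ a, IsRoot cs hp.isCartan a → ∃ L : (Fin l → ℤ) →+ ℤ, ¬ (r : ℤ) ∣ Lq L (theta hp cs w g) (p ^ e) n a)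
    {s : W} (hs : ∀ x, rep cs hp.isCartan s (theta hp cs w g x) = theta hp cs w g (rep cs hp.isCartan s x))
    {j : ℕ} (hsr : s ^ r ^ j = 1) (L : (Fin l → ℤ) →+ ℤ) (hL : ∃ a, ¬ (s' : ℤ) ∣ Lq L (theta hp cs w g) (p ^ e) n a)
    (hc : Cond π X) :
    {a | IsRoot cs hp.isCartan a ∧ ∑ i ∈ Finset.range (r ^ j), rep cs hp.isCartan (s ^ i) a = 0}.ncard ≤
      {a | IsRoot cs hp.isCartan a ∧ (s' : ℤ) ∣ Lq L (theta hp cs w g) (p ^ e) n a}.ncard := by
  have : Fact r.Prime := ⟨hrp⟩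
  have : Fact s'.Prime := ⟨hsp⟩
  have hNs := S.nsys hp cs
  obtain ⟨n', hn'⟩ := exists_rp cs hNs w
  obtain ⟨z, hz⟩ := lang_all hp cs S.pos S.frob S.fr 1 n'
  rw [map_one, one_mul] at hz
  have hsk : (s' : k) ≠ 0 := by
    rw [Ne, CharP.cast_eq_zero_iff k p]
    intro h
    exact hsc ((Nat.prime_dvd_prime_iff_eq (Fact.out : p.Prime) hsp).1 h).symm
  obtain ⟨B, d', hd', hB⟩ := S.inv
  obtain ⟨t0, ht0, ht0θ, ht0s, ht0c⟩ := exists_torsion' hp hB hd' hθ hsk hq' L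
  obtain ⟨y0, hy0⟩ := S.exists_of_tau hp cs hz ((tau_iff hp cs S.lf S.frob S.fr hn' ht0).2 ht0θ) hsp hsd ⟨1, by
    rw [pow_one]; exact ht0s⟩
  have hy0e : e0 y0 = z * t0 * z⁻¹ := by rw [← hy0]; group
  have hy0s : y0 ^ s' = 1 := by
    apply S.inj
    rw [map_pow, map_one, hy0e, conj_pow, ht0s]; group
  have hy01 : orderOf y0 = s' := by
    refine orderOf_eq_prime hy0s ?_
    rintro rfl
    obtain ⟨a, ha⟩ := hL
    apply ha
    rw [← ht0c, ← hy0, map_one, mul_one, inv_mul_cancel, cX_one]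
  obtain ⟨x, hx, hxs⟩ := S.exists_rep hp cs hn0 hθ hn' hz hs hrp hrd hsr
  obtain ⟨h, hh⟩ := exists_conj_le r _ (isPGroup_E hp cs S.inj hx hxs) _
    (hc s' hs' r hr (Ne.symm hrs) y0 ⟨1, by rw [hy01, pow_one]⟩)
  obtain ⟨y, hy⟩ : ∃ y, y = h⁻¹ * y0 * h := ⟨_, rfl⟩
  have hys : orderOf y = s' := by
    rw [← hy01, hy]
    have := orderOf_injective (MulAut.conj h⁻¹).toMonoidHom (MulAut.conj h⁻¹).injective y0
    simpa using this
  have hyc : ∀ a ∈ (Subgroup.zpowers x ⊔ tXr hp S.inj z r : Subgroup X), a * y = y * a := by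
    intro a ha
    have h2 := hh a ha
    rw [Subgroup.mem_centralizer_singleton_iff] at h2
    have h3 : a * (h⁻¹ * y0 * h) = h⁻¹ * (h * a * h⁻¹ * y0) * h := by group
    rw [hy, h3, h2]
    group
  have hyT := S.mem_torus hp cs hrp hsp hrs hrc hrd hn' hz hθ hq hroot hys
    (fun a ha => hyc a (Subgroup.mem_sup_right ha))
  have hyx : ∀ a, cX hp (z⁻¹ * e0 y * z) (rep cs hp.isCartan s a) = cX hp (z⁻¹ * e0 y * z) a := by
    refine fix_of_rp hp cs S.lf p hxs hyT ?_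
    have h2 := hyc x (Subgroup.mem_sup_left (Subgroup.mem_zpowers x))
    calc z⁻¹ * e0 x * z * (z⁻¹ * e0 y * z) = z⁻¹ * (e0 (x * y)) * z := by rw [map_mul]; group
      _ = z⁻¹ * (e0 (y * x)) * z := by rw [h2]
      _ = _ := by rw [map_mul]; group
  have hys1 : (z⁻¹ * e0 y * z) ^ s' = 1 := by
    have h1 : (z⁻¹ * e0 y * z) ^ s' = z⁻¹ * e0 y ^ s' * z := by
      have h2 := conj_pow (i := s') (a := z⁻¹) (b := e0 y)
      rwa [inv_inv] at h2
    rw [h1, ← map_pow, ← hys, pow_orderOf_eq_one, map_one, mul_one, inv_mul_cancel]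
  -- conjugacy
  obtain ⟨v, hv⟩ := exists_weyl_of_conj hp cs S.lf p (s := z⁻¹ * e0 y * z) (t := t0) (c := z⁻¹ * e0 h * z) hyT ht0 (by
    have h7 : e0 y = (e0 h)⁻¹ * (z * t0 * z⁻¹) * e0 h := by rw [← hy0e, hy, map_mul, map_mul, map_inv]
    rw [h7]; group)
  have hfinr := finite_roots hp cs
  have hmc := isMC_cX hp hyT
  refine le_trans (Set.ncard_le_ncard (t := Kill hp cs (z⁻¹ * e0 y * z)) ?_ (hfinr.subset fun a ha => ha.1)) ?_
  · rintro a ⟨ha, hsum⟩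
    refine ⟨ha, ?_⟩
    have h1 : ∀ i, cX hp (z⁻¹ * e0 y * z) (rep cs hp.isCartan (s ^ i) a) = cX hp (z⁻¹ * e0 y * z) a := by
      intro i
      induction i with
      | zero => rw [pow_zero, map_one, Module.End.one_apply]
      | succ i ih => rw [pow_succ', rep_mul_apply, hyx, ih]
    have h2 : cX hp (z⁻¹ * e0 y * z) a ^ (r ^ j) = 1 := by
      have h3 := hmc.sum (Finset.range (r ^ j)) (fun i => rep cs hp.isCartan (s ^ i) a)
      rw [hsum, hmc.zero, Finset.prod_congr rfl (fun i _ => h1 i), Finset.prod_const, Finset.card_range] at h3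
      exact h3.symm
    have h3 : cX hp (z⁻¹ * e0 y * z) a ^ s' = 1 := by
      rw [← cX_pow hp hyT, hys1, cX_one]
    have h4 : orderOf (cX hp (z⁻¹ * e0 y * z) a) ∣ 1 := by
      have hco : Nat.Coprime (r ^ j) s' := Nat.Coprime.pow_left _ ((Nat.coprime_primes hrp hsp).2 hrs)
      have := Nat.dvd_gcd (orderOf_dvd_of_pow_eq_one h2) (orderOf_dvd_of_pow_eq_one h3)
      rwa [hco.gcd_eq_one] at this
    exact orderOf_eq_one_iff.1 (Nat.dvd_one.1 h4)
  · refine Set.ncard_le_ncard_of_injOn (fun a => rep cs hp.isCartan v a) ?_ ?_ (hfinr.subset fun a ha => ha.1)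
    · rintro a ⟨ha, h1⟩
      refine ⟨ha.act v, ?_⟩
      rw [← ht0c, hv, h1]
    · intro a _ b _ hab
      have h1 := congrArg (rep cs hp.isCartan v⁻¹) hab
      simpa only [rep_inv_apply] using h1

end Cfsg.Agent.H630.Exc
end

private theorem dce_ca57e9c64bc1 : _root_.True := by
  try have : _root_.True := by simp only [_root_.Cfsg.Agent.H129.TorusChar.cX.congr_simp]
  try have : _root_.True := by simp only [_root_.Cfsg.Agent.H630.Exc.coordF.eq_1]
  exact _root_.True.intro
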